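import Cfsg.Agent.Lib.MaxSub.TPow.BootShrink
import Cfsg.Agent.Lib.Aschbacher.OrthWreath
import Cfsg.Agent.Lib.Geom.FormClass

/-!
The tensor power stabiliser is proper in the coordinate model; transport from a form similar to a tensor power.
-/

set_option autoImplicit false
set_option linter.unusedSectionVars false

namespace CfsgLib.MaxSub.TPow

open Matrix CfsgLib.Classical CfsgLib.Geom CfsgLib.Geom.OrthSub CfsgLib.MaxSub CfsgLib.MaxSub.OMono
open CfsgLib.Aschbacher (pureMat pureMat_mul permMat permMat_mul_apply)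
open QuadraticMap (polar)
open scoped Matrix MatrixGroups

variable {t k : ℕ} {F : Type*} [Field F]

/-- entries of a wreath element: exchange of one slot -/
theorem wreath_exchange [Fintype F] {g : GL (Fin t → Fin k) F} (hg : g ∈ Cfsg.Geo.tensorWreathStandard k t F)
    (j : Fin t) : ∃ s : Fin t, ∀ p q p' q' : Fin t → Fin k,
      (g : Matrix (Fin t → Fin k) (Fin t → Fin k) F) p q * (g : Matrix (Fin t → Fin k) (Fin t → Fin k) F) p' q' =
        (g : Matrix (Fin t → Fin k) (Fin t → Fin k) F) (Function.update p s (p' s)) (Function.update q j (q' j)) *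
          (g : Matrix (Fin t → Fin k) (Fin t → Fin k) F) (Function.update p' s (p s)) (Function.update q' j (q j)) := by
  obtain ⟨σ, a, ha⟩ := CfsgLib.Aschbacher.Orth.exists_factorisation hg
  refine ⟨σ j, fun p q p' q' => ?_⟩
  rw [ha]
  simp only [permMat_mul_apply, pureMat, Matrix.of_apply]
  rw [← Finset.prod_mul_distrib, ← Finset.prod_mul_distrib]
  refine Finset.prod_congr rfl fun l _ => ?_
  rcases eq_or_ne l j with rfl | hl
  · simp only [Function.comp_apply, Function.update_self]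
    ring
  · simp only [Function.comp_apply, Function.update_of_ne hl, Function.update_of_ne (σ.injective.ne hl)]

/-- the stabiliser is proper -/
theorem base_lt [Fintype F] (hk : Odd k) (hk3 : 3 ≤ k) (ht : 2 ≤ t) [h2 : Fact ((2 : F) ≠ 0)] :
    base t k F < Om t k F := by
  classical
  refine lt_of_le_not_ge inf_le_right fun hle => ?_
  obtain ⟨c, hc⟩ : ∃ c : Fin t → Fin k, c = fun _ => ⟨0, by omega⟩ := ⟨_, rfl⟩
  obtain ⟨i, hi⟩ : ∃ i : Fin t, i = ⟨0, by omega⟩ := ⟨_, rfl⟩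
  obtain ⟨j, hj⟩ : ∃ j : Fin t, j = ⟨1, by omega⟩ := ⟨_, rfl⟩
  have hij : i ≠ j := by simp [hi, hj]
  obtain ⟨x, hx⟩ : ∃ x : Fin k, x = ⟨1, by omega⟩ := ⟨_, rfl⟩
  obtain ⟨y, hy⟩ : ∃ y : Fin k, y = ⟨2, by omega⟩ := ⟨_, rfl⟩
  obtain ⟨p, hp⟩ : ∃ p, p = Function.update c i x := ⟨_, rfl⟩
  obtain ⟨p₂, hp₂⟩ : ∃ p, p = Function.update c i y := ⟨_, rfl⟩
  obtain ⟨r, hr⟩ : ∃ r, r = Function.update c j x := ⟨_, rfl⟩
  have hxc : ∀ l, x ≠ c l := fun l => by simp [hx, hc]
  have hyc : ∀ l, y ≠ c l := fun l => by simp [hy, hc]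
  have hcp : c ≠ p := fun e => hxc i (by have := congrFun e i; rw [hp, Function.update_self] at this; exact this.symm)
  have hpp : p ≠ p₂ := fun e => by
    have := congrFun e i
    rw [hp, hp₂, Function.update_self, Function.update_self, hx, hy, Fin.ext_iff] at this
    simp at this
  have hcp₂ : c ≠ p₂ := fun e => hyc i (by have := congrFun e i; rw [hp₂, Function.update_self] at this; exact this.symm)
  have hrc : r ≠ c := fun e => hxc j (by have := congrFun e j; rw [hr, Function.update_self] at this; exact this)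
  have hrp : r ≠ p := fun e => hxc i (by
    have := congrFun e i
    rw [hr, hp, Function.update_self, Function.update_of_ne hij] at this
    exact this.symm)
  have hrp₂ : r ≠ p₂ := fun e => hyc i (by
    have := congrFun e i
    rw [hr, hp₂, Function.update_self, Function.update_of_ne hij] at this
    exact this.symm)
  obtain ⟨σ, hσ⟩ : ∃ σ, σ = Equiv.swap c p * Equiv.swap p p₂ := ⟨_, rfl⟩
  have h5 : 5 ≤ Fintype.card (Fin t → Fin k) := by
    rw [Fintype.card_fun, Fintype.card_fin, Fintype.card_fin]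
    have h1 : k ^ 2 ≤ k ^ t := Nat.pow_le_pow_right (by omega) ht
    have h2 : 3 * 3 ≤ k * k := Nat.mul_le_mul hk3 hk3
    rw [pow_two] at h1
    omega
  have hmem : isomsToGL (sq (Fin t → Fin k) F) (permQ σ) ∈ Om t k F := by
    rw [Om, omegaGL_eq_map]
    exact Subgroup.mem_map_of_mem _ (permQ_mem_commutator h5
      (by rw [hσ, map_mul, Equiv.Perm.sign_swap hcp, Equiv.Perm.sign_swap hpp]; decide))
  obtain ⟨s, hs⟩ := wreath_exchange (hle hmem).1 j
  have he : ∀ a b : Fin t → Fin k,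
      (isomsToGL (sq (Fin t → Fin k) F) (permQ σ) : Matrix (Fin t → Fin k) (Fin t → Fin k) F) a b =
        if a = σ b then 1 else 0 := fun a b => by
    rw [entry_eq, permQ_single, Pi.single_apply]
  have hσc : σ c = p := by
    rw [hσ, Equiv.Perm.mul_apply, Equiv.swap_apply_of_ne_of_ne hcp hcp₂, Equiv.swap_apply_left]
  have hσr : σ r = r := by
    rw [hσ, Equiv.Perm.mul_apply, Equiv.swap_apply_of_ne_of_ne hrp hrp₂, Equiv.swap_apply_of_ne_of_ne hrc hrp]
  have h := hs p c r r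
  rw [show Function.update c j (r j) = r by rw [hr, Function.update_self],
    show Function.update r j (c j) = c by rw [hr, Function.update_idem, Function.update_eq_self]] at h
  simp only [he, hσc, hσr, if_true, mul_one] at h
  have h1 : Function.update p s (r s) = r := by
    by_contra hne
    rw [if_neg hne, zero_mul] at h
    exact one_ne_zero h
  rcases eq_or_ne s i with rfl | hsi
  · have := congrFun h1 j
    rw [Function.update_of_ne (Ne.symm hij), hp, Function.update_of_ne (Ne.symm hij), hr, Function.update_self] at this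
    exact hxc j this.symm
  · have := congrFun h1 i
    rw [Function.update_of_ne (Ne.symm hsi), hp, Function.update_self, hr, Function.update_of_ne hij] at this
    exact hxc i this

/-- a symmetric form in odd dimension is similar to the sum of squares -/
theorem exists_congr [Fintype F] (h2 : (2 : F) ≠ 0) (hk : Odd k) {f : (Fin k → F) → (Fin k → F) → F}
    (hf : Cfsg.Geo.IsSymmetricForm f) : ∃ (S : GL (Fin k) F) (l : F), l ≠ 0 ∧
      (S : Matrix (Fin k) (Fin k) F)ᵀ * Cfsg.Geo.gramMatrix f * (S : Matrix (Fin k) (Fin k) F) =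
        l • (1 : Matrix (Fin k) (Fin k) F) := by
  classical
  obtain ⟨B, hBd⟩ : ∃ B, B = TensorOO.toBilin hf := ⟨_, rfl⟩
  have hB : ∀ x y, B x y = f x y := fun x y => by rw [hBd]; rfl
  obtain ⟨Q₁, hQ₁d⟩ : ∃ Q₁, Q₁ = LinearMap.BilinMap.toQuadraticMap B := ⟨_, rfl⟩
  have hQ₁ : ∀ x y, polar Q₁ x y = 2 * f x y := fun x y => by
    rw [hQ₁d, LinearMap.BilinMap.polar_toQuadraticMap, hB, hB, hf.symm y x]
    ring
  have hsep₁ : ∀ x, (∀ y, polar Q₁ x y = 0) → x = 0 := fun x hx => by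
    by_contra hx0
    obtain ⟨y, hy⟩ := (hf.nondegenerate x hx0).2
    have := hx y
    rw [hQ₁, mul_eq_zero] at this
    exact hy (this.resolve_left h2)
  obtain ⟨d, hd⟩ : ∃ d, d = (Cfsg.Geo.gramMatrix f).det := ⟨_, rfl⟩
  have hM₁ : LinearMap.toMatrix₂ (Pi.basisFun F (Fin k)) (Pi.basisFun F (Fin k)) Q₁.polarBilin =
      (2 : F) • Cfsg.Geo.gramMatrix f := by
    ext a b
    rw [LinearMap.toMatrix₂_apply, Matrix.smul_apply, Pi.basisFun_apply, Pi.basisFun_apply, smul_eq_mul]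
    exact hQ₁ _ _
  have hd0 : d ≠ 0 := by
    intro h0
    obtain ⟨v, hv0, hv⟩ := Matrix.exists_mulVec_eq_zero_iff.2 (hd ▸ h0)
    refine hv0 (hsep₁ v fun y => ?_)
    have key : (Q₁.polarBilin : (Fin k → F) →ₗ[F] (Fin k → F) →ₗ[F] F) v = 0 := by
      refine (Pi.basisFun F (Fin k)).ext fun b => ?_
      rw [Pi.basisFun_apply]
      show polar Q₁ v (Pi.single b 1) = 0
      rw [hQ₁]
      refine mul_eq_zero_of_right _ ?_
      rw [← hB]
      have e : v = ∑ a, v a • (Pi.single a 1 : Fin k → F) := by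
        funext l; simp [Finset.sum_apply, Pi.single_apply]
      rw [e, map_sum, LinearMap.sum_apply]
      have h1 := congrFun hv b
      rw [Pi.zero_apply, Matrix.mulVec, dotProduct] at h1
      rw [← h1]
      refine Finset.sum_congr rfl fun a _ => ?_
      rw [map_smul, LinearMap.smul_apply, hB, smul_eq_mul, Cfsg.Geo.gramMatrix, hf.symm (Pi.single b 1)]
      ring
    exact LinearMap.congr_fun key y
  obtain ⟨Q', hQ'd⟩ : ∃ Q', Q' = d • sq (Fin k) F := ⟨_, rfl⟩
  have hQ' : ∀ x y, polar Q' x y = d * (2 * (x ⬝ᵥ y)) := fun x y => by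
    rw [hQ'd, ← polar_sq]
    simp only [QuadraticMap.polar, QuadraticMap.smul_apply, smul_eq_mul]
    ring
  have hsep' : ∀ x, (∀ y, polar Q' x y = 0) → x = 0 := fun x hx => sq_sep h2 x fun y => by
    rw [polar_sq]
    have := hx y
    rw [hQ', mul_eq_zero] at this
    exact this.resolve_left hd0
  have hM' : LinearMap.toMatrix₂ (Pi.basisFun F (Fin k)) (Pi.basisFun F (Fin k)) Q'.polarBilin =
      (d * 2) • (1 : Matrix (Fin k) (Fin k) F) := by
    ext a b
    rw [LinearMap.toMatrix₂_apply, Matrix.smul_apply, Pi.basisFun_apply, Pi.basisFun_apply, smul_eq_mul]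
    show polar Q' _ _ = _
    rw [hQ']
    rcases eq_or_ne a b with rfl | hab
    · simp
    · simp [hab]
  obtain ⟨m, hm⟩ := hk
  obtain ⟨e, he⟩ := exists_isometry_of_disc Q' Q₁ h2 hsep' hsep₁ (Pi.basisFun F (Fin k)) (Pi.basisFun F (Fin k))
    (by
      refine ⟨2 ^ k * d ^ (m + 1), ?_⟩
      rw [hM', hM₁, det_smul, det_smul, det_one, Fintype.card_fin, ← hd, mul_one, mul_pow, hm]
      ring)
  obtain ⟨S, hS⟩ := (glLin (F := F) (ι := Fin k)).surjective e
  refine ⟨S, d, hd0, Matrix.ext fun a b => ?_⟩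
  have h1 : polar Q₁ (e (Pi.single a 1)) (e (Pi.single b 1)) = polar Q' (Pi.single a 1) (Pi.single b 1) := by
    simp only [QuadraticMap.polar, ← map_add, he]
  rw [hQ₁, hQ'] at h1
  have h3 : f (e (Pi.single a 1)) (e (Pi.single b 1)) = d * ((Pi.single a 1 : Fin k → F) ⬝ᵥ Pi.single b 1) :=
    mul_left_cancel₀ h2 (h1.trans (by ring))
  have e4 : ∀ x y, f x y = x ⬝ᵥ (Cfsg.Geo.gramMatrix f *ᵥ y) := fun x y => by
    rw [← TensorFrame.formOfGram_gram id f hf.bilinear.add_left hf.bilinear.smul_left hf.bilinear.add_right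
      hf.bilinear.smul_right]
    simp only [Cfsg.Geo.formOfGram, Matrix.mulVec, dotProduct, Finset.mul_sum, id_eq, mul_assoc]
  rw [e4, ← hS, glLin_apply, glLin_apply, mulVec_mulVec, dotProduct_mulVec, ← Matrix.mulVec_transpose,
    mulVec_mulVec] at h3
  rw [Matrix.mulVec_single_one, dotProduct_single, mul_one] at h3
  rw [Matrix.smul_apply, smul_eq_mul]
  have hsym : ∀ x y, Cfsg.Geo.gramMatrix f x y = Cfsg.Geo.gramMatrix f y x := fun x y => hf.symm _ _
  have hG : (Cfsg.Geo.gramMatrix f)ᵀ = Cfsg.Geo.gramMatrix f := Matrix.ext fun x y => hsym y x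
  have h4 : ((S : Matrix (Fin k) (Fin k) F)ᵀ * Cfsg.Geo.gramMatrix f * (S : Matrix (Fin k) (Fin k) F))ᵀ b a =
      d * (1 : Matrix (Fin k) (Fin k) F) a b := by
    rw [Matrix.mul_assoc, Matrix.transpose_mul, Matrix.transpose_transpose]
    refine h3.trans ?_
    rw [single_dotProduct, one_mul, Pi.single_apply, Matrix.one_apply]
  exact h4

/-- coordinates of a tensor power -/
def coordEquiv {ι : Type} (e : ι ≃ (Fin t → Fin k)) : ((Fin t → Fin k) → F) ≃ₗ[F] (ι → F) :=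
  LinearEquiv.funCongrLeft F F e

theorem reindex_mulVec {ι : Type} [Fintype ι] [DecidableEq ι] (e : ι ≃ (Fin t → Fin k))
    (A : Matrix (Fin t → Fin k) (Fin t → Fin k) F) (y : (Fin t → Fin k) → F) :
    Matrix.reindex e.symm e.symm A *ᵥ (y ∘ e) = (A *ᵥ y) ∘ e := by
  funext r
  simp only [Matrix.mulVec, dotProduct, Matrix.reindex_apply, Matrix.submatrix_apply, Equiv.symm_symm,
    Function.comp_apply]
  exact Equiv.sum_comp e (fun q => A (e r) q * y q)

/-- maximality passes along an isomorphism -/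
theorem isMaximalIn_map {G H : Type*} [Group G] [Group H] (E : G ≃* H) {B O : Subgroup G} (hlt : B < O)
    (hmax : ∀ M, B ≤ M → M ≤ O → M = B ∨ M = O) :
    Cfsg.Geo.IsMaximalIn (O.map E.toMonoidHom) (B.map E.toMonoidHom) := by
  refine ⟨(Subgroup.map_lt_map_iff_of_injective E.injective).2 hlt, fun M h1 h2 => ?_⟩
  have hM : (M.comap E.toMonoidHom).map E.toMonoidHom = M :=
    Subgroup.map_comap_eq_self_of_surjective E.surjective M
  rcases hmax (M.comap E.toMonoidHom) (Subgroup.map_le_iff_le_comap.1 h1) (by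
      rw [← Subgroup.map_le_map_iff_of_injective (f := E.toMonoidHom) E.injective, hM]; exact h2) with h | h
  · left; rw [← hM, h]
  · right; rw [← hM, h]

variable [Fintype F]

/-- maximality from the coordinate model -/
theorem isMaximalIn_transport {ι : Type} [Fintype ι] [DecidableEq ι] (h2 : (2 : F) ≠ 0) (hk : Odd k)
    (hk3 : 3 ≤ k) (ht : 2 ≤ t)
    (main : ∀ M : Subgroup (GL (Fin t → Fin k) F), base t k F ≤ M → M ≤ Om t k F → M = base t k F ∨ M = Om t k F)
    (Qn : QuadraticForm F (ι → F)) (e : ι ≃ (Fin t → Fin k)) (P : GL ι F)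
    {f₁ : (Fin k → F) → (Fin k → F) → F} (hf₁ : Cfsg.Geo.IsSymmetricForm f₁)
    (hT : Cfsg.Geo.IsTensorPowerFormStructure id (polar Qn) f₁ e P) :
    Cfsg.Geo.IsMaximalIn (Cfsg.Geo.omegaGL (⇑Qn))
      (Cfsg.Geo.tensorWreathSubgroup k t e P ⊓ Cfsg.Geo.omegaGL (⇑Qn)) := by
  classical
  haveI : Fact ((2 : F) ≠ 0) := ⟨h2⟩
  obtain ⟨S, l, hl, hS⟩ := exists_congr h2 hk hf₁
  obtain ⟨c, hc, hform⟩ := hT
  obtain ⟨T, hTv⟩ : ∃ T : GL (Fin t → Fin k) F,
      (T : Matrix (Fin t → Fin k) (Fin t → Fin k) F) = pureMat fun _ => (S : Matrix (Fin k) (Fin k) F) :=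
    ⟨⟨pureMat fun _ => (S : Matrix (Fin k) (Fin k) F),
      pureMat fun _ => ((S⁻¹ : GL (Fin k) F) : Matrix (Fin k) (Fin k) F),
      by rw [pureMat_mul]; simp [CfsgLib.Aschbacher.pureMat_one],
      by rw [pureMat_mul]; simp [CfsgLib.Aschbacher.pureMat_one]⟩, rfl⟩
  have hTW : T ∈ Cfsg.Geo.tensorWreathStandard k t F :=
    Subgroup.subset_closure (Or.inl ⟨fun _ => S, fun x y => by rw [hTv]; rfl⟩)
  obtain ⟨E, hE⟩ : ∃ E : GL (Fin t → Fin k) F ≃* GL ι F,
      E = (Cfsg.Geo.glReindex e.symm).trans (MulAut.conj (P * Cfsg.Geo.glReindex e.symm T)) := ⟨_, rfl⟩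
  obtain ⟨ψ, hψd⟩ : ∃ ψ : ((Fin t → Fin k) → F) ≃ₗ[F] (ι → F), ∀ y,
      ψ y = (P : Matrix ι ι F) *ᵥ (((T : Matrix (Fin t → Fin k) (Fin t → Fin k) F) *ᵥ y) ∘ e) :=
    ⟨((glLin T).trans (coordEquiv e)).trans (glLin P), fun y => rfl⟩
  obtain ⟨a, had⟩ : ∃ a, a = c * l ^ t / 2 := ⟨_, rfl⟩
  have ha : a ≠ 0 := by rw [had]; exact div_ne_zero (mul_ne_zero hc (pow_ne_zero _ hl)) h2
  have hψq : ∀ y, Qn (ψ y) = a * sq (Fin t → Fin k) F y := by
    intro y
    apply mul_left_cancel₀ h2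
    have e1 : polar Qn (ψ y) (ψ y) = 2 * Qn (ψ y) := by
      rw [QuadraticMap.polar_self, nsmul_eq_mul, Nat.cast_ofNat]
    rw [← e1, hψd, hform]
    simp only [id_eq]
    obtain ⟨z, hz⟩ : ∃ z, z = (T : Matrix (Fin t → Fin k) (Fin t → Fin k) F) *ᵥ y := ⟨_, rfl⟩
    rw [← hz]
    have e2 : (∑ p, ∑ q, z p * (∏ i, Cfsg.Geo.gramMatrix f₁ (p i) (q i)) * z q) =
        z ⬝ᵥ ((pureMat fun _ : Fin t => Cfsg.Geo.gramMatrix f₁) *ᵥ z) := by
      simp only [Matrix.mulVec, dotProduct, Finset.mul_sum, pureMat, Matrix.of_apply, mul_assoc]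
    rw [e2, hz, dotProduct_mulVec, ← Matrix.mulVec_transpose, mulVec_mulVec, dotProduct_comm,
      dotProduct_mulVec, ← Matrix.mulVec_transpose, mulVec_mulVec]
    have e3 : ((pureMat fun _ : Fin t => Cfsg.Geo.gramMatrix f₁)ᵀ *
        (T : Matrix (Fin t → Fin k) (Fin t → Fin k) F))ᵀ * (T : Matrix (Fin t → Fin k) (Fin t → Fin k) F) =
        l ^ t • (1 : Matrix (Fin t → Fin k) (Fin t → Fin k) F) := by
      rw [Matrix.transpose_mul, Matrix.transpose_transpose, hTv, CfsgLib.Aschbacher.Orth.pureMat_transpose,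
        pureMat_mul, pureMat_mul]
      simp only [← Matrix.mul_assoc, hS]
      rw [CfsgLib.Aschbacher.Orth.pureMat_smul_each, CfsgLib.Aschbacher.pureMat_one, Finset.prod_const,
        Finset.card_univ, Fintype.card_fin]
    rw [e3, Matrix.smul_mulVec, Matrix.one_mulVec, smul_dotProduct, sq_apply, smul_eq_mul, had]
    field_simp
  have hψ' : ∀ x, Qn x = a * sq (Fin t → Fin k) F (ψ.symm x) := fun x => by
    rw [← hψq, ψ.apply_symm_apply]
  obtain ⟨Φ, hΦ⟩ : ∃ Φ, Φ = conjHom Qn ψ.symm ha hψ' := ⟨_, rfl⟩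
  have hΦapp : ∀ (g : quadIsoms Qn) y, (Φ g).1 y = ψ.symm (g.1 (ψ y)) := fun g y => by rw [hΦ]; rfl
  have hEψ : ∀ (h : GL (Fin t → Fin k) F) y,
      (E h : Matrix ι ι F) *ᵥ ψ y = ψ ((h : Matrix (Fin t → Fin k) (Fin t → Fin k) F) *ᵥ y) := by
    intro h y
    rw [hE]
    show ((P * Cfsg.Geo.glReindex e.symm T * Cfsg.Geo.glReindex e.symm h *
      (P * Cfsg.Geo.glReindex e.symm T)⁻¹ : GL ι F) : Matrix ι ι F) *ᵥ _ = _
    have hψ2 : ∀ y, ψ y = ((P * Cfsg.Geo.glReindex e.symm T : GL ι F) : Matrix ι ι F) *ᵥ (y ∘ e) := fun y => by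
      rw [hψd, Units.val_mul, ← mulVec_mulVec, ← reindex_mulVec]
      rfl
    rw [hψ2, hψ2, mulVec_mulVec, ← Units.val_mul, inv_mul_cancel_right, Units.val_mul, ← mulVec_mulVec,
      ← reindex_mulVec]
    rfl
  have hcomp : E.toMonoidHom.comp ((isomsToGL (sq (Fin t → Fin k) F)).comp Φ.toMonoidHom) = isomsToGL Qn := by
    refine MonoidHom.ext fun g => Units.ext (Matrix.ext_iff_mulVec.2 fun x => ?_)
    obtain ⟨y, rfl⟩ := ψ.surjective x
    show (E (isomsToGL (sq (Fin t → Fin k) F) (Φ g)) : Matrix ι ι F) *ᵥ ψ y = _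
    rw [hEψ, isomsToGL_mulVec, hΦapp, ψ.apply_symm_apply, isomsToGL_mulVec]
  have hO : Cfsg.Geo.omegaGL (⇑Qn) = (Om t k F).map E.toMonoidHom := by
    rw [omegaGL_eq_map, Om, omegaGL_eq_map, Subgroup.map_map, ← hcomp, ← MonoidHom.comp_assoc, ← Subgroup.map_map,
      hΦ, conjHom_commutator]
  have hW : Cfsg.Geo.tensorWreathSubgroup k t e P =
      (Cfsg.Geo.tensorWreathStandard k t F).map E.toMonoidHom := by
    ext g
    constructor
    · rintro ⟨_, ⟨h, hh, rfl⟩, rfl⟩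
      refine ⟨T⁻¹ * h * T, mul_mem (mul_mem (inv_mem hTW) hh) hTW, ?_⟩
      rw [hE]
      show (P * Cfsg.Geo.glReindex e.symm T) * Cfsg.Geo.glReindex e.symm (T⁻¹ * h * T) *
        (P * Cfsg.Geo.glReindex e.symm T)⁻¹ = P * Cfsg.Geo.glReindex e.symm h * P⁻¹
      rw [map_mul, map_mul, map_inv]
      group
    · rintro ⟨h, hh, rfl⟩
      refine ⟨_, ⟨T * h * T⁻¹, mul_mem (mul_mem hTW hh) (inv_mem hTW), rfl⟩, ?_⟩
      rw [hE]
      show P * Cfsg.Geo.glReindex e.symm (T * h * T⁻¹) * P⁻¹ =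
        (P * Cfsg.Geo.glReindex e.symm T) * Cfsg.Geo.glReindex e.symm h * (P * Cfsg.Geo.glReindex e.symm T)⁻¹
      rw [map_mul, map_mul, map_inv]
      group
  rw [hO, hW, ← Subgroup.map_inf _ _ _ E.injective]
  exact isMaximalIn_map E (base_lt hk hk3 ht) main

/-- the frozen odd-dimensional statement from the coordinate model -/
theorem of_main
    (main : ∀ (t k : ℕ), Odd k → 3 ≤ k → 2 ≤ t → ∀ [Fact ((2 : F) ≠ 0)], ¬ (Fintype.card F = 3 ∧ k = 3) →
      ∀ {M : Subgroup (GL (Fin t → Fin k) F)}, base t k F ≤ M → M ≤ Om t k F → M = base t k F ∨ M = Om t k F)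
    (hodd : Odd (Fintype.card F)) (m : ℕ) (k t : ℕ) (hk : 3 ≤ k) (ht : 2 ≤ t)
    (hex : ¬ (Fintype.card F = 3 ∧ k = 3)) (e : (Unit ⊕ (Fin m ⊕ Fin m)) ≃ (Fin t → Fin k))
    (P : GL (Unit ⊕ (Fin m ⊕ Fin m)) F) (f₁ : (Fin k → F) → (Fin k → F) → F)
    (hf₁ : Cfsg.Geo.IsSymmetricForm f₁)
    (hT : Cfsg.Geo.IsTensorPowerFormStructure id (QuadraticMap.polar (Cfsg.quadFormOdd m F)) f₁ e P) :
    Cfsg.Geo.IsMaximalIn (Cfsg.Geo.omegaGL (Cfsg.quadFormOdd m F))
      (Cfsg.Geo.tensorWreathSubgroup k t e P ⊓ Cfsg.Geo.omegaGL (Cfsg.quadFormOdd m F)) := by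
  have h2 := CfsgLib.Classical.two_ne_zero_of_odd (F := F) hodd
  have hkodd : Odd k := by
    have h := Fintype.card_congr e
    simp only [Fintype.card_sum, Fintype.card_unit, Fintype.card_fin, Fintype.card_fun] at h
    have hpow : Odd (k ^ t) := ⟨m, by omega⟩
    exact (Nat.odd_pow_iff (by omega)).1 hpow
  rw [← qfOdd_coe] at hT ⊢
  haveI : Fact ((2 : F) ≠ 0) := ⟨h2⟩
  exact isMaximalIn_transport h2 hkodd hk ht (fun M h1 h3 => main t k hkodd hk ht hex h1 h3) (qfOdd m F) e P hf₁ hT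

end CfsgLib.MaxSub.TPow
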