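import Mathlib
import Cfsg.Agent.Lib.Geom.FiniteField

/-!
The standard orthogonal space in odd characteristic: axial involutions and maps carrying one vector to
another of the same value, fixing prescribed coordinates.
-/

set_option autoImplicit false
set_option linter.unusedSectionVars false

namespace CfsgLib.MaxSub.TPow

open Matrix
open scoped MatrixGroups

variable {ι : Type*} [Fintype ι] [DecidableEq ι] {F : Type*} [Field F]

/-- `1` on `h`, `-1` on its orthogonal -/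
noncomputable def ax (h : ι → F) : Matrix ι ι F := (2 / (h ⬝ᵥ h)) • vecMulVec h h - 1

theorem ax_mulVec (h x : ι → F) : ax h *ᵥ x = (2 / (h ⬝ᵥ h) * (h ⬝ᵥ x)) • h - x := by
  rw [ax, sub_mulVec, smul_mulVec, vecMulVec_mulVec, one_mulVec, op_smul_eq_smul, smul_smul]

theorem ax_transpose (h : ι → F) : (ax h)ᵀ = ax h := by
  rw [ax, transpose_sub, transpose_smul, transpose_one, transpose_vecMulVec]

theorem ax_self {h : ι → F} (hh : h ⬝ᵥ h ≠ 0) : ax h *ᵥ h = h := by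
  rw [ax_mulVec, div_mul_cancel₀ _ hh, two_smul, add_sub_cancel_right]

theorem ax_perp {h x : ι → F} (hx : h ⬝ᵥ x = 0) : ax h *ᵥ x = -x := by
  rw [ax_mulVec, hx, mul_zero, zero_smul, zero_sub]

theorem ax_mul_self {h : ι → F} (hh : h ⬝ᵥ h ≠ 0) : ax h * ax h = 1 := by
  refine ext_iff_mulVec.2 fun x => ?_
  rw [← mulVec_mulVec, ax_mulVec h x, mulVec_sub, mulVec_smul, ax_self hh, ax_mulVec h x, one_mulVec]
  abel

theorem ax_orth {h : ι → F} (hh : h ⬝ᵥ h ≠ 0) : (ax h)ᵀ * ax h = 1 := by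
  rw [ax_transpose, ax_mul_self hh]

theorem ax_smul (h : ι → F) {c : F} (hc : c ≠ 0) : ax (c • h) = ax h := by
  rw [ax, ax, smul_dotProduct, dotProduct_smul, smul_vecMulVec, vecMulVec_smul, smul_smul, smul_smul,
    smul_eq_mul, smul_eq_mul]
  congr 2
  rcases eq_or_ne (h ⬝ᵥ h) 0 with h0 | h0
  · simp [h0]
  · field_simp

theorem dot_orth {g : Matrix ι ι F} (hg : gᵀ * g = 1) (x y : ι → F) : (g *ᵥ x) ⬝ᵥ (g *ᵥ y) = x ⬝ᵥ y := by
  rw [dotProduct_mulVec, ← mulVec_transpose, mulVec_mulVec, hg, one_mulVec]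

theorem ax_conj {g : Matrix ι ι F} (hg : gᵀ * g = 1) (h : ι → F) : g * ax h * gᵀ = ax (g *ᵥ h) := by
  have hg' : g * gᵀ = 1 := mul_eq_one_comm.1 hg
  rw [ax, ax, dot_orth hg, mul_sub, sub_mul, Matrix.mul_one, hg', Matrix.mul_smul, Matrix.smul_mul,
    Matrix.mul_vecMulVec, Matrix.vecMulVec_mul, vecMul_transpose]

theorem ax_single (a : ι) :
    ax (Pi.single a (1 : F)) = diagonal fun c => if c = a then (1 : F) else -1 := by
  refine ext_iff_mulVec.2 fun x => funext fun c => ?_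
  rw [ax_mulVec, mulVec_diagonal, single_dotProduct, single_dotProduct]
  rcases eq_or_ne c a with rfl | hc
  · simp; ring
  · simp [hc]

theorem ax_comm_orth {h h' : ι → F} (o : h ⬝ᵥ h' = 0) : ax h * ax h' = ax h' * ax h := by
  have o' : h' ⬝ᵥ h = 0 := by rw [dotProduct_comm]; exact o
  refine ext_iff_mulVec.2 fun x => ?_
  rw [← mulVec_mulVec, ← mulVec_mulVec, ax_mulVec h' x, ax_mulVec h x, mulVec_sub, mulVec_sub, mulVec_smul,
    mulVec_smul, ax_perp o, ax_perp o', ax_mulVec, ax_mulVec]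
  module

theorem eq_or_orth_of_comm (h2 : (2 : F) ≠ 0) {h h' : ι → F} (hh : h ⬝ᵥ h ≠ 0) (hh' : h' ⬝ᵥ h' ≠ 0)
    (c : ax h * ax h' = ax h' * ax h) : (∃ l : F, l ≠ 0 ∧ h' = l • h) ∨ h ⬝ᵥ h' = 0 := by
  by_cases o : h ⬝ᵥ h' = 0
  · exact Or.inr o
  left
  -- `ax h h'` is fixed by `ax h'`, hence a multiple of `h'`
  have e := congrArg (fun M => M *ᵥ h') c
  simp only [← mulVec_mulVec, ax_self hh'] at e
  rw [ax_mulVec h' (ax h *ᵥ h'), eq_sub_iff_add_eq, ← two_smul F] at e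
  set μ := 2 / (h' ⬝ᵥ h') * (h' ⬝ᵥ ax h *ᵥ h') with hμ
  clear_value μ
  rw [ax_mulVec h h', smul_sub, smul_smul, sub_eq_iff_eq_add, ← add_smul] at e
  have hν : 2 * (2 / (h ⬝ᵥ h) * (h ⬝ᵥ h')) ≠ 0 :=
    mul_ne_zero h2 (mul_ne_zero (div_ne_zero h2 hh) o)
  have hμ2 : μ + 2 ≠ 0 := fun h0 => by
    rw [h0, zero_smul, smul_eq_zero] at e
    rcases e with e | e
    · exact hν e
    · exact hh (by rw [e, dotProduct_zero])
  refine ⟨(μ + 2)⁻¹ * (2 * (2 / (h ⬝ᵥ h) * (h ⬝ᵥ h'))), mul_ne_zero (inv_ne_zero hμ2) hν, ?_⟩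
  rw [mul_smul, e, inv_smul_smul₀ hμ2]

/-- two vectors of the same non-zero value are conjugate, fixing their common orthogonal -/
theorem exists_map (h2 : (2 : F) ≠ 0) {a b : ι → F} (ha : a ⬝ᵥ a ≠ 0) (hab : a ⬝ᵥ a = b ⬝ᵥ b) :
    ∃ g : Matrix ι ι F, gᵀ * g = 1 ∧ g *ᵥ a = b ∧ ∀ x, a ⬝ᵥ x = 0 → b ⬝ᵥ x = 0 → g *ᵥ x = x := by
  have hb : b ⬝ᵥ b ≠ 0 := hab ▸ ha
  have key : ∀ b : ι → F, a ⬝ᵥ a = b ⬝ᵥ b → (a - b) ⬝ᵥ (a - b) ≠ 0 →
      ∃ g : Matrix ι ι F, gᵀ * g = 1 ∧ g *ᵥ a = b ∧ ∀ x, a ⬝ᵥ x = 0 → b ⬝ᵥ x = 0 → g *ᵥ x = x := by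
    intro b hab hd
    refine ⟨-ax (a - b), ?_, ?_, fun x hax hbx => ?_⟩
    · rw [transpose_neg, Matrix.neg_mul, Matrix.mul_neg, neg_neg, ax_orth hd]
    · rw [neg_mulVec, ax_mulVec]
      have e : 2 * ((a - b) ⬝ᵥ a) = (a - b) ⬝ᵥ (a - b) := by
        simp only [sub_dotProduct, dotProduct_sub, dotProduct_comm b a]
        linear_combination hab
      rw [div_mul_eq_mul_div, e, div_self hd, one_smul]
      abel
    · rw [neg_mulVec, ax_perp (by rw [sub_dotProduct, hax, hbx, sub_zero]), neg_neg]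
  by_cases hd : (a - b) ⬝ᵥ (a - b) = 0
  · obtain ⟨g, hg, hga, hgx⟩ := key (-b) (by rw [neg_dotProduct, dotProduct_neg, neg_neg, hab]) (by
      intro h0
      refine mul_ne_zero (mul_ne_zero h2 h2) ha ?_
      simp only [sub_neg_eq_add, add_dotProduct, dotProduct_add, sub_dotProduct, dotProduct_sub] at hd h0
      linear_combination hd + h0 + 2 * hab)
    refine ⟨-ax b * g, ?_, ?_, fun x hax hbx => ?_⟩
    · rw [transpose_mul, transpose_neg, Matrix.mul_assoc, ← Matrix.mul_assoc (-(ax b)ᵀ), Matrix.neg_mul,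
        Matrix.mul_neg, neg_neg, ax_orth hb, Matrix.one_mul, hg]
    · rw [← mulVec_mulVec, hga, neg_mulVec, mulVec_neg, ax_self hb, neg_neg]
    · rw [← mulVec_mulVec, hgx x hax (by rw [neg_dotProduct, hbx, neg_zero]), neg_mulVec, ax_perp hbx,
        neg_neg]
  · exact key b hab hd

/-- as `exists_map`, keeping given coordinates -/
theorem exists_map_coord (h2 : (2 : F) ≠ 0) {a b : ι → F} (ha : a ⬝ᵥ a ≠ 0) (hab : a ⬝ᵥ a = b ⬝ᵥ b)
    {S : Finset ι} (haS : ∀ s ∈ S, a s = 0) (hbS : ∀ s ∈ S, b s = 0) :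
    ∃ g : Matrix ι ι F, gᵀ * g = 1 ∧ g *ᵥ a = b ∧ ∀ s ∈ S, g *ᵥ Pi.single s 1 = Pi.single s 1 := by
  obtain ⟨g, hg, hga, hgx⟩ := exists_map h2 ha hab
  exact ⟨g, hg, hga, fun s hs => hgx _ (by simp [haS s hs]) (by simp [hbS s hs])⟩

/-- a vector supported outside `S` has an orthogonal unit vector there, if three coordinates are free -/
theorem exists_unit_perp [Finite F] (h2 : (2 : F) ≠ 0) {h : ι → F} (hh : h ⬝ᵥ h ≠ 0) {S : Finset ι}
    (hS : ∀ s ∈ S, h s = 0) (h3 : 3 ≤ Sᶜ.card) :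
    ∃ g : ι → F, g ⬝ᵥ g = 1 ∧ h ⬝ᵥ g = 0 ∧ ∀ s ∈ S, g s = 0 := by
  haveI := Fintype.ofFinite F
  obtain ⟨x, hx, y, hy, z, hz, hxy, hxz, hyz⟩ := Finset.two_lt_card.1 h3
  simp only [Finset.mem_compl] at hx hy hz
  obtain ⟨α, β, hαβ⟩ := CfsgLib.Geom.exists_binary_eq h2 (one_ne_zero : (1 : F) ≠ 0) one_ne_zero (h ⬝ᵥ h)
  simp only [one_mul] at hαβ
  set w : ι → F := Pi.single x α + Pi.single y β with hw
  have hww : w ⬝ᵥ w = h ⬝ᵥ h := by
    rw [← hαβ, hw]
    simp [add_dotProduct, dotProduct_add, hxy, Ne.symm hxy, sq]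
  obtain ⟨g, hg, hgw, hgS⟩ := exists_map_coord h2 (S := S) (a := w) (b := h) (hww ▸ hh) hww
    (fun s hs => by
      rw [hw, Pi.add_apply, Pi.single_eq_of_ne (show s ≠ x from fun e => hx (e ▸ hs)),
        Pi.single_eq_of_ne (show s ≠ y from fun e => hy (e ▸ hs)), add_zero]) hS
  refine ⟨g *ᵥ Pi.single z 1, ?_, ?_, fun s hs => ?_⟩
  · rw [dot_orth hg]; simp
  · rw [← hgw, dot_orth hg, hw]; simp [add_dotProduct, hxz, Ne.symm hxz, hyz, Ne.symm hyz]
  · have := dot_orth hg (Pi.single s (1 : F)) (Pi.single z 1)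
    rw [hgS s hs, single_dotProduct, single_dotProduct, one_mul, one_mul,
      Pi.single_eq_of_ne (fun e => hz (by rw [← e]; exact hs))] at this
    exact this

/-- a unit vector in the plane of two coordinates, off both axes -/
theorem exists_unit_off [Fintype F] (h2 : (2 : F) ≠ 0) (h7 : 7 ≤ Fintype.card F) :
    ∃ r s : F, r * r + s * s = 1 ∧ r ≠ 0 ∧ s ≠ 0 := by
  classical
  have hroots : (Finset.univ.filter fun u : F => u = 0 ∨ u * u = 1 ∨ u * u = -1).card ≤ 5 := by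
    refine le_trans (Finset.card_le_card (t := {0} ∪ (Finset.univ.filter fun u : F => u * u = 1) ∪
      Finset.univ.filter fun u : F => u * u = -1) fun u hu => by
        simp only [Finset.mem_filter, Finset.mem_univ, true_and] at hu
        simp only [Finset.mem_union, Finset.mem_singleton, Finset.mem_filter, Finset.mem_univ, true_and]
        tauto) ?_
    have two : ∀ c : F, (Finset.univ.filter fun u : F => u * u = c).card ≤ 2 := by
      intro c
      by_cases hc : ∃ u, u * u = c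
      · obtain ⟨v, hv⟩ := hc
        refine le_trans (Finset.card_le_card (t := {v, -v}) fun u hu => ?_) Finset.card_le_two
        simp only [Finset.mem_filter, Finset.mem_univ, true_and] at hu
        rcases mul_self_eq_mul_self_iff.1 (hu.trans hv.symm) with e | e <;> simp [e]
      · rw [Finset.filter_eq_empty_iff.2 fun u _ e => hc ⟨u, e⟩]; simp
    refine le_trans (Finset.card_union_le _ _) ?_
    have := Finset.card_union_le ({0} : Finset F) (Finset.univ.filter fun u : F => u * u = 1)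
    have := two 1
    have := two (-1)
    simp only [Finset.card_singleton] at *
    omega
  obtain ⟨u, hu⟩ : ∃ u : F, u ∉ Finset.univ.filter fun u : F => u = 0 ∨ u * u = 1 ∨ u * u = -1 := by
    by_contra hall
    simp only [not_exists, not_not] at hall
    have := Finset.card_le_card (s := Finset.univ) fun u _ => hall u
    rw [Finset.card_univ] at this
    omega
  simp only [Finset.mem_filter, Finset.mem_univ, true_and, not_or] at hu
  obtain ⟨u0, u1, um⟩ := hu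
  have hd : (1 : F) + u * u ≠ 0 := fun e => um (by linear_combination e)
  refine ⟨(1 - u * u) / (1 + u * u), 2 * u / (1 + u * u), ?_,
    div_ne_zero (sub_ne_zero.2 (Ne.symm u1)) hd, div_ne_zero (mul_ne_zero h2 u0) hd⟩
  rw [div_mul_div_comm, div_mul_div_comm, ← add_div, div_eq_one_iff_eq (mul_ne_zero hd hd)]
  ring

end CfsgLib.MaxSub.TPow
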