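import Cfsg.Agent.Lib.MaxSub.OMonoFrame
import Cfsg.Agent.Lib.Aschbacher.Wreath

/-!
Tensor powers of the standard orthogonal space in coordinates: isometries as matrices, the wreath
subgroup, elements of one slot and elements diagonal in all slots but one.
-/

set_option autoImplicit false
set_option linter.unusedSectionVars false

namespace CfsgLib.MaxSub.TPow

open Matrix CfsgLib.Aschbacher
open scoped MatrixGroups

variable (t k : ℕ) (F : Type*) [Field F]

/-- the matrices preserving the sum of squares on the tensor power -/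
def orth : Subgroup (GL (Fin t → Fin k) F) where
  carrier := {g | (g : Matrix (Fin t → Fin k) (Fin t → Fin k) F)ᵀ * g = 1}
  one_mem' := by simp
  mul_mem' {a b} ha hb := by
    simp only [Set.mem_setOf_eq, Units.val_mul, Matrix.transpose_mul] at ha hb ⊢
    rw [Matrix.mul_assoc, ← Matrix.mul_assoc (a : Matrix (Fin t → Fin k) (Fin t → Fin k) F)ᵀ, ha, Matrix.one_mul, hb]
  inv_mem' {a} ha := by
    simp only [Set.mem_setOf_eq] at ha ⊢
    have h1 : ((a⁻¹ : GL (Fin t → Fin k) F) : Matrix (Fin t → Fin k) (Fin t → Fin k) F) =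
        (a : Matrix (Fin t → Fin k) (Fin t → Fin k) F)ᵀ :=
      Units.inv_eq_of_mul_eq_one_left ha
    rw [h1, Matrix.transpose_transpose, ← h1, ← Units.val_mul, mul_inv_cancel, Units.val_one]

/-- the commutator subgroup of the isometry group of the sum of squares -/
def Om : Subgroup (GL (Fin t → Fin k) F) :=
  Cfsg.Geo.omegaGL (⇑(OMono.sq (Fin t → Fin k) F))

/-- the wreath stabiliser inside `Om` -/
def base : Subgroup (GL (Fin t → Fin k) F) := Cfsg.Geo.tensorWreathStandard k t F ⊓ Om t k F

variable {t k F}

theorem mem_orth {g : GL (Fin t → Fin k) F} :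
    g ∈ orth t k F ↔ (g : Matrix (Fin t → Fin k) (Fin t → Fin k) F)ᵀ * g = 1 := Iff.rfl

/-- a matrix acting in slot `i` -/
def slot (i : Fin t) : Matrix (Fin k) (Fin k) F →* Matrix (Fin t → Fin k) (Fin t → Fin k) F where
  toFun x := pureMat (Function.update (fun _ => 1) i x)
  map_one' := by rw [Function.update_eq_self i (fun _ => (1 : Matrix (Fin k) (Fin k) F))]; exact pureMat_one
  map_mul' x y := by
    rw [pureMat_mul]
    congr 1
    funext j
    rcases eq_or_ne j i with rfl | h
    · simp
    · simp [h]

theorem slot_apply (i : Fin t) (x : Matrix (Fin k) (Fin k) F) :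
    slot i x = pureMat (Function.update (fun _ => 1) i x) := rfl

/-- the invertible matrices of slot `i` -/
def slotGL (i : Fin t) : GL (Fin k) F →* GL (Fin t → Fin k) F := Units.map (slot i)

/-- the matrix acting by `u p` in slot `i`, diagonally in the other slots -/
def tup (i : Fin t) (u : (Fin t → Fin k) → Matrix (Fin k) (Fin k) F) :
    Matrix (Fin t → Fin k) (Fin t → Fin k) F :=
  Matrix.of fun p q => if ∀ j, j ≠ i → p j = q j then u p (p i) (q i) else 0

/-- `u` depends on the slots other than `i` only -/
def Indep (i : Fin t) (u : (Fin t → Fin k) → Matrix (Fin k) (Fin k) F) : Prop :=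
  ∀ p a, u (Function.update p i a) = u p

theorem tup_const (i : Fin t) (x : Matrix (Fin k) (Fin k) F) : tup i (fun _ => x) = slot i x := by
  ext p q
  rw [slot_apply, CfsgLib.Aschbacher.slot_apply]
  rfl

/-- no element of `M` acts diagonally in all slots but one, trivially over one point and non-scalarly
over another -/
def NoBoot (M : Subgroup (GL (Fin t → Fin k) F)) : Prop :=
  ∀ (i : Fin t) (u : (Fin t → Fin k) → Matrix (Fin k) (Fin k) F) (g : GL (Fin t → Fin k) F),
    g ∈ M → Indep i u → (g : Matrix (Fin t → Fin k) (Fin t → Fin k) F) = tup i u →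
    (∃ p, u p = 1) → ∀ p, ∃ c : F, u p = c • 1

end CfsgLib.MaxSub.TPow
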