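import Cfsg.Agent.Lib.MaxSub.TPow.BootGen

/-!
An overgroup of the wreath stabiliser with an element diagonal in all slots but one, trivial over one point
and not scalar over another, is the whole commutator subgroup.
-/

set_option autoImplicit false
set_option linter.unusedSectionVars false

namespace CfsgLib.MaxSub.TPow

open CfsgLib.Classical CfsgLib.Geom CfsgLib.Geom.OrthSub CfsgLib.MaxSub CfsgLib.MaxSub.OMono
open QuadraticMap (polar)
open scoped Matrix MatrixGroups

variable {t k : ℕ} {F : Type*} [Field F]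

theorem boot [Fintype F] (hk : Odd k) (hk3 : 3 ≤ k) (ht : 2 ≤ t) (h2 : (2 : F) ≠ 0)
    (hex : ¬ (Fintype.card F = 3 ∧ k = 3)) {M : Subgroup (GL (Fin t → Fin k) F)}
    (hbase : base t k F ≤ M) (hM : M ≤ Om t k F) (hboot : ¬ NoBoot M) : M = Om t k F := by
  classical
  obtain ⟨Mq, hMq⟩ : ∃ Mq : Subgroup (Big t k F), Mq = M.comap (isomsToGL (sq (Fin t → Fin k) F)) := ⟨_, rfl⟩
  have hOm : Om t k F = (commutator (Big t k F)).map (isomsToGL (sq (Fin t → Fin k) F)) :=
    omegaGL_eq_map _
  suffices h : commutator (Big t k F) ≤ Mq by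
    refine le_antisymm hM ?_
    rw [hOm, Subgroup.map_le_iff_le_comap, ← hMq]
    exact h
  have hext : ∀ g ∈ commutator (Big t k F), InWr g → g ∈ Mq := fun g hg hw => by
    rw [hMq, Subgroup.mem_comap]
    refine hbase ⟨hw, ?_⟩
    rw [hOm]
    exact Subgroup.mem_map_of_mem _ hg
  simp only [NoBoot, not_forall] at hboot
  obtain ⟨i, u, g, hg, hind, hgu, ⟨a, ha⟩, b, hb⟩ := hboot
  obtain ⟨gq, hgq, rfl⟩ : g ∈ (commutator (Big t k F)).map (isomsToGL (sq (Fin t → Fin k) F)) := hOm ▸ hM hg
  have hap : ∀ (x : (Fin t → Fin k) → F) r, gq.1 x r = (u r *ᵥ fun c => x (Function.update r i c)) (r i) := by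
    intro x r
    rw [← isomsToGL_mulVec, hgu]
    simp only [Matrix.mulVec, dotProduct, tup, Matrix.of_apply]
    rw [← Finset.sum_subset (Finset.subset_univ (Finset.univ.image (Function.update r i))) fun q _ hq => by
      rw [if_neg, zero_mul]
      exact fun h => hq (Finset.mem_image.2 ⟨q i, Finset.mem_univ _, funext fun j => by
        rcases eq_or_ne j i with rfl | hj
        · simp
        · simp [hj, h j hj]⟩), Finset.sum_image fun x _ y _ h => update_injective i r h]
    refine Finset.sum_congr rfl fun c _ => ?_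
    rw [if_pos fun j hj => (Function.update_of_ne hj _ _).symm, Function.update_self]
  have hiso : ∀ p y, (u p *ᵥ y) ⬝ᵥ (u p *ᵥ y) = y ⬝ᵥ y := by
    intro p y
    obtain ⟨x, hx⟩ : ∃ x : (Fin t → Fin k) → F, x = fun r => if ∀ j, j ≠ i → r j = p j then y (r i) else 0 := ⟨_, rfl⟩
    have hoff : ∀ r, r ∉ Set.range (Function.update p i) → ¬ ∀ j, j ≠ i → r j = p j := fun r hr h =>
      hr ⟨r i, funext fun j => by
        rcases eq_or_ne j i with rfl | hj
        · simp
        · simp [hj, h j hj]⟩
    have h0 : ∀ r, r ∉ Set.range (Function.update p i) → x r = 0 := fun r hr => by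
      rw [hx]; exact if_neg (hoff r hr)
    have h0' : ∀ r, r ∉ Set.range (Function.update p i) → gq.1 x r = 0 := fun r hr => by
      rw [hap, show (fun c => x (Function.update r i c)) = 0 from funext fun c => by
        rw [hx]
        refine if_neg fun h => hoff r hr fun j hj => ?_
        have := h j hj
        rwa [Function.update_of_ne hj] at this, Matrix.mulVec_zero]
      rfl
    have hxc : x ∘ Function.update p i = y := funext fun c => by
      rw [Function.comp_apply, hx]
      simp only [Function.update_self]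
      exact if_pos fun j hj => Function.update_of_ne hj _ _
    have hgc : gq.1 x ∘ Function.update p i = u p *ᵥ y := funext fun c => by
      rw [Function.comp_apply, hap, hind p c, Function.update_self]
      simp only [Function.update_idem]
      rw [← hxc]
      rfl
    have h := mem_quadIsoms.1 gq.2 x
    rw [sq_apply, sq_apply, dot_comp (update_injective i p) h0', dot_comp (update_injective i p) h0, hxc, hgc] at h
    exact h
  have hinj : ∀ p, Function.Injective (Matrix.mulVecLin (u p)) := by
    intro p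
    refine (injective_iff_map_eq_zero _).2 fun y hy => sq_sep h2 y fun z => ?_
    simp only [QuadraticMap.polar, sq_apply]
    rw [← hiso p (y + z), ← hiso p y, ← hiso p z, Matrix.mulVec_add, show u p *ᵥ y = 0 from hy]
    simp
  obtain ⟨uq, huq⟩ : ∃ uq : (Fin t → Fin k) → Sml k F, ∀ p y, (uq p).1 y = u p *ᵥ y :=
    ⟨fun p => ⟨LinearEquiv.ofInjectiveEndo (Matrix.mulVecLin (u p)) (hinj p), mem_quadIsoms.2 fun y => by
      rw [sq_apply, sq_apply]; exact hiso p y⟩, fun p y => rfl⟩
  have hui : uq ∈ indep t k F i := fun p c => quadIsoms_ext _ fun y => by rw [huq, huq, hind p c]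
  have he : lineQ i ⟨uq, hui⟩ = gq := quadIsoms_ext _ fun x => funext fun r => by
    rw [lineQ_apply, huq, hap]
  have hmem : lineQ i ⟨uq, hui⟩ ∈ Mq := by rw [he, hMq]; exact hg
  refine commutator_le h2 hk hk3 (lines h2 hk hk3 hext hex ⟨uq, hui⟩ hmem ⟨a, ?_⟩ ⟨b, ?_⟩) ht hex
  · refine quadIsoms_ext _ fun y => ?_
    rw [huq, ha, Matrix.one_mulVec]
    rfl
  · rintro ⟨c, hc⟩
    refine hb ⟨c, Matrix.ext_iff_mulVec.2 fun y => ?_⟩
    rw [← huq, hc, Matrix.smul_mulVec, Matrix.one_mulVec]

end CfsgLib.MaxSub.TPow
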