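import Cfsg.Agent.Lib.MaxSub.TPow.BootShrink

/-!
The commutator subgroups of all coordinate lines generate the commutator subgroup.
-/

set_option autoImplicit false
set_option linter.unusedSectionVars false

namespace CfsgLib.MaxSub.TPow

open CfsgLib.Classical CfsgLib.Geom CfsgLib.Geom.OrthSub CfsgLib.MaxSub CfsgLib.MaxSub.OMono
open CfsgLib.MaxSub.OFrame (InW wSub mem_wSub)
open QuadraticMap (polar)
open scoped Matrix MatrixGroups

set_option maxHeartbeats 800000

variable {t k : ℕ} {F : Type*} [Field F]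

/-- `g` is `x` on the range of `f`, trivial elsewhere -/
def Emb (f : Fin k → Fin t → Fin k) (x : Sml k F) (g : Big t k F) : Prop :=
  ∀ y, (∀ a, g.1 y (f a) = x.1 (y ∘ f) a) ∧ ∀ p, p ∉ Set.range f → g.1 y p = y p

/-- the subgroup contains the commutator subgroup on the range of `f` -/
def HasOm (M : Subgroup (Big t k F)) (f : Fin k → Fin t → Fin k) : Prop :=
  ∀ x ∈ commutator (Sml k F), ∃ g ∈ M, Emb f x g

theorem emb_perm {f : Fin k → Fin t → Fin k} {ρ : Equiv.Perm (Fin k)}
    {ρ' : Equiv.Perm (Fin t → Fin k)} (h1 : ∀ a, ρ' (f a) = f (ρ a))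
    (h2' : ∀ p, p ∉ Set.range f → ρ' p = p) {g : Big t k F} (hg : Emb f (permQ ρ) g) : g = permQ ρ' := by
  refine quadIsoms_ext _ fun y => funext fun p => ?_
  rw [permQ_apply]
  by_cases hp : p ∈ Set.range f
  · obtain ⟨a, rfl⟩ := hp
    rw [(hg y).1, permQ_apply]
    show y (f (ρ.symm a)) = _
    refine congrArg y ?_
    rw [eq_comm, Equiv.symm_apply_eq, h1, Equiv.apply_symm_apply]
  · rw [(hg y).2 p hp]
    refine congrArg y ?_
    rw [eq_comm, Equiv.symm_apply_eq, h2' p hp]

theorem cycle_sq {α : Type*} [DecidableEq α] {a b d : α} (hab : a ≠ b) (had : a ≠ d) (hbd : b ≠ d) :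
    Equiv.swap a b * Equiv.swap b d =
      Equiv.swap d b * Equiv.swap b a * Equiv.swap d b * Equiv.swap b a := by
  refine Equiv.ext fun x => ?_
  simp only [Equiv.Perm.mul_apply]
  rcases eq_or_ne x a with rfl | h1
  · simp [Equiv.swap_apply_def, hab, had, hbd, hab.symm, had.symm, hbd.symm]
  rcases eq_or_ne x b with rfl | h2
  · simp [Equiv.swap_apply_def, h1, hab, had, hbd, hab.symm, had.symm, hbd.symm]
  rcases eq_or_ne x d with rfl | h3
  · simp [Equiv.swap_apply_def, h1, h2, hab, had, hbd, hab.symm, had.symm, hbd.symm]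
  simp [Equiv.swap_apply_def, h1, h2, h3]

theorem cycle_comm {α : Type*} [DecidableEq α] {a b b' d d' : α} (hab : a ≠ b) (hab' : a ≠ b') (hbb' : b ≠ b')
    (had : a ≠ d) (had' : a ≠ d') (hdd' : d ≠ d') (hbd : b ≠ d) (hbd' : b ≠ d') (hb'd : b' ≠ d) (hb'd' : b' ≠ d') :
    Equiv.swap a b * Equiv.swap a d =
      ((Equiv.swap a b * Equiv.swap b b') * (Equiv.swap a d * Equiv.swap d d') *
        (Equiv.swap a b * Equiv.swap b b')⁻¹ * (Equiv.swap a d * Equiv.swap d d')⁻¹)⁻¹ := by
  refine Equiv.ext fun x => ?_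
  simp only [mul_inv_rev, inv_inv, Equiv.swap_inv, Equiv.Perm.mul_apply]
  rcases eq_or_ne x a with rfl | h1
  · simp [Equiv.swap_apply_def, hab, hab', hbb', had, had', hdd', hbd, hbd', hb'd, hb'd', hab.symm, hab'.symm,
      hbb'.symm, had.symm, had'.symm, hdd'.symm, hbd.symm, hbd'.symm, hb'd.symm, hb'd'.symm]
  rcases eq_or_ne x b with rfl | h2
  · simp [Equiv.swap_apply_def, h1, hab, hab', hbb', had, had', hdd', hbd, hbd', hb'd, hb'd', hab.symm, hab'.symm,
      hbb'.symm, had.symm, had'.symm, hdd'.symm, hbd.symm, hbd'.symm, hb'd.symm, hb'd'.symm]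
  rcases eq_or_ne x b' with rfl | h3
  · simp [Equiv.swap_apply_def, h1, h2, hab, hab', hbb', had, had', hdd', hbd, hbd', hb'd, hb'd', hab.symm,
      hab'.symm, hbb'.symm, had.symm, had'.symm, hdd'.symm, hbd.symm, hbd'.symm, hb'd.symm, hb'd'.symm]
  rcases eq_or_ne x d with rfl | h4
  · simp [Equiv.swap_apply_def, h1, h2, h3, hab, hab', hbb', had, had', hdd', hbd, hbd', hb'd, hb'd', hab.symm,
      hab'.symm, hbb'.symm, had.symm, had'.symm, hdd'.symm, hbd.symm, hbd'.symm, hb'd.symm, hb'd'.symm]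
  rcases eq_or_ne x d' with rfl | h5
  · simp [Equiv.swap_apply_def, h1, h2, h3, h4, hab, hab', hbb', had, had', hdd', hbd, hbd', hb'd, hb'd', hab.symm,
      hab'.symm, hbb'.symm, had.symm, had'.symm, hdd'.symm, hbd.symm, hbd'.symm, hb'd.symm, hb'd'.symm]
  simp [Equiv.swap_apply_def, h1, h2, h3, h4, h5]

theorem update_injective (i : Fin t) (c : Fin t → Fin k) : Function.Injective (Function.update c i) :=
  fun a b h => by simpa using congrFun h i

section

variable [Fintype F] {M : Subgroup (Big t k F)} (h2 : (2 : F) ≠ 0) (hk : Odd k) (hk3 : 3 ≤ k)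
  (hline : ∀ (i : Fin t) (c : Fin t → Fin k), ∀ x ∈ commutator (Sml k F), lineQ i (oneI i c x) ∈ M)

include hline

theorem hasOm_line (i : Fin t) (c : Fin t → Fin k) : HasOm M (Function.update c i) := by
  intro x hx
  refine ⟨_, hline i c x hx, fun y => ⟨fun a => ?_, fun p hp => ?_⟩⟩
  · rw [lineQ_apply, oneI_apply, if_pos fun j hj => Function.update_of_ne hj _ _, Function.update_self]
    simp only [Function.update_idem]
    rfl
  · rw [lineQ_apply, oneI_apply, if_neg fun h => hp ⟨p i, funext fun j => ?_⟩]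
    · show y (Function.update p i (p i)) = y p
      rw [Function.update_eq_self]
    · rcases eq_or_ne j i with rfl | hj
      · simp
      · rw [Function.update_of_ne hj, h j hj]

/-- three-cycles inside a line -/
theorem cycle_mem (i : Fin t) (c : Fin t → Fin k) {a b d : Fin k} (hab : a ≠ b) (had : a ≠ d) (hbd : b ≠ d) :
    permQ (Equiv.swap (Function.update c i a) (Function.update c i b) *
      Equiv.swap (Function.update c i b) (Function.update c i d)) ∈ M := by
  have hf := update_injective i c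
  rw [cycle_sq (hf.ne hab) (hf.ne had) (hf.ne hbd)]
  obtain ⟨g, hg, hge⟩ := hasOm_line hline i c _ (swaps_mem (F := F) d b a)
  rwa [emb_perm (ρ' := Equiv.swap (Function.update c i d) (Function.update c i b) *
      Equiv.swap (Function.update c i b) (Function.update c i a) *
      Equiv.swap (Function.update c i d) (Function.update c i b) *
      Equiv.swap (Function.update c i b) (Function.update c i a))
    (fun x => by simp only [Equiv.Perm.mul_apply, hf.swap_apply])
    (fun p hp => by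
      have hne : ∀ x, p ≠ Function.update c i x := fun x e => hp ⟨x, e.symm⟩
      simp only [Equiv.Perm.mul_apply, Equiv.swap_apply_of_ne_of_ne (hne _) (hne _)]) hge] at hg

include hk3

/-- two edges at a point -/
theorem adj_mem (a : Fin t → Fin k) {i j : Fin t} {b d : Fin k} (hb : b ≠ a i) (hd : d ≠ a j) :
    permQ (Equiv.swap a (Function.update a i b) * Equiv.swap a (Function.update a j d)) ∈ M := by
  rcases eq_or_ne i j with rfl | hij
  · rcases eq_or_ne b d with rfl | hbd
    · rw [Equiv.swap_mul_self, map_one]; exact one_mem M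
    have h := cycle_mem hline i a (a := b) (b := a i) (d := d) hb hbd (Ne.symm hd)
    rwa [Function.update_eq_self, Equiv.swap_comm _ a] at h
  obtain ⟨b', hb'a, hb'b⟩ := exists_third hk3 (a i) b
  obtain ⟨d', hd'a, hd'd⟩ := exists_third hk3 (a j) d
  have hne : ∀ x y, x ≠ a i → Function.update a i x ≠ Function.update a j y := fun x y hx e => hx (by
    have := congrFun e i
    rwa [Function.update_self, Function.update_of_ne hij] at this)
  have ha : ∀ (l : Fin t) (x : Fin k), x ≠ a l → a ≠ Function.update a l x := fun l x hx e => hx (by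
    have := congrFun e l
    rwa [Function.update_self, eq_comm] at this)
  rw [cycle_comm (b' := Function.update a i b') (d' := Function.update a j d') (ha i b hb) (ha i b' hb'a)
    ((update_injective i a).ne (Ne.symm hb'b)) (ha j d hd) (ha j d' hd'a)
    ((update_injective j a).ne (Ne.symm hd'd)) (hne _ _ hb) (hne _ _ hb) (hne _ _ hb'a) (hne _ _ hb'a)]
  have h1 := cycle_mem hline i a (a := a i) (b := b) (d := b') (Ne.symm hb) (Ne.symm hb'a) (Ne.symm hb'b)
  have h3 := cycle_mem hline j a (a := a j) (b := d) (d := d') (Ne.symm hd) (Ne.symm hd'a) (Ne.symm hd'd)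
  rw [Function.update_eq_self] at h1 h3
  rw [map_inv, map_mul, map_mul, map_mul _ _ (Equiv.swap a _ * _), map_inv, map_inv]
  exact inv_mem (mul_mem (mul_mem (mul_mem h1 h3) (inv_mem h1)) (inv_mem h3))

/-- all even permutations of the coordinates -/
theorem even_perm_mem (ht : 1 ≤ t) {σ : Equiv.Perm (Fin t → Fin k)} (hσ : Equiv.Perm.sign σ = 1) :
    permQ σ ∈ M := by
  classical
  obtain ⟨H, hH⟩ : ∃ H, H = M.comap (permQ (F := F) (ι := Fin t → Fin k)) := ⟨_, rfl⟩
  suffices σ ∈ H by rwa [hH] at this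
  obtain ⟨a₀, ha₀⟩ : ∃ a : Fin t → Fin k, a = fun _ => ⟨0, by omega⟩ := ⟨_, rfl⟩
  obtain ⟨i₀, hi₀⟩ : ∃ i : Fin t, i = ⟨0, by omega⟩ := ⟨_, rfl⟩
  obtain ⟨b₀, hb₀, -⟩ := exists_third hk3 (a₀ i₀) (a₀ i₀)
  obtain ⟨s₀, hs₀⟩ : ∃ s, s = Equiv.swap a₀ (Function.update a₀ i₀ b₀) := ⟨_, rfl⟩
  have hA : ∀ (a : Fin t → Fin k) (i j : Fin t) (b d : Fin k), b ≠ a i → d ≠ a j →
      Equiv.swap a (Function.update a i b) * Equiv.swap a (Function.update a j d) ∈ H := fun a i j b d hb hd => by
    rw [hH, Subgroup.mem_comap]; exact adj_mem hk3 hline a hb hd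
  have hgood : ∀ (S : Finset (Fin t)) (v : Fin t → Fin k), (∀ j ∉ S, v j = a₀ j) → ∀ i b, b ≠ v i →
      Equiv.swap v (Function.update v i b) * s₀ ∈ H := by
    intro S
    induction S using Finset.induction_on with
    | empty =>
      intro v hv i b hb
      obtain rfl : v = a₀ := funext fun j => hv j (Finset.notMem_empty j)
      rw [hs₀]; exact hA _ _ _ _ _ hb hb₀
    | insert s S hs ih =>
      intro v hv i b hb
      rcases eq_or_ne (v s) (a₀ s) with he | he
      · refine ih v (fun j hj => ?_) i b hb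
        rcases eq_or_ne j s with rfl | hjs
        · exact he
        · exact hv j (by simp [hjs, hj])
      obtain ⟨w, hw⟩ : ∃ w, w = Function.update v s (a₀ s) := ⟨_, rfl⟩
      have h1 := ih w (fun j hj => by
        rcases eq_or_ne j s with rfl | hjs
        · simp [hw]
        · rw [hw, Function.update_of_ne hjs]; exact hv j (by simp [hjs, hj])) s (v s) (by rw [hw]; simpa using he)
      have e : Function.update w s (v s) = v := by rw [hw, Function.update_idem, Function.update_eq_self]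
      rw [e] at h1
      have h2' := hA v i s b (a₀ s) hb (Ne.symm he)
      rw [← hw, Equiv.swap_comm v w] at h2'
      have := mul_mem h2' h1
      rwa [mul_assoc, ← mul_assoc (Equiv.swap w v), Equiv.swap_mul_self, one_mul] at this
  obtain ⟨gens, hgens⟩ : ∃ S : Set (Equiv.Perm (Fin t → Fin k)),
      S = {s | ∃ v i b, b ≠ v i ∧ s = Equiv.swap v (Function.update v i b)} := ⟨_, rfl⟩
  have hsw : ∀ v w, Equiv.swap v w ∈ Subgroup.closure gens := by
    have h0 : ∀ (S : Finset (Fin t)) (v : Fin t → Fin k), (∀ j ∉ S, v j = a₀ j) →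
        Equiv.swap a₀ v ∈ Subgroup.closure gens := by
      intro S
      induction S using Finset.induction_on with
      | empty =>
        intro v hv
        obtain rfl : v = a₀ := funext fun j => hv j (Finset.notMem_empty j)
        rw [Equiv.swap_self]; exact one_mem _
      | insert s S hs ih =>
        intro v hv
        rcases eq_or_ne (v s) (a₀ s) with he | he
        · refine ih v fun j hj => ?_
          rcases eq_or_ne j s with rfl | hjs
          · exact he
          · exact hv j (by simp [hjs, hj])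
        refine SubmonoidClass.swap_mem_trans (b := Function.update v s (a₀ s)) _ (ih _ fun j hj => ?_) ?_
        · rcases eq_or_ne j s with rfl | hjs
          · simp
          · rw [Function.update_of_ne hjs]; exact hv j (by simp [hjs, hj])
        · rw [Equiv.swap_comm]
          exact Subgroup.subset_closure (by rw [hgens]; exact ⟨v, s, a₀ s, Ne.symm he, rfl⟩)
    exact fun v w => SubmonoidClass.swap_mem_trans (b := a₀) _
      (by rw [Equiv.swap_comm]; exact h0 Finset.univ v (by simp)) (h0 Finset.univ w (by simp))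
  have htop : σ ∈ Subgroup.closure gens := by
    have h := Equiv.Perm.closure_isSwap (α := Fin t → Fin k)
    have hm : σ ∈ Subgroup.closure {σ : Equiv.Perm (Fin t → Fin k) | σ.IsSwap} := by rw [h]; trivial
    refine (Subgroup.closure_le _).2 ?_ hm
    rintro _ ⟨v, w, -, rfl⟩
    exact hsw v w
  have hne : ∀ (v : Fin t → Fin k) (i : Fin t) (b : Fin k), b ≠ v i → v ≠ Function.update v i b := fun v i b hb e => hb (by
    have := congrFun e i
    rwa [Function.update_self, eq_comm] at this)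
  have hP : ∀ τ ∈ Subgroup.closure gens,
      (Equiv.Perm.sign τ = 1 → τ ∈ H) ∧ (Equiv.Perm.sign τ = -1 → s₀ * τ ∈ H) := by
    have step : ∀ s ∈ gens, ∀ y : Equiv.Perm (Fin t → Fin k),
        (Equiv.Perm.sign y = 1 → y ∈ H) ∧ (Equiv.Perm.sign y = -1 → s₀ * y ∈ H) →
        (Equiv.Perm.sign (s * y) = 1 → s * y ∈ H) ∧ (Equiv.Perm.sign (s * y) = -1 → s₀ * (s * y) ∈ H) := by
      intro s hs y hy
      rw [hgens] at hs
      obtain ⟨v, i, b, hb, rfl⟩ := hs
      have h := hgood Finset.univ v (by simp) i b hb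
      rw [map_mul, Equiv.Perm.sign_swap (hne v i b hb)]
      refine ⟨fun e => ?_, fun e => ?_⟩
      · have h' := hy.2 (by simpa using (eq_inv_of_mul_eq_one_right e))
        have := mul_mem h h'
        rwa [mul_assoc, ← mul_assoc s₀, hs₀, Equiv.swap_mul_self, one_mul] at this
      · have h' := hy.1 (by simpa using e)
        have h'' := inv_mem h
        rw [mul_inv_rev, hs₀, Equiv.swap_inv, Equiv.swap_inv, ← hs₀] at h''
        rw [← mul_assoc]
        exact mul_mem h'' h'
    intro τ hτ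
    induction hτ using Subgroup.closure_induction_left with
    | one => exact ⟨fun _ => one_mem H, fun h => absurd h (by rw [map_one]; decide)⟩
    | mul_left x hx y _ ih => exact step x hx y ih
    | inv_mul_cancel x hx y _ ih =>
      obtain ⟨v, i, b, -, e⟩ := (hgens ▸ hx : x ∈ {s | ∃ v i b, b ≠ v i ∧ s = Equiv.swap v (Function.update v i b)})
      rw [show x⁻¹ = x by rw [e, Equiv.swap_inv]]
      exact step x hx y ih
  exact (hP σ htop).1 hσ

include hk

/-- the commutator subgroup on every `k` coordinates -/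
theorem hasOm_all (ht : 2 ≤ t) {f : Fin k → Fin t → Fin k} (hf : Function.Injective f) : HasOm M f := by
  classical
  obtain ⟨i, hi⟩ : ∃ i : Fin t, i = ⟨0, by omega⟩ := ⟨_, rfl⟩
  obtain ⟨c, hc⟩ : ∃ c : Fin t → Fin k, c = fun _ => ⟨0, by omega⟩ := ⟨_, rfl⟩
  obtain ⟨L, hL⟩ : ∃ L : Fin k → Fin t → Fin k, L = Function.update c i := ⟨_, rfl⟩
  have hLi : Function.Injective L := hL ▸ update_injective i c
  let e : {p // p ∈ Set.range L} ≃ {p // p ∈ Set.range f} :=
    (Equiv.ofInjective L hLi).symm.trans (Equiv.ofInjective f hf)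
  have hσ : ∀ a, e.extendSubtype (L a) = f a := fun a => by
    rw [Equiv.extendSubtype_apply_of_mem e (L a) ⟨a, rfl⟩]
    show ((Equiv.ofInjective f hf) ((Equiv.ofInjective L hLi).symm ⟨L a, ⟨a, rfl⟩⟩) : Fin t → Fin k) = f a
    rw [Equiv.ofInjective_symm_apply]; rfl
  obtain ⟨σ, hσs, hσL⟩ : ∃ σ : Equiv.Perm (Fin t → Fin k), Equiv.Perm.sign σ = 1 ∧ ∀ a, σ (L a) = f a := by
    rcases Int.units_eq_one_or (Equiv.Perm.sign e.extendSubtype) with h | h
    · exact ⟨_, h, hσ⟩
    obtain ⟨p, q, hp, hq, hpq⟩ : ∃ p q, p ∉ Set.range f ∧ q ∉ Set.range f ∧ p ≠ q := by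
      have hcard : 1 < ((Finset.univ.image f)ᶜ).card := by
        rw [Finset.card_compl, Finset.card_image_of_injective _ hf, Finset.card_univ, Fintype.card_fin,
          Fintype.card_fun, Fintype.card_fin, Fintype.card_fin]
        have h1 : k ^ 2 ≤ k ^ t := Nat.pow_le_pow_right (by omega) ht
        have h2 : k + 2 ≤ k ^ 2 := by nlinarith
        omega
      obtain ⟨p, hp, q, hq, hpq⟩ := Finset.one_lt_card.1 hcard
      simp only [Finset.mem_compl, Finset.mem_image, Finset.mem_univ, true_and] at hp hq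
      exact ⟨p, q, hp, hq, hpq⟩
    refine ⟨Equiv.swap p q * e.extendSubtype, by rw [map_mul, Equiv.Perm.sign_swap hpq, h]; rfl, fun a => ?_⟩
    rw [Equiv.Perm.mul_apply, hσ, Equiv.swap_apply_of_ne_of_ne (fun h => hp ⟨a, h⟩) (fun h => hq ⟨a, h⟩)]
  have hm := even_perm_mem hk3 hline (by omega) hσs
  intro x hx
  obtain ⟨g, hg, hge⟩ := hasOm_line hline i c x hx
  rw [← hL] at hge
  refine ⟨_, mul_mem (mul_mem hm hg) (inv_mem hm), fun y => ⟨fun a => ?_, fun p hp => ?_⟩⟩
  · rw [← map_inv]
    show (permQ (F := F) σ).1 (g.1 ((permQ (F := F) σ⁻¹).1 y)) (f a) = _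
    rw [permQ_apply, show σ.symm (f a) = L a by rw [Equiv.symm_apply_eq, hσL], (hge _).1]
    refine congrFun (congrArg _ (funext fun b => ?_)) a
    show (permQ (F := F) σ⁻¹).1 y (L b) = y (f b)
    rw [permQ_apply]
    exact congrArg y (hσL b)
  · rw [← map_inv]
    show (permQ (F := F) σ).1 (g.1 ((permQ (F := F) σ⁻¹).1 y)) p = _
    rw [permQ_apply, (hge _).2 _ (fun ⟨a, ha⟩ => hp ⟨a, by rw [← hσL a, ha, Equiv.apply_symm_apply]⟩), permQ_apply]
    exact congrArg y (σ.apply_symm_apply p)

omit hline hk3 hk in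
theorem dot_comp {f : Fin k → Fin t → Fin k} (hf : Function.Injective f) {u z : (Fin t → Fin k) → F}
    (hu : ∀ p, p ∉ Set.range f → u p = 0) : u ⬝ᵥ z = (u ∘ f) ⬝ᵥ (z ∘ f) := by
  classical
  rw [dotProduct, dotProduct, ← Finset.sum_subset (Finset.subset_univ (Finset.univ.image f))
    fun p _ hp => by
      rw [hu p (fun ⟨a, ha⟩ => hp (Finset.mem_image.2 ⟨a, Finset.mem_univ _, ha⟩)), zero_mul],
    Finset.sum_image fun a _ b _ h => hf h]
  rfl

omit hline hk3 hk in
theorem square_mem_commutator (h2 : (2 : F) ≠ 0) (y : Sml k F) : y * y ∈ commutator (Sml k F) := by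
  have hy : orEquiv (sq (Fin k) F) (y * y) ∈ Cfsg.Omega F (⇑(sq (Fin k) F)) := by
    rw [omega_eq_ker_spinorHom _ (sq_sep h2) (exGen_of_odd h2), MonoidHom.mem_ker, map_mul, map_mul]
    exact exp_two _
  have h : Cfsg.Omega F (⇑(sq (Fin k) F)) =
      (commutator (Sml k F)).map (orEquiv (sq (Fin k) F)).toMonoidHom := by
    rw [commutator_def, Subgroup.map_commutator,
      Subgroup.map_top_of_surjective (orEquiv (sq (Fin k) F)).toMonoidHom
        (orEquiv (sq (Fin k) F)).surjective, ← commutator_def]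
  rw [h] at hy
  exact (Subgroup.mem_map_iff_mem (orEquiv (sq (Fin k) F)).injective).1 hy

include h2

/-- Siegel transformations supported on at most `k` coordinates -/
theorem inW_small (ht : 2 ≤ t) (S : Finset (Fin t → Fin k)) (hS : S.card ≤ k) {u w : (Fin t → Fin k) → F}
    (hu : ∀ p ∉ S, u p = 0) (hw : ∀ p ∉ S, w p = 0) (huu : u ⬝ᵥ u = 0) (huw : u ⬝ᵥ w = 0) : InW M u w := by
  classical
  refine ⟨by rw [polar_sq, huw, mul_zero], ?_⟩
  obtain ⟨S', hSS', hS'⟩ : ∃ S', S ⊆ S' ∧ S'.card = k :=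
    Finset.exists_superset_card_eq hS (by
      rw [Fintype.card_fun, Fintype.card_fin, Fintype.card_fin]; exact Nat.le_self_pow (by omega) k)
  obtain ⟨f, hf, hrange⟩ : ∃ f : Fin k → Fin t → Fin k, Function.Injective f ∧ ∀ p, p ∉ Set.range f → p ∉ S := by
    refine ⟨fun a => ((S'.equivFinOfCardEq hS').symm a).1,
      Subtype.val_injective.comp (Equiv.injective _), fun p hp hpS => ?_⟩
    exact hp ⟨S'.equivFinOfCardEq hS' ⟨p, hSS' hpS⟩, by simp⟩
  have hu' : ∀ p, p ∉ Set.range f → u p = 0 := fun p hp => hu p (hrange p hp)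
  have hw' : ∀ p, p ∉ Set.range f → w p = 0 := fun p hp => hw p (hrange p hp)
  have huu' : (u ∘ f) ⬝ᵥ (u ∘ f) = 0 := by rw [← dot_comp hf hu', huu]
  have huw' : (u ∘ f) ⬝ᵥ (w ∘ f) = 0 := by rw [← dot_comp hf hu', huw]
  have hx : siegel (sq (Fin k) F) (u ∘ f) (w ∘ f) ∈ commutator (Sml k F) := by
    have hh : polar (sq (Fin k) F) (u ∘ f) ((2 : F)⁻¹ • (w ∘ f)) = 0 := by
      rw [polar_sq, dotProduct_smul, huw', smul_zero, mul_zero]
    have e : siegel (sq (Fin k) F) (u ∘ f) (w ∘ f) =
        siegel (sq (Fin k) F) (u ∘ f) ((2 : F)⁻¹ • (w ∘ f)) * siegel (sq (Fin k) F) (u ∘ f) ((2 : F)⁻¹ • (w ∘ f)) := by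
      rw [← siegel_add _ (by rw [sq_apply, huu']) hh hh, ← add_smul]
      congr 1
      rw [← two_mul, mul_inv_cancel₀ h2, one_smul]
    rw [e]; exact square_mem_commutator h2 _
  obtain ⟨g, hg, hge⟩ := hasOm_all hk hk3 hline ht hf _ hx
  suffices e : g = siegel (sq (Fin t → Fin k) F) u w by rwa [← e]
  refine quadIsoms_ext _ fun z => funext fun p => ?_
  rw [siegel_sq_apply huu huw]
  by_cases hp : p ∈ Set.range f
  · obtain ⟨a, rfl⟩ := hp
    rw [(hge z).1, siegel_sq_apply huu' huw', dot_comp hf hu', dot_comp hf hw', dot_comp hf hw' (z := w)]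
    simp only [Pi.sub_apply, Pi.add_apply, Pi.smul_apply, Function.comp_apply]
  · rw [(hge z).2 p hp]
    simp [hu' p hp, hw' p hp]

/-- a singular vector with small support has all its Siegel transformations, given its outer coordinates -/
theorem full_of_out (ht : 2 ≤ t) (S : Finset (Fin t → Fin k)) (hS : S.card ≤ k) {u : (Fin t → Fin k) → F}
    (hu : ∀ p ∉ S, u p = 0) (huu : u ⬝ᵥ u = 0) (hout : ∀ d ∉ S, ∀ l : F, InW M u (Pi.single d l)) :
    Full M u := by
  classical
  intro w hw
  have hQu : sq (Fin t → Fin k) F u = 0 := by rw [sq_apply, huu]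
  rw [polar_sq, mul_eq_zero] at hw
  have hw0 := hw.resolve_left h2
  have hmem : w ∈ wSub M hQu := by
    obtain ⟨w₁, hw₁⟩ : ∃ w₁, w₁ = ∑ p ∈ Sᶜ, Pi.single p (w p) := ⟨_, rfl⟩
    have h1 : w₁ ∈ wSub M hQu := by
      rw [hw₁]
      exact sum_mem fun d hd => mem_wSub.2 (hout d (Finset.mem_compl.1 hd) _)
    have hout1 : ∀ p, w₁ p = if p ∈ S then 0 else w p := fun p => by
      rw [hw₁, Finset.sum_apply, Finset.sum_pi_single]
      simp [ite_not]
    have h3 : w - w₁ ∈ wSub M hQu := mem_wSub.2 (inW_small h2 hk hk3 hline ht S hS hu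
      (fun p hp => by rw [Pi.sub_apply, hout1, if_neg hp, sub_self]) huu (by
        rw [dotProduct_sub, hw0, zero_sub, neg_eq_zero]
        refine Finset.sum_eq_zero fun p _ => ?_
        rw [hout1]
        split_ifs with h
        · rw [mul_zero]
        · rw [hu p h, zero_mul]))
    simpa using add_mem h3 h1
  exact (mem_wSub.1 hmem).2

/-- the coordinates outside a triple -/
theorem out_three (hk' : k = 3) (hq : Fintype.card F ≠ 3) (ht : 2 ≤ t) (hns : ¬ IsSquare (-1 : F))
    {a b c : Fin t → Fin k} (hab : a ≠ b) (hac : a ≠ c) (hbc : b ≠ c) {x y : F} (hxy : x * x + y * y = -1)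
    {u : (Fin t → Fin k) → F} (hu : u = Pi.single a x + Pi.single b y + Pi.single c 1)
    (huu : u ⬝ᵥ u = 0) : ∀ d ∉ ({a, b, c} : Finset (Fin t → Fin k)), ∀ l : F, InW M u (Pi.single d l) := by
  classical
  subst hk'
  intro d hd l
  simp only [Finset.mem_insert, Finset.mem_singleton, not_or] at hd
  obtain ⟨hda, hdb, hdc⟩ := hd
  obtain ⟨w, hw⟩ : ∃ w : (Fin t → Fin 3) → F, w = Pi.single a y + Pi.single b (-x) := ⟨_, rfl⟩
  have huw : u ⬝ᵥ w = 0 := by
    rw [hu, hw]
    simp [dotProduct_add, hab, hab.symm, hac.symm, hbc.symm, hac, hbc]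
    ring
  obtain ⟨β, hβ0, hβ1, hβ2⟩ : ∃ β : F, β ≠ 0 ∧ β ≠ 1 ∧ β ≠ -1 := by
    obtain ⟨β, -, hβ⟩ := Finset.exists_mem_notMem_of_card_lt_card (s := ({0, 1, -1} : Finset F))
      (t := Finset.univ) (lt_of_le_of_lt Finset.card_le_three (by
        rw [Finset.card_univ]
        have h1 := Fintype.one_lt_card (α := F)
        have hne2 : Fintype.card F ≠ 2 := fun h => h2 (by
          have := FiniteField.cast_card_eq_zero F
          rw [h] at this
          exact_mod_cast this)
        omega))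
    simp only [Finset.mem_insert, Finset.mem_singleton, not_or] at hβ
    exact ⟨β, hβ.1, hβ.2.1, hβ.2.2⟩
  have hb1 : β * β - 1 ≠ 0 := fun h => (mul_self_eq_one_iff.1 (sub_eq_zero.1 h)).elim hβ1 hβ2
  have hb2 : β * β + 1 ≠ 0 := fun h => hns ⟨β, by linear_combination -h⟩
  obtain ⟨v, hv⟩ : ∃ v : Fin 3 → F, v = ![y, -x, β] := ⟨_, rfl⟩
  have hvv : sq (Fin 3) F v = β * β - 1 := by
    rw [hv, sq_apply]
    simp [dotProduct, Fin.sum_univ_three]
    linear_combination hxy
  have hv0 : sq (Fin 3) F v ≠ 0 := hvv ▸ hb1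
  obtain ⟨R, hRd⟩ : ∃ R : Sml 3 F, R = flipQ {2} * ⟨reflEquiv (sq (Fin 3) F) v hv0, reflEquiv_mem _ v hv0⟩ *
      (flipQ {2})⁻¹ * (⟨reflEquiv (sq (Fin 3) F) v hv0, reflEquiv_mem _ v hv0⟩ : Sml 3 F)⁻¹ := ⟨_, rfl⟩
  have hR : R ∈ commutator (Sml 3 F) := hRd ▸
    Subgroup.commutator_mem_commutator (Subgroup.mem_top _) (Subgroup.mem_top _)
  have hf : Function.Injective ![a, b, d] := by
    intro i j h
    fin_cases i <;> fin_cases j <;>
      simp_all [hab, hab.symm, hda, hdb, Ne.symm hda, Ne.symm hdb]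
  obtain ⟨g, hg, hge⟩ := hasOm_all hk hk3 hline ht hf _ hR
  have hRap : ∀ z : Fin 3 → F, R.1 z = (flipQ (F := F) {2}).1 (reflEquiv (sq (Fin 3) F) v hv0
      ((flipQ (F := F) {2}).1 (reflEquiv (sq (Fin 3) F) v hv0 z))) := fun z => by
    rw [hRd, inv_eq_of_mul_eq_one_right (a := flipQ (F := F) ({2} : Finset (Fin 3))) (b := flipQ {2})
      (quadIsoms_ext _ fun x => flipLin_flipLin _ x),
      inv_eq_of_mul_eq_one_right (a := (⟨reflEquiv (sq (Fin 3) F) v hv0, reflEquiv_mem _ v hv0⟩ : Sml 3 F))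
        (b := ⟨reflEquiv (sq (Fin 3) F) v hv0, reflEquiv_mem _ v hv0⟩)
      (Subtype.ext (reflEquiv_mul_self _ v hv0))]
    rfl
  -- fixes `u`
  have hfix : g.1 u = u := by
    funext p
    by_cases hp : p ∈ Set.range ![a, b, d]
    · obtain ⟨i, rfl⟩ := hp
      rw [(hge u).1, hRap]
      have hu3 : u ∘ ![a, b, d] = ![x, y, 0] := funext fun i => by
        fin_cases i <;> simp [hu, hab, hab.symm, hac, hbc, hda, hdb, hdc]
      have h1 : reflEquiv (sq (Fin 3) F) v hv0 ![x, y, 0] = ![x, y, 0] := by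
        rw [reflEquiv_apply, polar_sq]
        have : v ⬝ᵥ ![x, y, 0] = 0 := by rw [hv]; simp [dotProduct, Fin.sum_univ_three]; ring
        rw [this]; simp
      have h3 : (flipQ (F := F) {2}).1 ![x, y, 0] = ![x, y, 0] := funext fun i => by
        rw [flipQ_apply]; fin_cases i <;> simp
      rw [hu3, h1, h3, h1, h3]
      exact congrFun hu3.symm i
    · exact (hge u).2 p hp
  -- moves `w` out of the triple
  obtain ⟨s, hs⟩ : ∃ s, s = 2 / (β * β - 1) := ⟨_, rfl⟩
  have hgw : g.1 w = (1 + s + s * (1 + s + s * β * β)) • w + Pi.single d (-(s * s * β * (1 + β * β))) := by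
    funext p
    by_cases hp : p ∈ Set.range ![a, b, d]
    · obtain ⟨i, rfl⟩ := hp
      rw [(hge w).1, hRap]
      have hw3 : w ∘ ![a, b, d] = ![y, -x, 0] := funext fun i => by
        fin_cases i <;> simp [hw, hab, hab.symm, hda, hdb]
      have hr : ∀ z : Fin 3 → F, reflEquiv (sq (Fin 3) F) v hv0 z = z - (s * (v ⬝ᵥ z)) • v := fun z => by
        rw [reflEquiv_apply, hvv, polar_sq, hs]
        congr 2
        field_simp
      have hfl : ∀ p q r : F, (flipQ (F := F) {2}).1 ![p, q, r] = ![p, q, -r] := fun p q r => funext fun i => by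
        rw [flipQ_apply]; fin_cases i <;> simp
      have hrv : ∀ p q r : F, reflEquiv (sq (Fin 3) F) v hv0 ![p, q, r] =
          ![p - s * (y * p - x * q + β * r) * y, q + s * (y * p - x * q + β * r) * x,
            r - s * (y * p - x * q + β * r) * β] := fun p q r => by
        rw [hr, hv]
        funext i
        fin_cases i <;> simp [dotProduct, Fin.sum_univ_three] <;>
          first | exact Or.inl (Or.inl (by ring)) | ring
      have e1 : y * y - x * -x + β * 0 = -1 := by linear_combination hxy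
      rw [hw3, hrv, e1, hfl, hrv,
        show y * (y - s * -1 * y) - x * (-x + s * -1 * x) + β * -(0 - s * -1 * β) = -(1 + s + s * β * β) by
          linear_combination (1 + s) * hxy, hfl]
      fin_cases i <;>
        simp [hw, hab, hab.symm, hda, hdb, Ne.symm hda, Ne.symm hdb] <;> ring
    · rw [(hge w).2 p hp]
      have hne : p ≠ a ∧ p ≠ b ∧ p ≠ d := ⟨fun h => hp ⟨0, h.symm⟩, fun h => hp ⟨1, h.symm⟩, fun h => hp ⟨2, h.symm⟩⟩
      simp [hw, hne.1, hne.2.1, hne.2.2]
  obtain ⟨c3, hc3⟩ : ∃ c3, c3 = -(s * s * β * (1 + β * β)) := ⟨_, rfl⟩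
  have hc30 : c3 ≠ 0 := by
    rw [hc3, neg_ne_zero, hs]
    refine mul_ne_zero (mul_ne_zero (mul_ne_zero ?_ ?_) hβ0) (by rwa [add_comm])
    all_goals exact div_ne_zero h2 hb1
  have hS3 : ({a, b, c} : Finset (Fin t → Fin 3)).card ≤ 3 := Finset.card_le_three
  have hsmall : ∀ m : F, InW M u (m • w) := fun m => inW_small h2 hk hk3 hline ht {a, b, c} hS3
    (fun p hp => by
      simp only [Finset.mem_insert, Finset.mem_singleton, not_or] at hp
      simp [hu, hp.1, hp.2.1, hp.2.2])
    (fun p hp => by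
      simp only [Finset.mem_insert, Finset.mem_singleton, not_or] at hp
      simp [hw, hp.1, hp.2.1]) huu (by rw [dotProduct_smul, huw, smul_zero])
  have hQu : sq (Fin t → Fin 3) F u = 0 := by rw [sq_apply, huu]
  have h1 := (hsmall (l / c3)).conj hg
  rw [hfix, map_smul, hgw, smul_add, smul_smul, ← hc3, ← Pi.single_smul, smul_eq_mul, div_mul_cancel₀ _ hc30] at h1
  have h3 : Pi.single d l ∈ wSub M hQu := by
    simpa using sub_mem (mem_wSub.2 h1 : _ ∈ wSub M hQu)
      (mem_wSub.2 (hsmall (l / c3 * (1 + s + s * (1 + s + s * β * β)))) : _ ∈ wSub M hQu)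
  exact mem_wSub.1 h3

/-- the commutator subgroup from the lines -/
theorem commutator_le (ht : 2 ≤ t) (hex : ¬ (Fintype.card F = 3 ∧ k = 3)) : commutator (Big t k F) ≤ M := by
  classical
  have hn : 5 ≤ Fintype.card (Fin t → Fin k) := by
    rw [Fintype.card_fun, Fintype.card_fin, Fintype.card_fin]
    have h1 : k ^ 2 ≤ k ^ t := Nat.pow_le_pow_right (by omega) ht
    have h2 : 3 * 3 ≤ k * k := Nat.mul_le_mul hk3 hk3
    rw [pow_two] at h1
    omega
  obtain ⟨a, b, c, hab, hac, hbc⟩ : ∃ a b c : Fin t → Fin k, a ≠ b ∧ a ≠ c ∧ b ≠ c := by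
    obtain ⟨f⟩ : Nonempty (Fin 3 ↪ (Fin t → Fin k)) := Function.Embedding.nonempty_of_card_le (by rw [Fintype.card_fin 3]; omega)
    exact ⟨f 0, f 1, f 2, f.injective.ne (by decide), f.injective.ne (by decide), f.injective.ne (by decide)⟩
  have hfive : 5 ≤ Module.finrank F ((Fin t → Fin k) → F) := by rwa [Module.finrank_fintype_fun_eq_card]
  suffices ∃ u v : (Fin t → Fin k) → F, Full M u ∧ Full M v ∧ u ⬝ᵥ u = 0 ∧ v ⬝ᵥ v = 0 ∧ u ⬝ᵥ v ≠ 0 by
    obtain ⟨u, v, hu, hv, huu, hvv, huv⟩ := this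
    exact commutator_le_of_pair (sq_sep h2) hfive hu hv (by rw [sq_apply, huu]) (by rw [sq_apply, hvv])
      (by rw [polar_sq]; exact mul_ne_zero h2 huv)
  by_cases hsq : IsSquare (-1 : F)
  · obtain ⟨r, hr⟩ := hsq
    have hfull : ∀ e : F, e * e = -1 → Full M (Pi.single a 1 + Pi.single b e) := by
      intro e he
      have huu : (Pi.single a 1 + Pi.single b e) ⬝ᵥ (Pi.single a 1 + Pi.single b e) = (0 : F) := by
        simp [add_dotProduct, hab, hab.symm, he]
      have hS : ∀ d, ∀ p ∉ ({a, b, d} : Finset (Fin t → Fin k)),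
          (Pi.single a 1 + Pi.single b e : (Fin t → Fin k) → F) p = 0 := fun d p hp => by
        simp only [Finset.mem_insert, Finset.mem_singleton, not_or] at hp
        simp [hp.1, hp.2.1]
      refine full_of_out h2 hk hk3 hline ht {a, b, c} (Finset.card_le_three.trans hk3) (hS c) huu fun d hd l => ?_
      simp only [Finset.mem_insert, Finset.mem_singleton, not_or] at hd
      exact inW_small h2 hk hk3 hline ht {a, b, d} (Finset.card_le_three.trans hk3) (hS d)
        (fun p hp => by
          simp only [Finset.mem_insert, Finset.mem_singleton, not_or] at hp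
          simp [hp.2.2]) huu (by simp [Ne.symm hd.1, Ne.symm hd.2.1, hd.1, hd.2.1])
    refine ⟨_, _, hfull r hr.symm, hfull (-r) (by rw [neg_mul_neg]; exact hr.symm), ?_, ?_, ?_⟩
    · simp [add_dotProduct, hab, hab.symm, ← hr]
    · simp [add_dotProduct, hab, hab.symm, ← hr]
    · simp [add_dotProduct, hab, hab.symm, ← hr]
      intro h
      exact h2 (by linear_combination h)
  obtain ⟨x, y, hxy⟩ := exists_binary_eq h2 (one_ne_zero (α := F)) one_ne_zero (-1 : F)
  rw [one_mul, one_mul] at hxy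
  have hx : x ≠ 0 := fun h => hsq ⟨y, by rw [← hxy, h, mul_zero, zero_add]⟩
  have hfull : ∀ x : F, x * x + y * y = -1 →
      Full M (Pi.single a x + Pi.single b y + Pi.single c 1) := by
    intro x hxy
    obtain ⟨u, hud⟩ : ∃ u : (Fin t → Fin k) → F, u = Pi.single a x + Pi.single b y + Pi.single c 1 := ⟨_, rfl⟩
    rw [← hud]
    have huu : u ⬝ᵥ u = 0 := by
      rw [hud]; simp [add_dotProduct, hab, hab.symm, hac, hac.symm, hbc, hbc.symm]
      linear_combination hxy
    have hu : ∀ p ∉ ({a, b, c} : Finset (Fin t → Fin k)), u p = 0 := fun p hp => by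
      simp only [Finset.mem_insert, Finset.mem_singleton, not_or] at hp
      simp [hud, hp.1, hp.2.1, hp.2.2]
    refine full_of_out h2 hk hk3 hline ht {a, b, c} (Finset.card_le_three.trans hk3) hu huu fun d hd l => ?_
    rcases eq_or_ne k 3 with hk' | hk'
    · exact out_three h2 hk hk3 hline hk' (fun h => hex ⟨h, hk'⟩) ht hsq hab hac hbc hxy hud huu d hd l
    · refine inW_small h2 hk hk3 hline ht (insert d {a, b, c}) ?_ (fun p hp => hu p (fun h => hp (Finset.mem_insert_of_mem h)))
        (fun p hp => by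
          rw [Finset.mem_insert, not_or] at hp
          simp [hp.1]) huu (by rw [dotProduct_single, hu d hd, zero_mul])
      refine (Finset.card_insert_le _ _).trans ?_
      have := Finset.card_le_three (a := a) (b := b) (c := c)
      omega
  refine ⟨_, _, hfull x hxy, hfull (-x) (by rw [neg_mul_neg]; exact hxy), ?_, ?_, ?_⟩
  · simp [add_dotProduct, hab, hab.symm, hac, hac.symm, hbc, hbc.symm]
    linear_combination hxy
  · simp [add_dotProduct, hab, hab.symm, hac, hac.symm, hbc, hbc.symm]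
    linear_combination hxy
  · simp [add_dotProduct, hab, hab.symm, hac, hac.symm, hbc, hbc.symm]
    intro h
    exact mul_ne_zero h2 (mul_ne_zero hx hx) (by linear_combination hxy - h)

end

end CfsgLib.MaxSub.TPow
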