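import Cfsg.Agent.Lib.MaxSub.TPow.BootSimple

/-!
An element diagonal in all slots but one, trivial over one point and not scalar over another, gives the
commutator subgroup of every coordinate line.
-/

set_option autoImplicit false
set_option linter.unusedSectionVars false

namespace CfsgLib.MaxSub.TPow

open CfsgLib.Classical CfsgLib.Geom CfsgLib.Geom.OrthSub CfsgLib.MaxSub CfsgLib.MaxSub.OMono
open QuadraticMap (polar)
open scoped Matrix MatrixGroups

set_option maxHeartbeats 1000000

variable {t k : ℕ} {F : Type*} [Field F]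

theorem entry_eq {ι : Type} [Fintype ι] [DecidableEq ι] (g : quadIsoms (sq ι F)) (p q : ι) :
    (isomsToGL (sq ι F) g : Matrix ι ι F) p q = g.1 (Pi.single q 1) p := by
  rw [← isomsToGL_mulVec, Matrix.mulVec_single_one]
  rfl

theorem swap_triple {α : Type*} [DecidableEq α] {u v z : α} (huz : u ≠ z) (hvz : v ≠ z) (huv : u ≠ v) (x : α) :
    Equiv.swap u v x = Equiv.swap u z (Equiv.swap v z (Equiv.swap u z x)) := by
  rcases eq_or_ne x u with rfl | h1
  · simp [Equiv.swap_apply_def, huz.symm, hvz.symm, huv.symm, hvz]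
  rcases eq_or_ne x v with rfl | h2
  · simp [Equiv.swap_apply_def, h1, hvz, huz.symm, hvz.symm]
  rcases eq_or_ne x z with rfl | h3
  · simp [Equiv.swap_apply_def, h1, h2, huv, huz]
  simp [Equiv.swap_apply_def, h1, h2, h3]

/-- the wreath subgroup among the isometries -/
def InWr (g : Big t k F) : Prop :=
  isomsToGL (sq (Fin t → Fin k) F) g ∈ Cfsg.Geo.tensorWreathStandard k t F

theorem inWr_mul {g h : Big t k F} (hg : InWr g) (hh : InWr h) : InWr (g * h) := by
  show isomsToGL (sq (Fin t → Fin k) F) (g * h) ∈ _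
  rw [map_mul]; exact mul_mem hg hh

theorem slotQ_inWr (i : Fin t) (h : Sml k F) : InWr (slotQ i h) := by
  classical
  refine Subgroup.subset_closure (Or.inl ⟨Function.update (fun _ => 1) i (isomsToGL (sq (Fin k) F) h), fun p q => ?_⟩)
  rw [entry_eq]
  show h.1 (fun a => (Pi.single q (1 : F) : (Fin t → Fin k) → F) (Function.update p i a)) (p i) = _
  have e : (fun l => ((Function.update (fun _ => 1) i (isomsToGL (sq (Fin k) F) h) : Fin t → GL (Fin k) F) l :
      Matrix (Fin k) (Fin k) F)) = Function.update (fun _ => 1) i (isomsToGL (sq (Fin k) F) h : Matrix (Fin k) (Fin k) F) := by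
    funext l
    rcases eq_or_ne l i with rfl | hl
    · simp
    · simp [hl]
  rw [show (∏ l, ((Function.update (fun _ => 1) i (isomsToGL (sq (Fin k) F) h) : Fin t → GL (Fin k) F) l :
      Matrix (Fin k) (Fin k) F) (p l) (q l)) =
      CfsgLib.Aschbacher.pureMat (fun l => ((Function.update (fun _ => 1) i (isomsToGL (sq (Fin k) F) h) : Fin t → GL (Fin k) F) l :
      Matrix (Fin k) (Fin k) F)) p q from rfl, e, CfsgLib.Aschbacher.slot_apply]
  split_ifs with hpq
  · rw [entry_eq]
    refine congrFun (congrArg _ (funext fun a => ?_)) _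
    rcases eq_or_ne a (q i) with rfl | ha
    · rw [Pi.single_eq_same, show Function.update p i (q i) = q from funext fun j => by
        rcases eq_or_ne j i with rfl | hj
        · simp
        · simp [hj, hpq j hj], Pi.single_eq_same]
    · rw [Pi.single_eq_of_ne ha, Pi.single_eq_of_ne]
      intro h'
      exact ha (by rw [← h', Function.update_self])
  · have e0 : (fun a => (Pi.single q (1 : F) : (Fin t → Fin k) → F) (Function.update p i a)) = 0 := funext fun a =>
      Pi.single_eq_of_ne (fun h' => hpq fun j hj => by rw [← h', Function.update_of_ne hj]) _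
    rw [e0, map_zero, Pi.zero_apply]

/-- permutations of the values slot by slot -/
def valPerm (τ : Fin t → Equiv.Perm (Fin k)) : Equiv.Perm (Fin t → Fin k) := Equiv.piCongrRight τ

theorem valPerm_apply (τ : Fin t → Equiv.Perm (Fin k)) (p : Fin t → Fin k) (j : Fin t) :
    valPerm τ p j = τ j (p j) := rfl

theorem valPerm_inWr (τ : Fin t → Equiv.Perm (Fin k)) : InWr (permQ (F := F) (valPerm τ)) := by
  classical
  refine Subgroup.subset_closure (Or.inl ⟨fun j => isomsToGL (sq (Fin k) F) (permQ (τ j)), fun p q => ?_⟩)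
  simp only [entry_eq, permQ_single, Pi.single_apply]
  by_cases h : p = valPerm τ q
  · rw [if_pos h, Finset.prod_eq_one]
    intro j _
    rw [if_pos (by rw [h]; rfl)]
  · rw [if_neg h]
    obtain ⟨j, hj⟩ := Function.ne_iff.1 h
    rw [Finset.prod_eq_zero (Finset.mem_univ j)]
    rw [if_neg (by rwa [valPerm_apply] at hj)]

/-- permutations of the slots -/
def slotPerm (π : Equiv.Perm (Fin t)) : Equiv.Perm (Fin t → Fin k) where
  toFun p := p ∘ π.symm
  invFun p := p ∘ π
  left_inv p := by funext j; simp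
  right_inv p := by funext j; simp

theorem slotPerm_inWr (π : Equiv.Perm (Fin t)) : InWr (permQ (F := F) (slotPerm (k := k) π)) := by
  classical
  refine Subgroup.subset_closure (Or.inr ⟨π, fun p q => ?_⟩)
  rw [entry_eq, permQ_single, Pi.single_apply]
  refine if_congr ⟨fun h => ?_, fun h => ?_⟩ rfl rfl
  · rw [h]; exact funext fun j => (by simp [slotPerm])
  · rw [h]; exact funext fun j => (by simp [slotPerm])

/-- conjugation by a coordinate permutation mapping lines to lines -/
theorem conj_perm {i i' : Fin t} {Φ : Equiv.Perm (Fin t → Fin k)} {τ : Equiv.Perm (Fin k)}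
    (hΦ : ∀ p a, Φ (Function.update p i a) = Function.update (Φ p) i' (τ a)) (u : indep t k F i) :
    ∃ hu : (fun p => permQ τ * u.1 (Φ.symm p) * (permQ τ)⁻¹) ∈ indep t k F i',
      permQ Φ * lineQ i u * (permQ Φ)⁻¹ = lineQ i' ⟨_, hu⟩ := by
  have hs : ∀ p b, Φ.symm (Function.update p i' b) = Function.update (Φ.symm p) i (τ.symm b) := fun p b => by
    rw [Equiv.symm_apply_eq, hΦ, Equiv.apply_symm_apply, Equiv.apply_symm_apply]
  refine ⟨fun p a => by simp only [hs, mem_indep.1 u.2], ?_⟩
  rw [← map_inv]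
  refine quadIsoms_ext _ fun x => funext fun p => ?_
  show (permQ (F := F) Φ).1 ((lineQ i u).1 ((permQ (F := F) Φ⁻¹).1 x)) p =
    (permQ τ * u.1 (Φ.symm p) * (permQ τ)⁻¹ : Sml k F).1 (fun a => x (Function.update p i' a)) (p i')
  rw [permQ_apply, lineQ_apply, ← map_inv]
  show _ = (permQ (F := F) τ).1 ((u.1 (Φ.symm p)).1 ((permQ (F := F) τ⁻¹).1 _)) (p i')
  rw [permQ_apply]
  have e1 : τ.symm (p i') = Φ.symm p i := by
    have h := congrFun (hs p (p i')) i
    rw [Function.update_eq_self, Function.update_self] at h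
    exact h.symm
  rw [e1]
  refine congrFun (congrArg _ (funext fun a => ?_)) _
  rw [permQ_apply, permQ_apply]
  show x (Φ (Function.update (Φ.symm p) i a)) = x (Function.update p i' (τ a))
  rw [hΦ, Equiv.apply_symm_apply]

/-- a set of points saturated in direction `i` -/
def Sat (i : Fin t) (T : Finset (Fin t → Fin k)) : Prop := ∀ p a, Function.update p i a ∈ T ↔ p ∈ T

theorem sat_of_closed {i : Fin t} {T : Finset (Fin t → Fin k)} (h : ∀ p ∈ T, ∀ a, Function.update p i a ∈ T) :
    Sat i T := fun p a => ⟨fun hp => by simpa using h _ hp (p i), fun hp => h p hp a⟩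

/-- the same element on the lines in `T`, one elsewhere -/
def setI {i : Fin t} {T : Finset (Fin t → Fin k)} (hT : Sat i T) : Sml k F →* indep t k F i where
  toFun x := ⟨fun p => if p ∈ T then x else 1, fun p a => by simp only [hT p a]⟩
  map_one' := Subtype.ext (funext fun p => by simp)
  map_mul' g h := Subtype.ext (funext fun p => by
    show (if p ∈ T then g * h else 1) = (if p ∈ T then g else 1) * (if p ∈ T then h else 1)
    split_ifs <;> simp)

theorem setI_apply {i : Fin t} {T : Finset (Fin t → Fin k)} (hT : Sat i T) (x : Sml k F) (p : Fin t → Fin k) :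
    (setI hT x).1 p = if p ∈ T then x else 1 := rfl

/-- the points over which a family is not trivial -/
noncomputable def supp {i : Fin t} (u : indep t k F i) : Finset (Fin t → Fin k) :=
  haveI := Classical.decEq (Sml k F)
  Finset.univ.filter fun p => u.1 p ≠ 1

theorem mem_supp {i : Fin t} {u : indep t k F i} {p : Fin t → Fin k} : p ∈ supp u ↔ u.1 p ≠ 1 := by
  classical
  simp [supp]

theorem supp_eq_empty {i : Fin t} {u : indep t k F i} : supp u = ∅ ↔ u = 1 := by
  rw [Finset.eq_empty_iff_forall_notMem]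
  simp only [mem_supp, not_not]
  exact ⟨fun h => Subtype.ext (funext h), fun h p => by rw [h]; rfl⟩

variable {M : Subgroup (Big t k F)}

variable (M) in
/-- the subgroup contains the commutator subgroup on the lines in `T` -/
def Fam (i : Fin t) (T : Finset (Fin t → Fin k)) : Prop :=
  ∃ hT : Sat i T, ∀ x ∈ commutator (Sml k F), lineQ i (setI hT x) ∈ M

section

variable [Fintype F] (h2 : (2 : F) ≠ 0) (hk : Odd k) (hk3 : 3 ≤ k)
  (hext : ∀ g ∈ commutator (Big t k F), InWr g → g ∈ M)

include hext in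
theorem slot_mem {i : Fin t} {y : Sml k F} (hy : y ∈ commutator (Sml k F)) : slotQ i y ∈ M := by
  refine hext _ ?_ (slotQ_inWr i y)
  have h : slotQ i y ∈ (commutator (Sml k F)).map (slotQ i) := Subgroup.mem_map_of_mem _ hy
  rw [commutator_def, Subgroup.map_commutator] at h
  rw [commutator_def]
  exact Subgroup.commutator_mono le_top le_top h

include h2 hk hk3 hext in
theorem Fam.transport {i i' : Fin t} {T : Finset (Fin t → Fin k)} (hf : Fam M i T)
    {Φ : Equiv.Perm (Fin t → Fin k)} {τ : Equiv.Perm (Fin k)}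
    (hΦ : ∀ p a, Φ (Function.update p i a) = Function.update (Φ p) i' (τ a))
    (hw : InWr (permQ (F := F) Φ)) : Fam M i' (T.map Φ.toEmbedding) := by
  obtain ⟨hT, hx⟩ := hf
  have hT' : Sat i' (T.map Φ.toEmbedding) := sat_of_closed fun p hp b => by
    rw [Finset.mem_map_equiv] at hp ⊢
    have e : Φ.symm (Function.update p i' b) = Function.update (Φ.symm p) i (τ.symm b) := by
      rw [Equiv.symm_apply_eq, hΦ, Equiv.apply_symm_apply, Equiv.apply_symm_apply]
    rw [e, hT]
    exact hp
  refine ⟨hT', fun y hy => ?_⟩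
  obtain ⟨h, hh⟩ := exists_comp h2 hk hk3 i (permQ (F := F) Φ)
  have hm : permQ Φ * slotQ i h ∈ M := hext _ hh (inWr_mul hw (slotQ_inWr i h))
  obtain ⟨x, hxd⟩ : ∃ x, x = h⁻¹ * ((permQ τ)⁻¹ * y * permQ τ) * h := ⟨_, rfl⟩
  have hxm : x ∈ commutator (Sml k F) := by
    have hn : (commutator (Sml k F)).Normal := inferInstance
    have := hn.conj_mem _ (hn.conj_mem y hy (permQ τ)⁻¹) h⁻¹
    rw [inv_inv, inv_inv] at this
    rwa [hxd]
  have hxy : permQ τ * (h * x * h⁻¹) * (permQ τ)⁻¹ = y := by rw [hxd]; group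
  have h1 := mul_mem (mul_mem hm (hx x hxm)) (inv_mem hm)
  obtain ⟨hu, e⟩ := conj_perm hΦ (constI t k F i h * setI hT x * (constI t k F i h)⁻¹)
  have e0 : permQ Φ * slotQ i h * lineQ i (setI hT x) * (permQ Φ * slotQ i h)⁻¹ =
      permQ Φ * lineQ i (constI t k F i h * setI hT x * (constI t k F i h)⁻¹) * (permQ Φ)⁻¹ := by
    rw [map_mul, map_mul, map_inv, show lineQ i (constI t k F i h) = slotQ i h from rfl]
    group
  rw [e0, e] at h1
  convert h1 using 1
  refine congrArg (lineQ i') (Subtype.ext (funext fun p => ?_))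
  rw [setI_apply]
  show _ = permQ τ * (h * (if Φ.symm p ∈ T then x else 1) * h⁻¹) * (permQ τ)⁻¹
  simp only [Finset.mem_map_equiv]
  split_ifs
  · exact hxy.symm
  · group

variable {hex : ¬ (Fintype.card F = 3 ∧ k = 3)}

/-- a subgroup of the commutator subgroup normalised by it is everything -/
theorem values_top (h2 : (2 : F) ≠ 0) (hk : Odd k) (hk3 : 3 ≤ k) (hex : ¬ (Fintype.card F = 3 ∧ k = 3))
    {N : Subgroup (Sml k F)} (hle : N ≤ commutator (Sml k F))
    (hnorm : ∀ y ∈ commutator (Sml k F), ∀ x ∈ N, y * x * y⁻¹ ∈ N) {z : Sml k F} (hz : z ∈ N) (hz1 : z ≠ 1) :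
    N = commutator (Sml k F) := by
  haveI := isSimpleGroup_commutator h2 hk hk3 hex
  haveI : (N.subgroupOf (commutator (Sml k F))).Normal := ⟨fun x hx y => hnorm y y.2 x hx⟩
  rcases Subgroup.Normal.eq_bot_or_eq_top (H := N.subgroupOf (commutator (Sml k F))) inferInstance with h | h
  · exact absurd (congrArg Subtype.val (Subgroup.eq_bot_iff_forall _ |>.1 h ⟨z, hle hz⟩ hz)) hz1
  · exact le_antisymm hle (Subgroup.subgroupOf_eq_top.1 h)

include h2 hk hk3 hext in
/-- minimal supports give families -/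
theorem fam_of_min (hex : ¬ (Fintype.card F = 3 ∧ k = 3)) {i : Fin t} {u : indep t k F i}
    (hu : lineQ i u ∈ M) (huv : ∀ p, u.1 p ∈ commutator (Sml k F)) {c : Fin t → Fin k} (hc : c ∈ supp u)
    (hmin : ∀ v : indep t k F i, lineQ i v ∈ M → (∀ p, v.1 p ∈ commutator (Sml k F)) →
      (supp v).card < (supp u).card → v = 1) : Fam M i (supp u) := by
  classical
  have hT : Sat i (supp u) := fun p a => by rw [mem_supp, mem_supp, mem_indep.1 u.2]
  obtain ⟨S, hS⟩ : ∃ S : Subgroup (indep t k F i), ∀ v, v ∈ S ↔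
      lineQ i v ∈ M ∧ (∀ p, v.1 p ∈ commutator (Sml k F)) ∧ ∀ p ∉ supp u, v.1 p = 1 :=
    ⟨{ carrier := {v | lineQ i v ∈ M ∧ (∀ p, v.1 p ∈ commutator (Sml k F)) ∧ ∀ p ∉ supp u, v.1 p = 1}
       one_mem' := ⟨by rw [map_one]; exact one_mem M, fun p => one_mem _, fun p _ => rfl⟩
       mul_mem' := fun {a b} ha hb => ⟨by rw [map_mul]; exact mul_mem ha.1 hb.1,
         fun p => mul_mem (ha.2.1 p) (hb.2.1 p), fun p hp => by
           show a.1 p * b.1 p = 1
           rw [ha.2.2 p hp, hb.2.2 p hp, one_mul]⟩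
       inv_mem' := fun {a} ha => ⟨by rw [map_inv]; exact inv_mem ha.1, fun p => inv_mem (ha.2.1 p),
         fun p hp => by show (a.1 p)⁻¹ = 1; rw [ha.2.2 p hp, inv_one]⟩ }, fun v => Iff.rfl⟩
  have huS : u ∈ S := (hS u).2 ⟨hu, huv, fun p hp => by simpa [mem_supp] using hp⟩
  have hinj : ∀ v ∈ S, ∀ d ∈ supp u, v.1 d = 1 → v = 1 := fun v hv d hd hvd => by
    obtain ⟨h1, h2', h3⟩ := (hS v).1 hv
    refine hmin v h1 h2' (Finset.card_lt_card ⟨fun p hp => ?_, fun hsub => mem_supp.1 (hsub hd) hvd⟩)
    by_contra hp'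
    exact mem_supp.1 hp (h3 p hp')
  let ev : (Fin t → Fin k) → S →* Sml k F := fun d =>
    { toFun := fun v => v.1.1 d, map_one' := rfl, map_mul' := fun _ _ => rfl }
  have hconj : ∀ y ∈ commutator (Sml k F), ∀ v ∈ S,
      constI t k F i y * v * (constI t k F i y)⁻¹ ∈ S := fun y hy v hv => by
    obtain ⟨h1, h2', h3⟩ := (hS v).1 hv
    refine (hS _).2 ⟨?_, fun p => ?_, fun p hp => ?_⟩
    · rw [map_mul, map_mul, map_inv]
      exact mul_mem (mul_mem (slot_mem hext hy) h1) (inv_mem (slot_mem hext hy))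
    · show y * v.1 p * y⁻¹ ∈ _
      exact mul_mem (mul_mem hy (h2' p)) (inv_mem hy)
    · show y * v.1 p * y⁻¹ = 1
      rw [h3 p hp]; group
  have htop : ∀ d ∈ supp u, ∀ z ∈ commutator (Sml k F), ∃ v ∈ S, v.1 d = z := by
    intro d hd z hz
    have h : (ev d).range = commutator (Sml k F) := by
      refine values_top h2 hk hk3 hex (fun z hz => ?_) (fun y hy x hx => ?_) ⟨⟨u, huS⟩, rfl⟩ (mem_supp.1 hd)
      · obtain ⟨v, rfl⟩ := hz; exact ((hS v.1).1 v.2).2.1 d
      · obtain ⟨v, rfl⟩ := hx; exact ⟨⟨_, hconj y hy v.1 v.2⟩, rfl⟩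
    obtain ⟨v, hv⟩ := h ▸ hz
    exact ⟨v.1, v.2, hv⟩
  refine ⟨hT, fun y hy => ?_⟩
  obtain ⟨v, hv, hvy⟩ := htop c hc y hy
  suffices h : setI hT y = v by rw [h]; exact ((hS v).1 hv).1
  refine Subtype.ext (funext fun d => ?_)
  rw [setI_apply]
  split_ifs with hd
  swap
  · exact (((hS v).1 hv).2.2 d hd).symm
  -- the two conjugations agree
  have key : ∀ w ∈ S, v.1 d * w.1 d * (v.1 d)⁻¹ = y * w.1 d * y⁻¹ := by
    intro w hw
    have h := hinj _ (mul_mem (mul_mem (mul_mem hv hw) (inv_mem hv)) (inv_mem (hconj y hy w hw))) c hc (by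
      show v.1 c * w.1 c * (v.1 c)⁻¹ * (y * w.1 c * y⁻¹)⁻¹ = 1
      rw [hvy]; group)
    have h' : v.1 d * w.1 d * (v.1 d)⁻¹ * (y * w.1 d * y⁻¹)⁻¹ = 1 := congrArg (fun a : indep t k F i => a.1 d) h
    exact mul_inv_eq_one.1 h'
  obtain ⟨e, he⟩ := scalar_of_commute h2 hk3 (x := y⁻¹ * v.1 d) fun z hz => by
    obtain ⟨w, hw, rfl⟩ := htop d hd z hz
    have h := key w hw
    rw [mul_inv_eq_iff_eq_mul] at h
    rw [mul_assoc y⁻¹, h]
    group
  have h1 := eq_one_of_scalar_mem hk (mul_mem (inv_mem hy) (((hS v).1 hv).2.1 d)) he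
  exact inv_mul_eq_one.1 h1

theorem exists_noncomm (h2 : (2 : F) ≠ 0) (hk : Odd k) (hk3 : 3 ≤ k) :
    ∃ x ∈ commutator (Sml k F), ∃ y ∈ commutator (Sml k F), x * y * x⁻¹ * y⁻¹ ≠ 1 := by
  obtain ⟨x, hx, hx1⟩ := exists_flip_ne_one (F := F) h2 hk3
  by_contra hh
  push Not at hh
  obtain ⟨c, hc⟩ := scalar_of_commute h2 hk3 (x := x) fun y hy => by
    have h : x * y = y * x := by
      have := mul_inv_eq_one.1 (hh x hx y hy)
      rwa [mul_inv_eq_iff_eq_mul] at this
    exact h.symm
  exact hx1 (eq_one_of_scalar_mem hk hx hc)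

include h2 hk hk3 hext in
/-- the commutator subgroup of every line -/
theorem lines (hex : ¬ (Fintype.card F = 3 ∧ k = 3)) {i : Fin t} (u : indep t k F i) (hu : lineQ i u ∈ M)
    (h1 : ∃ p, u.1 p = 1) (hns : ∃ p, ¬ ∃ c : F, ∀ v, (u.1 p).1 v = c • v) :
    ∀ (i : Fin t) (c : Fin t → Fin k), ∀ x ∈ commutator (Sml k F), lineQ i (oneI i c x) ∈ M := by
  classical
  -- all values in the commutator subgroup
  obtain ⟨a, ha⟩ := h1
  obtain ⟨b, hb⟩ := hns
  obtain ⟨x₀, hx₀, hxb⟩ : ∃ x ∈ commutator (Sml k F), x * u.1 b ≠ u.1 b * x := by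
    by_contra hh
    push Not at hh
    exact hb (scalar_of_commute h2 hk3 hh)
  have hP : ∃ n, ∃ (i : Fin t) (v : indep t k F i), lineQ i v ∈ M ∧ (∀ p, v.1 p ∈ commutator (Sml k F)) ∧
      (supp v).Nonempty ∧ supp v ≠ Finset.univ ∧ (supp v).card = n := by
    refine ⟨_, i, u * constI t k F i x₀ * u⁻¹ * (constI t k F i x₀)⁻¹, ?_, fun p => ?_, ⟨b, ?_⟩, ?_, rfl⟩
    · rw [map_mul, map_mul, map_mul, map_inv, map_inv]
      exact mul_mem (mul_mem (mul_mem hu (slot_mem hext hx₀)) (inv_mem hu)) (inv_mem (slot_mem hext hx₀))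
    · exact Subgroup.commutator_mem_commutator (Subgroup.mem_top _) (Subgroup.mem_top _)
    · rw [mem_supp]
      intro h
      have h' : u.1 b * x₀ * (u.1 b)⁻¹ * x₀⁻¹ = 1 := h
      rw [mul_inv_eq_one, mul_inv_eq_iff_eq_mul] at h'
      exact hxb h'.symm
    · intro h
      have := Finset.eq_univ_iff_forall.1 h a
      rw [mem_supp] at this
      refine this ?_
      show u.1 a * x₀ * (u.1 a)⁻¹ * x₀⁻¹ = 1
      rw [ha]; group
  obtain ⟨i, v, hv, hvv, ⟨c, hc⟩, hvu, hvn⟩ := Nat.find_spec hP
  have hmin : ∀ (i' : Fin t) (w : indep t k F i'), lineQ i' w ∈ M → (∀ p, w.1 p ∈ commutator (Sml k F)) →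
      (supp w).card < (supp v).card → w = 1 := by
    intro i' w hw hwv hlt
    by_contra hw1
    have hne : (supp w).Nonempty := Finset.nonempty_iff_ne_empty.2 fun e => hw1 (supp_eq_empty.1 e)
    refine Nat.find_min hP (hvn ▸ hlt) ⟨i', w, hw, hwv, hne, fun e => ?_, rfl⟩
    rw [e] at hlt
    exact absurd hlt (not_lt.2 (Finset.card_le_univ _))
  obtain ⟨T, hTd⟩ : ∃ T, T = supp v := ⟨_, rfl⟩
  have hfam : Fam M i T := hTd ▸ fam_of_min h2 hk hk3 hext hex hv hvv hc (hmin i)
  rw [← hTd] at hc hvu hmin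
  obtain ⟨hT, hTM⟩ := id hfam
  obtain ⟨x, hx, y, hy, hxy⟩ := exists_noncomm (F := F) h2 hk hk3
  -- images are equal or disjoint
  have hdich : ∀ m, m ≠ i → ∀ σ : Equiv.Perm (Fin k), (∃ p ∈ T, Function.update p m (σ (p m)) ∈ T) →
      ∀ p ∈ T, Function.update p m (σ (p m)) ∈ T := by
    intro m hm σ hex' p hp
    obtain ⟨Φ, hΦd⟩ : ∃ Φ, Φ = valPerm (Function.update (fun _ : Fin t => (1 : Equiv.Perm (Fin k))) m σ) := ⟨_, rfl⟩
    have hΦp : ∀ p, Φ p = Function.update p m (σ (p m)) := fun p => funext fun j => by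
      rw [hΦd, valPerm_apply]
      rcases eq_or_ne j m with rfl | hj
      · simp
      · simp [hj]
    have hΦ : ∀ p a, Φ (Function.update p i a) = Function.update (Φ p) i ((1 : Equiv.Perm (Fin k)) a) := fun p a => by
      rw [hΦp, hΦp, Function.update_of_ne hm, Function.update_comm hm]
      rfl
    obtain ⟨hT', hM'⟩ := hfam.transport h2 hk hk3 hext hΦ (hΦd ▸ valPerm_inWr _)
    obtain ⟨T', hT'd⟩ : ∃ T', T' = T.map Φ.toEmbedding := ⟨_, rfl⟩
    by_cases hsub : T ⊆ T'
    · have e : T' = T := (Finset.eq_of_subset_of_card_le hsub (by rw [hT'd, Finset.card_map])).symm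
      rw [← hΦp, ← e, hT'd]
      exact Finset.mem_map_of_mem _ hp
    exfalso
    obtain ⟨w, hwd⟩ : ∃ w : indep t k F i, w = setI hT x * setI hT' y * (setI hT x)⁻¹ * (setI hT' y)⁻¹ := ⟨_, rfl⟩
    have hwp : ∀ p, w.1 p = if p ∈ T ∧ p ∈ T' then x * y * x⁻¹ * y⁻¹ else 1 := fun p => by
      rw [hwd]
      show (if p ∈ T then x else 1) * (if p ∈ T.map Φ.toEmbedding then y else 1) *
        (if p ∈ T then x else 1)⁻¹ * (if p ∈ T.map Φ.toEmbedding then y else 1)⁻¹ = _
      rw [← hT'd]
      by_cases h : p ∈ T <;> by_cases h' : p ∈ T' <;> simp [h, h']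
    have hw1 : w = 1 := hmin i w (by
        rw [hwd, map_mul, map_mul, map_mul, map_inv, map_inv]
        exact mul_mem (mul_mem (mul_mem (hTM x hx) (hM' y hy)) (inv_mem (hTM x hx))) (inv_mem (hM' y hy)))
      (fun p => by
        rw [hwp]; split_ifs
        · exact mul_mem (mul_mem (mul_mem hx hy) (inv_mem hx)) (inv_mem hy)
        · exact one_mem _)
      (Finset.card_lt_card ((Finset.subset_iff.2 fun p hp => by
          rw [mem_supp, hwp] at hp
          by_contra hp'
          exact hp (if_neg fun h => hp' h.1)).ssubset_of_ne fun e => hsub fun p hp => by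
          rw [← e, mem_supp, hwp] at hp
          by_contra hp'
          exact hp (if_neg fun h => hp' h.2)))
    obtain ⟨q, hq, hq'⟩ := hex'
    have := congrArg (fun w : indep t k F i => w.1 (Φ q)) hw1
    simp only [hwp, OneMemClass.coe_one, Pi.one_apply] at this
    rw [if_pos ⟨hΦp q ▸ hq', hT'd ▸ Finset.mem_map_of_mem _ hq⟩] at this
    exact hxy this
  -- every slot is constant or full
  have hinv : ∀ m, m ≠ i → (∃ p ∈ T, p m ≠ c m) → ∀ p ∈ T, ∀ b, Function.update p m b ∈ T := by
    intro m hm ⟨p', hp', hne⟩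
    have hav : ∀ r ∈ T, ∀ a b, r m ≠ a → r m ≠ b → ∀ p ∈ T, Function.update p m (Equiv.swap a b (p m)) ∈ T :=
      fun r hr a b h1 h2' => hdich m hm (Equiv.swap a b) ⟨r, hr, by
        rw [Equiv.swap_apply_of_ne_of_ne h1 h2', Function.update_eq_self]; exact hr⟩
    obtain ⟨z, hzc, hzp⟩ := exists_third hk3 (c m) (p' m)
    have hcp : ∀ p ∈ T, Function.update p m (Equiv.swap (c m) (p' m) (p m)) ∈ T := by
      intro p hp
      have s1 := hav p' hp' (c m) z hne (Ne.symm hzp) p hp
      have s2 := hav c hc (p' m) z (Ne.symm hne) (Ne.symm hzc) _ s1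
      have s3 := hav p' hp' (c m) z hne (Ne.symm hzp) _ s2
      simp only [Function.update_self, Function.update_idem] at s3
      convert s3 using 2
      exact swap_triple (Ne.symm hzc) (Ne.symm hzp) (Ne.symm hne) _
    have hall : ∀ a b : Fin k, a ≠ b → ∀ p ∈ T, Function.update p m (Equiv.swap a b (p m)) ∈ T := by
      intro a b hab
      by_cases h1 : c m ≠ a ∧ c m ≠ b
      · exact hav c hc a b h1.1 h1.2
      by_cases h2' : p' m ≠ a ∧ p' m ≠ b
      · exact hav p' hp' a b h2'.1 h2'.2
      rcases (Classical.not_and_iff_not_or_not.1 h1) with e | e <;>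
        rcases (Classical.not_and_iff_not_or_not.1 h2') with e' | e' <;> rw [not_not] at e e'
      · exact absurd (e'.trans e.symm) hne
      · rw [← e, ← e']; exact hcp
      · rw [← e, ← e', Equiv.swap_comm]; exact hcp
      · exact absurd (e'.trans e.symm) hne
    intro p hp b
    rcases eq_or_ne (p m) b with rfl | hne'
    · rwa [Function.update_eq_self]
    · have := hall (p m) b hne' p hp
      rwa [Equiv.swap_apply_left] at this
  obtain ⟨J, hJd⟩ : ∃ J : Finset (Fin t), J = Finset.univ.filter fun m => m ≠ i ∧ ∀ p ∈ T, p m = c m := ⟨_, rfl⟩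
  have hmJ : ∀ m, m ∈ J ↔ m ≠ i ∧ ∀ p ∈ T, p m = c m := fun m => by rw [hJd]; simp
  have hmemT : ∀ p, p ∈ T ↔ ∀ j ∈ J, p j = c j := by
    refine fun p => ⟨fun hp j hj => ((hmJ j).1 hj).2 p hp, fun hpJ => ?_⟩
    suffices ∀ S : Finset (Fin t), ∀ p : Fin t → Fin k, (∀ j ∈ J, p j = c j) → (∀ j ∉ S, p j = c j) → p ∈ T from
      this Finset.univ p hpJ (by simp)
    intro S
    induction S using Finset.induction_on with
    | empty => intro p _ h; rwa [show p = c from funext fun j => h j (Finset.notMem_empty j)]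
    | insert s S hs ih =>
      intro p hpJ hpS
      have h := ih (Function.update p s (c s))
        (fun j hj => by
          rcases eq_or_ne j s with rfl | hjs
          · simp
          · rw [Function.update_of_ne hjs]; exact hpJ j hj)
        (fun j hj => by
          rcases eq_or_ne j s with rfl | hjs
          · simp
          · rw [Function.update_of_ne hjs]; exact hpS j (by simp [hjs, hj]))
      by_cases hsJ : s ∈ J
      · rwa [← hpJ s hsJ, Function.update_eq_self] at h
      rcases eq_or_ne s i with rfl | hsi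
      · exact (hT p (c s)).1 h
      · rw [hmJ] at hsJ
        push Not at hsJ
        have := hinv s hsi (hsJ hsi) _ h (p s)
        rwa [Function.update_idem, Function.update_eq_self] at this
  -- no full slot
  have hline : ∀ m, m ≠ i → m ∈ J := by
    intro m hmi
    by_contra hm
    obtain ⟨j, hj⟩ : ∃ j, j ∈ J := by
      by_contra hh
      push Not at hh
      exact hvu (Finset.eq_univ_iff_forall.2 fun p => (hmemT p).2 fun j hj => absurd hj (hh j))
    obtain ⟨hji, -⟩ := (hmJ j).1 hj
    have hjm : j ≠ m := fun e => hm (e ▸ hj)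
    obtain ⟨π, hπd⟩ : ∃ π, π = Equiv.swap i m * Equiv.swap i j := ⟨_, rfl⟩
    have hπi : π i = j := by
      rw [hπd, Equiv.Perm.mul_apply, Equiv.swap_apply_left, Equiv.swap_apply_of_ne_of_ne hji hjm]
    have hπj : π j = m := by
      rw [hπd, Equiv.Perm.mul_apply, Equiv.swap_apply_right, Equiv.swap_apply_left]
    have hπl : ∀ l, l ≠ i → l ≠ j → l ≠ m → π l = l := fun l h1 h2' h3 => by
      rw [hπd, Equiv.Perm.mul_apply, Equiv.swap_apply_of_ne_of_ne h1 h2', Equiv.swap_apply_of_ne_of_ne h1 h3]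
    have hΦ : ∀ p a, slotPerm (k := k) π (Function.update p i a) =
        Function.update (slotPerm π p) j ((1 : Equiv.Perm (Fin k)) a) := fun p a => funext fun l => by
      show Function.update p i a (π.symm l) = _
      rcases eq_or_ne l j with rfl | hl
      · rw [show π.symm l = i by rw [Equiv.symm_apply_eq, hπi], Function.update_self, Function.update_self]; rfl
      · rw [Function.update_of_ne hl, Function.update_of_ne]
        · rfl
        · rw [Ne, Equiv.symm_apply_eq, hπi]; exact hl
    obtain ⟨hT2, hM2⟩ := hfam.transport h2 hk hk3 hext hΦ (slotPerm_inWr π)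
    obtain ⟨T2, hT2d⟩ : ∃ T2, T2 = T.map (slotPerm (k := k) π).toEmbedding := ⟨_, rfl⟩
    have hmem2 : ∀ p, p ∈ T2 ↔ ∀ l ∈ J, p (π l) = c l := fun p => by
      rw [hT2d, Finset.mem_map_equiv, hmemT]; rfl
    obtain ⟨z, hzj, -⟩ := exists_third hk3 (c j) (c j)
    obtain ⟨z', hz'j, hz'z⟩ := exists_third hk3 (c j) z
    obtain ⟨σ, hσd⟩ : ∃ σ, σ = Equiv.swap (c j) z' * Equiv.swap z' z * Equiv.swap (c j) z' * Equiv.swap z' z :=
      ⟨_, rfl⟩
    have hσ : σ (c j) = z := by
      rw [hσd]
      simp only [Equiv.Perm.mul_apply]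
      rw [Equiv.swap_apply_of_ne_of_ne hz'j.symm hzj.symm, Equiv.swap_apply_left, Equiv.swap_apply_left,
        Equiv.swap_apply_of_ne_of_ne hzj hz'z.symm]
    have hY : lineQ j (setI hT2 (permQ σ)) ∈ M := hM2 _ (hσd ▸ swaps_mem _ _ _)
    -- it is a permutation of coordinates
    have h2sat : ∀ p a, Function.update p j a ∈ T2 ↔ p ∈ T2 := hT2d ▸ hT2
    obtain ⟨Ψ, hΨ⟩ : ∃ Ψ : Equiv.Perm (Fin t → Fin k), ∀ p, Ψ p =
        if p ∈ T2 then Function.update p j (σ (p j)) else p :=
      ⟨{ toFun := fun p => if p ∈ T2 then Function.update p j (σ (p j)) else p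
         invFun := fun p => if p ∈ T2 then Function.update p j (σ.symm (p j)) else p
         left_inv := fun p => by
           by_cases hp : p ∈ T2
           · simp [hp, h2sat]
           · simp [hp]
         right_inv := fun p => by
           by_cases hp : p ∈ T2
           · simp [hp, h2sat]
           · simp [hp] }, fun p => rfl⟩
    have hYe : lineQ j (setI hT2 (permQ σ)) = permQ (F := F) Ψ := by
      refine quadIsoms_ext _ fun f => funext fun p => ?_
      rw [lineQ_apply, permQ_apply, setI_apply]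
      simp only [← hT2d]
      have hs : Ψ.symm p = if p ∈ T2 then Function.update p j (σ.symm (p j)) else p := by
        rw [Equiv.symm_apply_eq, hΨ]
        by_cases hp : p ∈ T2
        · simp [hp, h2sat]
        · simp [hp]
      rw [hs]
      split_ifs with hp
      · rw [permQ_apply]
      · show f (Function.update p j (p j)) = f p
        rw [Function.update_eq_self]
    have hi2 : ∀ p a, Function.update p i a ∈ T2 ↔ p ∈ T2 := fun p a => by
      simp only [hmem2]
      refine forall₂_congr fun l hl => ?_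
      rw [Function.update_of_ne]
      intro e
      obtain ⟨hli, -⟩ := (hmJ l).1 hl
      have : l = π.symm i := by rw [← e, Equiv.symm_apply_apply]
      rw [show π.symm i = m by rw [Equiv.symm_apply_eq, hπd, Equiv.Perm.mul_apply,
        Equiv.swap_apply_of_ne_of_ne hmi hjm.symm, Equiv.swap_apply_right]] at this
      exact hm (this ▸ hl)
    have hΨi : ∀ p a, Ψ (Function.update p i a) = Function.update (Ψ p) i ((1 : Equiv.Perm (Fin k)) a) := fun p a => by
      rw [hΨ, hΨ]
      simp only [hi2, Function.update_of_ne hji]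
      split_ifs
      · exact Function.update_comm (Ne.symm hji) _ _ _
      · rfl
    obtain ⟨x₁, hx₁, hx₁1⟩ := exists_flip_ne_one (F := F) h2 hk3
    obtain ⟨hu', e⟩ := conj_perm hΨi (setI hT x₁)
    obtain ⟨w, hwd⟩ : ∃ w : indep t k F i, w = (setI hT x₁)⁻¹ * ⟨_, hu'⟩ := ⟨_, rfl⟩
    have hwp : ∀ p, w.1 p = (if p ∈ T then x₁ else 1)⁻¹ * (if Ψ.symm p ∈ T then x₁ else 1) := fun p => by
      rw [hwd]
      show _ * (permQ (1 : Equiv.Perm (Fin k)) * (if Ψ.symm p ∈ T then x₁ else 1) * (permQ 1)⁻¹) = _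
      rw [map_one, one_mul, inv_one, mul_one]
      rfl
    obtain ⟨A, hAd⟩ : ∃ A, A = T.filter fun p => p m = c j := ⟨_, rfl⟩
    have hA2 : ∀ p ∈ T, p ∈ T2 → p m = c j := fun p _ hp => by rw [← hπj]; exact (hmem2 p).1 hp j hj
    have hw1 : w = 1 := hmin i w (by
        rw [hwd, map_mul, map_inv, ← e, ← hYe]
        exact mul_mem (inv_mem (hTM x₁ hx₁)) (mul_mem (mul_mem hY (hTM x₁ hx₁)) (inv_mem hY)))
      (fun p => by
        rw [hwp]
        refine mul_mem (inv_mem ?_) ?_ <;> split_ifs
        all_goals first | exact hx₁ | exact one_mem _)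
      (by
        have hsub : supp w ⊆ A ∪ A.map Ψ.toEmbedding := fun p hp => by
          rw [mem_supp, hwp] at hp
          rw [Finset.mem_union, hAd, Finset.mem_map_equiv, Finset.mem_filter, Finset.mem_filter]
          by_cases h1 : p ∈ T <;> by_cases h2' : Ψ.symm p ∈ T
          · simp [h1, h2'] at hp
          · refine Or.inl ⟨h1, ?_⟩
            by_contra hne
            refine h2' ?_
            rwa [show Ψ.symm p = p by rw [Equiv.symm_apply_eq, hΨ, if_neg fun h => hne (hA2 p h1 h)]]
          · refine Or.inr ⟨h2', ?_⟩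
            by_contra hne
            refine h1 ?_
            have := hΨ (Ψ.symm p)
            rw [if_neg fun h => hne (hA2 _ h2' h), Equiv.apply_symm_apply] at this
            rwa [← this] at h2'
          · simp [h1, h2'] at hp
        have hA1 : 0 < A.card := Finset.card_pos.2 ⟨Function.update c m (c j), by
          rw [hAd, Finset.mem_filter, hmemT, Function.update_self]
          exact ⟨fun l hl => Function.update_of_ne (fun e : l = m => hm (e ▸ hl)) _ _, rfl⟩⟩
        have hkA : A.card * k ≤ T.card := by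
          rw [show A.card * k = (A ×ˢ (Finset.univ : Finset (Fin k))).card by rw [Finset.card_product, Finset.card_univ, Fintype.card_fin]]
          refine Finset.card_le_card_of_injOn (fun z => Function.update z.1 m z.2) (fun z hz => ?_) ?_
          · rw [Finset.mem_coe, Finset.mem_product, hAd, Finset.mem_filter, hmemT] at hz
            rw [Finset.mem_coe, hmemT]
            intro l hl
            show Function.update z.1 m z.2 l = c l
            rw [Function.update_of_ne (fun e : l = m => hm (e ▸ hl))]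
            exact hz.1.1 l hl
          · intro z hz z' hz' he
            rw [Finset.mem_coe, Finset.mem_product, hAd, Finset.mem_filter] at hz hz'
            have e2 : z.2 = z'.2 := by simpa using congrFun he m
            refine Prod.ext (funext fun l => ?_) e2
            rcases eq_or_ne l m with rfl | hl
            · rw [hz.1.2, hz'.1.2]
            · simpa [hl] using congrFun he l
        have := Finset.card_le_card hsub
        have := Finset.card_union_le A (A.map Ψ.toEmbedding)
        rw [Finset.card_map] at this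
        nlinarith)
    -- but it is not trivial
    obtain ⟨p, hpd⟩ : ∃ p, p = Function.update c m (c j) := ⟨_, rfl⟩
    have hpT : p ∈ T := (hmemT p).2 fun l hl => by
      rw [hpd]; exact Function.update_of_ne (fun e : l = m => hm (e ▸ hl)) _ _
    have hp2 : p ∈ T2 := (hmem2 p).2 fun l hl => by
      obtain ⟨hli, -⟩ := (hmJ l).1 hl
      rcases eq_or_ne l j with rfl | hlj
      · rw [hπj, hpd, Function.update_self]
      · rw [hπl l hli hlj (fun e => hm (e ▸ hl)), hpd, Function.update_of_ne (fun e : l = m => hm (e ▸ hl))]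
    have hq : Ψ p ∉ T := fun h => by
      have h' := (hmemT _).1 h j hj
      rw [hΨ, if_pos hp2, Function.update_self, hpd, Function.update_of_ne hjm, hσ] at h'
      exact hzj h'
    have := congrArg (fun w : indep t k F i => w.1 (Ψ p)) hw1
    simp only [hwp, Equiv.symm_apply_apply, if_neg hq, if_pos hpT, OneMemClass.coe_one, Pi.one_apply] at this
    exact hx₁1 (by simpa using this)
  -- one line, so all lines
  have hone : T = Finset.univ.filter (fun p => ∀ j, j ≠ i → p j = c j) := Finset.ext fun p => by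
    rw [hmemT, Finset.mem_filter]
    exact ⟨fun h => ⟨Finset.mem_univ _, fun j hj => h j (hline j hj)⟩, fun h j hj => h.2 j ((hmJ j).1 hj).1⟩
  intro i' c' x' hx'
  obtain ⟨π, hπ⟩ : ∃ π, π = Equiv.swap i i' := ⟨_, rfl⟩
  have hΦ : ∀ p a, slotPerm (k := k) π (Function.update p i a) =
      Function.update (slotPerm π p) i' ((1 : Equiv.Perm (Fin k)) a) := fun p a => funext fun l => by
    show Function.update p i a (π.symm l) = _
    rw [hπ, Equiv.symm_swap]
    rcases eq_or_ne l i' with rfl | hl
    · rw [Equiv.swap_apply_right, Function.update_self, Function.update_self]; rfl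
    · rw [Function.update_of_ne hl, Function.update_of_ne (fun e => hl (by rw [← Equiv.apply_eq_iff_eq (Equiv.swap i i'), e, Equiv.swap_apply_right]))]
      simp [slotPerm]
  obtain ⟨τ, hτ⟩ : ∃ τ, τ = fun l => Equiv.swap (c (π.symm l)) (c' l) := ⟨_, rfl⟩
  have hΦ2 : ∀ p a, valPerm τ (Function.update p i' a) = Function.update (valPerm τ p) i' (τ i' a) :=
    fun p a => funext fun l => by
      rw [valPerm_apply]
      rcases eq_or_ne l i' with rfl | hl
      · simp
      · simp [hl, valPerm_apply]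
  obtain ⟨hT3, hM3⟩ := (hfam.transport h2 hk hk3 hext hΦ (slotPerm_inWr π)).transport h2 hk hk3 hext hΦ2
    (valPerm_inWr τ)
  convert hM3 x' hx' using 1
  refine congrArg (lineQ i') (Subtype.ext (funext fun p => ?_))
  rw [oneI_apply, setI_apply]
  refine if_congr ?_ rfl rfl
  rw [Finset.mem_map_equiv, Finset.mem_map_equiv, hone, Finset.mem_filter]
  simp only [Finset.mem_univ, true_and]
  show _ ↔ ∀ j, j ≠ i → (τ (π j)).symm (p (π j)) = c j
  have hval : ∀ j, (τ (π j)).symm (p (π j)) = c j ↔ p (π j) = c' (π j) := fun j => by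
    rw [Equiv.symm_apply_eq, hτ]
    simp only [Equiv.symm_apply_apply, Equiv.swap_apply_left]
  simp only [hval]
  refine ⟨fun h j hj => h _ ?_, fun h l hl => ?_⟩
  · intro e
    apply hj
    rw [← π.injective.eq_iff, e, hπ, Equiv.swap_apply_left]
  · have := h (π.symm l) (fun e => hl (by
      rw [Equiv.symm_apply_eq, hπ, Equiv.swap_apply_left] at e; exact e))
    rwa [Equiv.apply_symm_apply] at this

end

end CfsgLib.MaxSub.TPow
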