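import Cfsg.Agent.Lib.MaxSub.TPow.BootSlot
import Cfsg.Agent.Lib.MaxSub.OMonoMain
import Cfsg.Agent.Lib.Classical.ExcIsoTwo
import Cfsg.Agent.Lib.Classical.OrthOmega
import Cfsg.Agent.Lib.ClassK.SmallSimple

/-!
The commutator subgroup of the isometry group of an odd sum of squares: centraliser, centre, simplicity.
-/

set_option autoImplicit false
set_option linter.unusedSectionVars false

namespace CfsgLib.MaxSub.TPow

open CfsgLib.Classical CfsgLib.Geom CfsgLib.Geom.OrthSub CfsgLib.MaxSub CfsgLib.MaxSub.OMono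
open QuadraticMap (polar)
open scoped Matrix MatrixGroups

variable {k : ℕ} {F : Type*} [Field F]

theorem exists_third {k : ℕ} (hk3 : 3 ≤ k) (a b : Fin k) : ∃ c, c ≠ a ∧ c ≠ b := by
  obtain ⟨c, -, hc⟩ := Finset.exists_mem_notMem_of_card_lt_card (s := ({a, b} : Finset (Fin k)))
    (t := Finset.univ) (lt_of_le_of_lt Finset.card_le_two (by rw [Finset.card_univ, Fintype.card_fin]; omega))
  simp only [Finset.mem_insert, Finset.mem_singleton, not_or] at hc
  exact ⟨c, hc⟩

/-- a perfect power of swaps moving `a` to `c` -/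
theorem swaps_mem (a b : Fin k) (c : Fin k) :
    permQ (F := F) (Equiv.swap a b * Equiv.swap b c * Equiv.swap a b * Equiv.swap b c) ∈
      commutator (Sml k F) := by
  have e : Equiv.swap a b * Equiv.swap b c * Equiv.swap a b * Equiv.swap b c =
      Equiv.swap a b * Equiv.swap b c * (Equiv.swap a b)⁻¹ * (Equiv.swap b c)⁻¹ := by
    rw [Equiv.swap_inv, Equiv.swap_inv]
  rw [e, map_mul, map_mul, map_mul, map_inv, map_inv]
  exact Subgroup.commutator_mem_commutator (Subgroup.mem_top _) (Subgroup.mem_top _)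

/-- only scalars commute with the commutator subgroup -/
theorem scalar_of_commute (h2 : (2 : F) ≠ 0) (hk3 : 3 ≤ k) {x : Sml k F}
    (hx : ∀ y ∈ commutator (Sml k F), y * x = x * y) : ∃ c : F, ∀ v, x.1 v = c • v := by
  have hap : ∀ y ∈ commutator (Sml k F), ∀ v, y.1 (x.1 v) = x.1 (y.1 v) := fun y hy v =>
    congrArg (fun g : Sml k F => g.1 v) (hx y hy)
  have hdiag : ∀ a l, l ≠ a → x.1 (Pi.single a 1) l = 0 := by
    intro a l hla
    obtain ⟨b, hba, hbl⟩ := exists_third hk3 a l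
    have h := congrFun (hap _ (flipQ_mem_commutator (Ne.symm hba)) (Pi.single a 1)) l
    rw [flipQ_apply, flipQ_single, if_pos (Finset.mem_insert_self a _),
      if_neg (by simp [hla, Ne.symm hbl]), Pi.single_neg, map_neg, Pi.neg_apply] at h
    exact (mul_eq_zero.1 (show (2 : F) * x.1 (Pi.single a 1) l = 0 by linear_combination h)).resolve_left h2
  have hconst : ∀ a c, x.1 (Pi.single a 1) a = x.1 (Pi.single c 1) c := by
    intro a c
    rcases eq_or_ne a c with rfl | hac
    · rfl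
    obtain ⟨b, hba, hbc⟩ := exists_third hk3 a c
    obtain ⟨σ, hσd⟩ : ∃ σ, σ = Equiv.swap a b * Equiv.swap b c * Equiv.swap a b * Equiv.swap b c := ⟨_, rfl⟩
    have hσ : σ a = c := by
      rw [hσd]
      simp only [Equiv.Perm.mul_apply]
      rw [Equiv.swap_apply_of_ne_of_ne (Ne.symm hba) hac, Equiv.swap_apply_left, Equiv.swap_apply_left,
        Equiv.swap_apply_of_ne_of_ne (Ne.symm hac) (Ne.symm hbc)]
    have h := congrFun (hap _ (hσd ▸ swaps_mem a b c) (Pi.single a 1)) c
    rw [permQ_apply, permQ_single, hσ, show σ.symm c = a by rw [Equiv.symm_apply_eq, hσ]] at h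
    exact h
  obtain ⟨a₀⟩ : Nonempty (Fin k) := ⟨⟨0, by omega⟩⟩
  refine ⟨x.1 (Pi.single a₀ 1) a₀, fun v => ?_⟩
  have e : (x.1 : (Fin k → F) →ₗ[F] (Fin k → F)) = x.1 (Pi.single a₀ 1) a₀ • LinearMap.id := by
    refine (Pi.basisFun F (Fin k)).ext fun a => funext fun l => ?_
    rw [Pi.basisFun_apply, LinearMap.smul_apply, LinearMap.id_apply, Pi.smul_apply]
    show x.1 (Pi.single a 1) l = _
    rcases eq_or_ne l a with rfl | hl
    · rw [hconst l a₀]; simp
    · rw [hdiag a l hl]; simp [hl]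
  exact LinearMap.congr_fun e v

/-- no scalar but one in the commutator subgroup -/
theorem eq_one_of_scalar_mem (hk : Odd k) {x : Sml k F} (hx : x ∈ commutator (Sml k F)) {c : F}
    (hc : ∀ v, x.1 v = c • v) : x = 1 := by
  let f : Sml k F →* Fˣ := LinearEquiv.det.comp (Sml k F).subtype
  have hdet : f x = 1 := MonoidHom.mem_ker.1 (Abelianization.commutator_subset_ker f hx)
  have h1 := congrArg Units.val hdet
  simp only [f, MonoidHom.comp_apply, Subgroup.coe_subtype, LinearEquiv.coe_det, Units.val_one] at h1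
  rw [show (x.1 : (Fin k → F) →ₗ[F] (Fin k → F)) = c • LinearMap.id from LinearMap.ext hc,
    LinearMap.det_smul, LinearMap.det_id, mul_one, Module.finrank_fintype_fun_eq_card, Fintype.card_fin] at h1
  obtain ⟨a⟩ : Nonempty (Fin k) := ⟨⟨0, hk.pos⟩⟩
  have hq := mem_quadIsoms.1 x.2 (Pi.single a (1 : F))
  rw [hc, sq_apply, sq_apply] at hq
  simp at hq
  have hc1 : c = 1 := by
    rcases mul_self_eq_one_iff.1 hq with h | h
    · exact h
    · rw [h, hk.neg_one_pow] at h1
      rw [h, h1]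
  exact quadIsoms_ext _ fun v => by rw [hc, hc1, one_smul]; rfl

theorem exists_flip_ne_one (h2 : (2 : F) ≠ 0) (hk3 : 3 ≤ k) :
    ∃ x ∈ commutator (Sml k F), x ≠ 1 := by
  obtain ⟨a, b, hab⟩ : ∃ a b : Fin k, a ≠ b := ⟨⟨0, by omega⟩, ⟨1, by omega⟩, by simp [Fin.ext_iff]⟩
  refine ⟨_, flipQ_mem_commutator hab, fun h => h2 ?_⟩
  have e := congrFun (congrArg (fun g : Sml k F => g.1 (Pi.single a 1)) h) a
  simp only [flipQ_single, Finset.mem_insert_self, if_true, Pi.single_eq_same] at e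
  rw [show ((1 : Sml k F).1 (Pi.single a 1)) a = 1 by simp] at e
  linear_combination -e

variable [Fintype F]

theorem center_commutator_eq_bot (h2 : (2 : F) ≠ 0) (hk : Odd k) (hk3 : 3 ≤ k) :
    Subgroup.center ↥(commutator (Sml k F)) = ⊥ := by
  rw [eq_bot_iff]
  intro z hz
  obtain ⟨c, hc⟩ := scalar_of_commute h2 hk3 fun y hy =>
    congrArg Subtype.val (Subgroup.mem_center_iff.1 hz ⟨y, hy⟩)
  exact Subgroup.mem_bot.2 (Subtype.ext (eq_one_of_scalar_mem hk z.2 hc))

/-- the commutator subgroup is simple -/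
theorem isSimpleGroup_commutator (h2 : (2 : F) ≠ 0) (hk : Odd k) (hk3 : 3 ≤ k)
    (hex : ¬ (Fintype.card F = 3 ∧ k = 3)) : IsSimpleGroup ↥(commutator (Sml k F)) := by
  suffices h : IsSimpleGroup (↥(commutator (Sml k F)) ⧸ Subgroup.center ↥(commutator (Sml k F))) by
    exact ((QuotientGroup.quotientBot (G := ↥(commutator (Sml k F)))).symm.trans
      (QuotientGroup.quotientMulEquivOfEq (center_commutator_eq_bot h2 hk hk3).symm)).isSimpleGroup
  by_cases h5 : 5 ≤ k
  · exact isSimpleGroup_commutator_quadIsoms (sq (Fin k) F) (sq_sep h2)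
      (by rw [Module.finrank_fintype_fun_eq_card, Fintype.card_fin]; exact h5)
  obtain rfl : k = 3 := by
    obtain ⟨m, rfl⟩ := hk
    omega
  have hq : 4 ≤ Fintype.card F := by
    have h1 := Fintype.one_lt_card (α := F)
    have hne2 : Fintype.card F ≠ 2 := fun h => h2 (by
      have := FiniteField.cast_card_eq_zero F
      rw [h] at this
      exact_mod_cast this)
    have h3 : Fintype.card F ≠ 3 := fun h => hex ⟨h, rfl⟩
    omega
  have hodd : Odd (Fintype.card F) := by
    rw [← Nat.not_even_iff_odd]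
    intro he
    have hc : ringChar F = 2 := FiniteField.even_card_iff_char_two.2 (Nat.even_iff.1 he)
    haveI := ringChar.of_eq hc
    exact h2 (CharTwo.two_eq_zero)
  obtain ⟨r, s, hrs⟩ := exists_binary_eq h2 (one_ne_zero (α := F)) one_ne_zero (-1 : F)
  obtain ⟨L, hL⟩ : ∃ L : (Unit ⊕ (Fin 1 ⊕ Fin 1) → F) →ₗ[F] (Fin 3 → F), ∀ v, L v =
      ![r * v (.inl ()) + s * ((v (.inr (.inl 0)) + v (.inr (.inr 0))) / 2),
        s * v (.inl ()) - r * ((v (.inr (.inl 0)) + v (.inr (.inr 0))) / 2),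
        (v (.inr (.inl 0)) - v (.inr (.inr 0))) / 2] :=
    ⟨{ toFun := fun v => ![r * v (.inl ()) + s * ((v (.inr (.inl 0)) + v (.inr (.inr 0))) / 2),
        s * v (.inl ()) - r * ((v (.inr (.inl 0)) + v (.inr (.inr 0))) / 2),
        (v (.inr (.inl 0)) - v (.inr (.inr 0))) / 2]
       map_add' := fun u v => by ext j; fin_cases j <;> simp <;> ring
       map_smul' := fun c v => by ext j; fin_cases j <;> simp <;> ring }, fun v => rfl⟩
  have hLq : ∀ v, qfOdd 1 F v = (-1 : F) * sq (Fin 3) F (L v) := by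
    intro v
    rw [hL, sq_apply, qfOdd_apply]
    simp [Cfsg.quadFormOdd, dotProduct, Fin.sum_univ_three]
    field_simp
    linear_combination (4 * (v (.inl ())) ^ 2 + (v (.inr (.inl 0)) + v (.inr (.inr 0))) ^ 2) * hrs
  have hinj : Function.Injective L := by
    refine (injective_iff_map_eq_zero L).2 fun v hv => qfOdd_sep h2 1 v fun y => ?_
    simp only [QuadraticMap.polar, hLq, map_add, hv, zero_add, map_zero, mul_zero, sub_zero, sub_self]
  have hdim : Module.finrank F (Unit ⊕ (Fin 1 ⊕ Fin 1) → F) = Module.finrank F (Fin 3 → F) := by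
    simp [Module.finrank_fintype_fun_eq_card]
  let ψ := LinearEquiv.ofInjectiveOfFinrankEq L hinj hdim
  have hψ : ∀ v, qfOdd 1 F v = (-1 : F) * sq (Fin 3) F (ψ v) := hLq
  have he := pOmega_three (F := F) hodd
  rw [← qfOdd_coe] at he
  obtain ⟨e₁⟩ := he
  haveI := CfsgLib.ClassK.isSimpleGroup_psl_two (F := F) hq
  haveI : IsSimpleGroup (Cfsg.POmega F (⇑(qfOdd 1 F))) := e₁.isSimpleGroup
  let Φ := conjHom (qfOdd 1 F) ψ (neg_ne_zero.2 one_ne_zero) hψ
  let ec : ↥(commutator (quadIsoms (qfOdd 1 F))) ≃* ↥(commutator (Sml 3 F)) :=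
    (Φ.subgroupMap (commutator (quadIsoms (qfOdd 1 F)))).trans
      (MulEquiv.subgroupCongr (conjHom_commutator (qfOdd 1 F) ψ (neg_ne_zero.2 one_ne_zero) hψ))
  let e2 : (↥(commutator (Sml 3 F)) ⧸ Subgroup.center ↥(commutator (Sml 3 F))) ≃*
      Cfsg.POmega F (⇑(qfOdd 1 F)) :=
    centerQuotCongr (ec.symm.trans (omegaEquiv (qfOdd 1 F)))
  exact e2.isSimpleGroup

end CfsgLib.MaxSub.TPow
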