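import Cfsg.Agent.Lib.MaxSub.TPow.Basic
import Cfsg.Agent.Lib.MaxSub.TensorOO

/-!
Elements diagonal in all slots but one, as isometries of the sum of squares; the spinor norm of a slot
element; every isometry is a slot element times an element of the commutator subgroup.
-/

set_option autoImplicit false
set_option linter.unusedSectionVars false

namespace CfsgLib.MaxSub.TPow

open CfsgLib.Classical CfsgLib.Geom CfsgLib.Geom.OrthSub CfsgLib.MaxSub CfsgLib.MaxSub.OMono
open QuadraticMap (polar)
open scoped Matrix MatrixGroups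

variable {t k : ℕ} {F : Type*} [Field F]

/-- isometries of the sum of squares on the tensor power -/
abbrev Big (t k : ℕ) (F : Type*) [Field F] :
    Subgroup (((Fin t → Fin k) → F) ≃ₗ[F] ((Fin t → Fin k) → F)) :=
  quadIsoms (sq (Fin t → Fin k) F)

/-- isometries of the sum of squares of one slot -/
abbrev Sml (k : ℕ) (F : Type*) [Field F] : Subgroup ((Fin k → F) ≃ₗ[F] (Fin k → F)) :=
  quadIsoms (sq (Fin k) F)

variable (t k F) in
/-- families of slot isometries depending only on the slots other than `i` -/
def indep (i : Fin t) : Subgroup ((Fin t → Fin k) → Sml k F) where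
  carrier := {u | ∀ p a, u (Function.update p i a) = u p}
  one_mem' _ _ := rfl
  mul_mem' {u v} hu hv p a := by simp only [Pi.mul_apply, hu p a, hv p a]
  inv_mem' {u} hu p a := by simp only [Pi.inv_apply, hu p a]

theorem mem_indep {i : Fin t} {u : (Fin t → Fin k) → Sml k F} :
    u ∈ indep t k F i ↔ ∀ p a, u (Function.update p i a) = u p := Iff.rfl

/-- `u p` on each line in direction `i` -/
def lineLin (i : Fin t) (u : (Fin t → Fin k) → Sml k F) :
    ((Fin t → Fin k) → F) →ₗ[F] ((Fin t → Fin k) → F) where
  toFun x p := (u p).1 (fun a => x (Function.update p i a)) (p i)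
  map_add' x y := by
    funext p
    show (u p).1 (fun a => x _ + y _) _ = (u p).1 _ _ + (u p).1 _ _
    rw [← Pi.add_apply, ← map_add]
    rfl
  map_smul' c x := by
    funext p
    show (u p).1 (fun a => c * x _) _ = c * (u p).1 _ _
    rw [← smul_eq_mul c ((u p).1 _ _), ← Pi.smul_apply, ← map_smul]
    rfl

theorem lineLin_apply (i : Fin t) (u : (Fin t → Fin k) → Sml k F) (x : (Fin t → Fin k) → F)
    (p : Fin t → Fin k) : lineLin i u x p = (u p).1 (fun a => x (Function.update p i a)) (p i) := rfl

theorem lineLin_mul {i : Fin t} (u : (Fin t → Fin k) → Sml k F) {v : (Fin t → Fin k) → Sml k F}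
    (hv : v ∈ indep t k F i) (x : (Fin t → Fin k) → F) :
    lineLin i (u * v) x = lineLin i u (lineLin i v x) := by
  funext p
  simp only [lineLin_apply, Pi.mul_apply, Function.update_self, Function.update_idem,
    mem_indep.1 hv p]
  rfl

theorem lineLin_one (i : Fin t) (x : (Fin t → Fin k) → F) : lineLin i 1 x = x := by
  funext p
  show x (Function.update p i (p i)) = x p
  rw [Function.update_eq_self]

/-- sums over the tensor power line by line -/
theorem sum_lines {i : Fin t} (f g : (Fin t → Fin k) → F)
    (h : ∀ p, ∑ a, f (Function.update p i a) = ∑ a, g (Function.update p i a)) :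
    ∑ p, f p = ∑ p, g p := by
  classical
  rw [← Equiv.sum_comp (Equiv.funSplitAt i (Fin k)).symm f, ← Equiv.sum_comp (Equiv.funSplitAt i (Fin k)).symm g,
    Fintype.sum_prod_type_right, Fintype.sum_prod_type_right]
  refine Finset.sum_congr rfl fun r _ => ?_
  rcases isEmpty_or_nonempty (Fin k) with hk | hk
  · simp
  obtain ⟨a₀⟩ := hk
  have e : ∀ a, (Equiv.funSplitAt i (Fin k)).symm (a, r) =
      Function.update ((Equiv.funSplitAt i (Fin k)).symm (a₀, r)) i a := fun a => by
    funext j
    rcases eq_or_ne j i with rfl | hj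
    · simp [Equiv.funSplitAt, Equiv.piSplitAt]
    · simp [Equiv.funSplitAt, Equiv.piSplitAt, hj]
  rw [Finset.sum_congr rfl fun a _ => congrArg f (e a), Finset.sum_congr rfl fun a _ => congrArg g (e a)]
  exact h _

theorem sq_lineLin {i : Fin t} {u : (Fin t → Fin k) → Sml k F} (hu : u ∈ indep t k F i)
    (x : (Fin t → Fin k) → F) :
    sq (Fin t → Fin k) F (lineLin i u x) = sq (Fin t → Fin k) F x := by
  rw [sq_apply, sq_apply]
  refine sum_lines (i := i) _ _ fun p => ?_
  have h := mem_quadIsoms.1 (u p).2 (fun a => x (Function.update p i a))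
  rw [sq_apply, sq_apply] at h
  simp only [lineLin_apply, Function.update_self, Function.update_idem, mem_indep.1 hu p]
  exact h

/-- the elements diagonal in all slots but `i` -/
def lineQ (i : Fin t) : indep t k F i →* Big t k F where
  toFun u := ⟨LinearEquiv.ofLinearMap (lineLin i u.1) (lineLin i (u⁻¹).1)
      (LinearMap.ext fun x => by
        show lineLin i u.1 (lineLin i (u⁻¹).1 x) = x
        rw [← lineLin_mul _ (u⁻¹).2, Subgroup.coe_inv, mul_inv_cancel, lineLin_one])
      (LinearMap.ext fun x => by
        show lineLin i (u⁻¹).1 (lineLin i u.1 x) = x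
        rw [← lineLin_mul _ u.2, Subgroup.coe_inv, inv_mul_cancel, lineLin_one]),
    mem_quadIsoms.2 fun x => sq_lineLin u.2 x⟩
  map_one' := quadIsoms_ext _ fun x => lineLin_one i x
  map_mul' u v := quadIsoms_ext _ fun x => lineLin_mul u.1 v.2 x

theorem lineQ_apply (i : Fin t) (u : indep t k F i) (x : (Fin t → Fin k) → F) (p : Fin t → Fin k) :
    (lineQ i u).1 x p = (u.1 p).1 (fun a => x (Function.update p i a)) (p i) := rfl

theorem lineQ_injective (i : Fin t) : Function.Injective (lineQ (k := k) (F := F) i) := by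
  intro u v h
  refine Subtype.ext (funext fun p => quadIsoms_ext _ fun y => funext fun b => ?_)
  have e := congrArg (fun g : Big t k F => g.1 (fun q => y (q i)) (Function.update p i b)) h
  simp only [lineQ_apply, Function.update_self, Function.update_idem, mem_indep.1 u.2 p,
    mem_indep.1 v.2 p] at e
  exact e

variable (t k F) in
/-- the same element on every line in direction `i` -/
def constI (i : Fin t) : Sml k F →* indep t k F i where
  toFun h := ⟨fun _ => h, fun _ _ => rfl⟩
  map_one' := rfl
  map_mul' _ _ := rfl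

/-- slot elements -/
def slotQ (i : Fin t) : Sml k F →* Big t k F := (lineQ i).comp (constI t k F i)

/-- the line through `c` in direction `i` -/
def OnLine (i : Fin t) (c p : Fin t → Fin k) : Prop := ∀ j, j ≠ i → p j = c j

/-- the element of one line -/
def oneI (i : Fin t) (c : Fin t → Fin k) : Sml k F →* indep t k F i where
  toFun h := ⟨fun p => if ∀ j, j ≠ i → p j = c j then h else 1, fun p a => by
    have e : (∀ j, j ≠ i → Function.update p i a j = c j) ↔ ∀ j, j ≠ i → p j = c j :=
      forall_congr' fun j => imp_congr_right fun hj => by rw [Function.update_of_ne hj]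
    simp only [e]⟩
  map_one' := Subtype.ext (funext fun p => by simp)
  map_mul' g h := Subtype.ext (funext fun p => by
    show (if _ then g * h else 1) = (if _ then g else 1) * (if _ then h else 1)
    split_ifs <;> simp)

theorem oneI_apply (i : Fin t) (c : Fin t → Fin k) (h : Sml k F) (p : Fin t → Fin k) :
    (oneI i c h).1 p = if ∀ j, j ≠ i → p j = c j then h else 1 := rfl

/-- a reflection of one line is a reflection -/
theorem lineQ_oneI_refl (i : Fin t) (c : Fin t → Fin k) {w : Fin k → F} (hw : sq (Fin k) F w ≠ 0) :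
    ∃ v : (Fin t → Fin k) → F, ∃ hv : sq (Fin t → Fin k) F v ≠ 0,
      sq (Fin t → Fin k) F v = sq (Fin k) F w ∧
      lineQ i (oneI i c ⟨reflEquiv (sq (Fin k) F) w hw, reflEquiv_mem _ w hw⟩) =
        ⟨reflEquiv (sq (Fin t → Fin k) F) v hv, reflEquiv_mem _ v hv⟩ := by
  classical
  obtain ⟨v, hvdef⟩ : ∃ v : (Fin t → Fin k) → F, v = fun p => if ∀ j, j ≠ i → p j = c j then w (p i) else 0 :=
    ⟨_, rfl⟩
  have hupd : ∀ p, (∀ j, j ≠ i → p j = c j) → ∀ a, Function.update p i a = Function.update c i a := by
    intro p hp a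
    funext j
    rcases eq_or_ne j i with rfl | hj
    · simp
    · simp [hj, hp j hj]
  have hdot : ∀ x : (Fin t → Fin k) → F, v ⬝ᵥ x = w ⬝ᵥ fun a => x (Function.update c i a) := by
    intro x
    rw [dotProduct, dotProduct, ← Finset.sum_filter_add_sum_filter_not Finset.univ
      (fun p => ∀ j, j ≠ i → p j = c j), Finset.sum_eq_zero (s := Finset.univ.filter fun p => ¬ _) fun p hp => by
        rw [hvdef]; simp only
        rw [if_neg (Finset.mem_filter.1 hp).2, zero_mul], add_zero]
    refine Finset.sum_bij' (fun p _ => p i) (fun a _ => Function.update c i a) (fun p _ => Finset.mem_univ _)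
      (fun a _ => Finset.mem_filter.2 ⟨Finset.mem_univ _, fun j hj => by rw [Function.update_of_ne hj]⟩)
      (fun p hp => by
        rw [← hupd p (Finset.mem_filter.1 hp).2, Function.update_eq_self])
      (fun a _ => by simp) fun p hp => ?_
    rw [hvdef, ← hupd p (Finset.mem_filter.1 hp).2, Function.update_eq_self]
    simp only
    rw [if_pos (Finset.mem_filter.1 hp).2]
  have hvc : (fun a => v (Function.update c i a)) = w := funext fun a => by
    rw [hvdef]; simp only [Function.update_self]
    rw [if_pos fun j hj => Function.update_of_ne hj _ _]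
  have hvv : sq (Fin t → Fin k) F v = sq (Fin k) F w := by rw [sq_apply, sq_apply, hdot, hvc]
  refine ⟨v, by rw [hvv]; exact hw, hvv, quadIsoms_ext _ fun x => funext fun p => ?_⟩
  rw [lineQ_apply, oneI_apply]
  have hv0 : sq (Fin t → Fin k) F v ≠ 0 := by rw [hvv]; exact hw
  show _ = reflEquiv (sq (Fin t → Fin k) F) v hv0 x p
  rw [reflEquiv_apply, hvv, polar_sq, hdot, Pi.sub_apply, Pi.smul_apply, smul_eq_mul]
  by_cases hp : ∀ j, j ≠ i → p j = c j
  · rw [if_pos hp]
    show reflEquiv (sq (Fin k) F) w hw (fun a => x (Function.update p i a)) (p i) = _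
    rw [reflEquiv_apply, polar_sq, Pi.sub_apply, Pi.smul_apply, smul_eq_mul, Function.update_eq_self]
    simp only [hupd p hp]
    rw [hvdef]
    simp only [if_pos hp]
  · rw [if_neg hp]
    show (fun a => x (Function.update p i a)) (p i) = _
    rw [hvdef]
    simp only [if_neg hp, mul_zero, sub_zero, Function.update_eq_self]

section Spinor

variable (h2 : (2 : F) ≠ 0)

/-- the spinor norm with the Dickson invariant -/
noncomputable def sp : Big t k F →* Multiplicative (ZMod 2) × SqClass F :=
  (spinorHom (sq (Fin t → Fin k) F) (sq_sep h2) (exGen_of_odd h2)).comp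
    (orEquiv (sq (Fin t → Fin k) F)).toMonoidHom

theorem sp_refl {v : (Fin t → Fin k) → F} (hv : sq (Fin t → Fin k) F v ≠ 0) :
    sp h2 ⟨reflEquiv (sq (Fin t → Fin k) F) v hv, reflEquiv_mem _ v hv⟩ =
      (Multiplicative.ofAdd 1, sqClass hv) :=
  spinorHom_refl _ _ _ _ hv (glOfEquiv_reflEquiv _ v hv)

theorem sp_ker [Finite F] (g : Big t k F) : sp h2 g = 1 ↔ g ∈ commutator (Big t k F) := by
  have h : Cfsg.Omega F (⇑(sq (Fin t → Fin k) F)) =
      (commutator (Big t k F)).map (orEquiv (sq (Fin t → Fin k) F)).toMonoidHom := by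
    rw [commutator_def, Subgroup.map_commutator,
      Subgroup.map_top_of_surjective (orEquiv (sq (Fin t → Fin k) F)).toMonoidHom
        (orEquiv (sq (Fin t → Fin k) F)).surjective, ← commutator_def]
  constructor
  · intro hg
    have hg' : orEquiv (sq (Fin t → Fin k) F) g ∈ Cfsg.Omega F (⇑(sq (Fin t → Fin k) F)) := by
      rw [omega_eq_ker_spinorHom _ (sq_sep h2) (exGen_of_odd h2)]
      exact hg
    rw [h] at hg'
    exact (Subgroup.mem_map_iff_mem (orEquiv (sq (Fin t → Fin k) F)).injective).1 hg'
  · intro hg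
    exact MonoidHom.mem_ker.1 (Abelianization.commutator_subset_ker (sp h2) hg)

theorem exp_two (z : Multiplicative (ZMod 2) × SqClass F) : z * z = 1 :=
  Prod.ext (by
    have : ∀ y : Multiplicative (ZMod 2), y * y = 1 := by decide
    exact this _) (sqClass_mul_self _)

/-- the spinor norm of a slot reflection -/
theorem sp_slot_refl (hk : Odd k) (i : Fin t) {w : Fin k → F} (hw : sq (Fin k) F w ≠ 0) :
    sp h2 (slotQ i ⟨reflEquiv (sq (Fin k) F) w hw, reflEquiv_mem _ w hw⟩) =
      (Multiplicative.ofAdd 1, sqClass hw) := by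
  classical
  obtain ⟨s, hs⟩ : ∃ s : Sml k F, s = ⟨reflEquiv (sq (Fin k) F) w hw, reflEquiv_mem _ w hw⟩ := ⟨_, rfl⟩
  rw [← hs]
  have hone : ∀ c, sp h2 (lineQ i (oneI i c s)) = (Multiplicative.ofAdd 1, sqClass hw) := fun c => by
    obtain ⟨v, hv, hvw, e⟩ := lineQ_oneI_refl i c hw
    rw [hs, e, sp_refl]
    simp only [hvw]
  have key : ∀ S : Finset ({j // j ≠ i} → Fin k), ∀ hS : (fun p : Fin t → Fin k =>
      if (fun j : {j // j ≠ i} => p j.1) ∈ S then s else 1) ∈ indep t k F i,
      sp h2 (lineQ i ⟨_, hS⟩) = (Multiplicative.ofAdd 1, sqClass hw) ^ S.card := by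
    intro S
    induction S using Finset.induction_on with
    | empty =>
      intro hS
      have e : (⟨_, hS⟩ : indep t k F i) = 1 := Subtype.ext (funext fun p => by simp)
      rw [e, map_one, map_one, Finset.card_empty, pow_zero]
    | insert r S hr ih =>
      intro hS
      have hk0 : 0 < k := hk.pos
      obtain ⟨c, hc⟩ : ∃ c : Fin t → Fin k, (fun j : {j // j ≠ i} => c j.1) = r :=
        ⟨fun j => if h : j = i then ⟨0, hk0⟩ else r ⟨j, h⟩, funext fun j => by simp [j.2]⟩
      have hS' : (fun p : Fin t → Fin k => if (fun j : {j // j ≠ i} => p j.1) ∈ S then s else 1) ∈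
          indep t k F i := fun p a => by
        have e : (fun j : {j // j ≠ i} => Function.update p i a j.1) = fun j : {j // j ≠ i} => p j.1 :=
          funext fun j => by rw [Function.update_of_ne j.2]
        simp only [e]
      have hon : ∀ p : Fin t → Fin k, ((fun j : {j // j ≠ i} => p j.1) = r) ↔ ∀ j, j ≠ i → p j = c j := by
        intro p
        rw [← hc, funext_iff]
        exact ⟨fun h j hj => h ⟨j, hj⟩, fun h j => h j.1 j.2⟩
      have e : (⟨_, hS⟩ : indep t k F i) = oneI i c s * ⟨_, hS'⟩ := Subtype.ext (funext fun p => by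
        show (if _ then s else 1) = (oneI i c s).1 p * (if _ then s else 1)
        rw [oneI_apply]
        simp only [Finset.mem_insert, ← hon p]
        by_cases h : (fun j : {j // j ≠ i} => p j.1) = r
        · simp [h, hr]
        · simp [h])
      rw [e, map_mul, map_mul, hone, ih hS', Finset.card_insert_of_notMem hr, pow_succ']
  have h := key Finset.univ (fun p a => by simp)
  have e : (⟨fun p : Fin t → Fin k => if (fun j : {j // j ≠ i} => p j.1) ∈ Finset.univ then s else 1,
      fun p a => by simp⟩ : indep t k F i) = constI t k F i s := Subtype.ext (funext fun p => by simp [constI])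
  rw [e] at h
  show sp h2 (lineQ i (constI t k F i s)) = _
  rw [h, Finset.card_univ, Fintype.card_fun, Fintype.card_fin]
  obtain ⟨m, hm⟩ := (hk.pow : Odd (k ^ Fintype.card {j // j ≠ i}))
  rw [hm, pow_succ, pow_mul, pow_two, exp_two, one_pow, one_mul]

/-- every value of the spinor norm is taken on a slot -/
theorem sp_slot_surjective [Finite F] (hk : Odd k) (hk3 : 3 ≤ k) (i : Fin t) :
    Function.Surjective ((sp (t := t) (k := k) h2).comp (slotQ i)) := by
  rw [← MonoidHom.range_eq_top, eq_top_iff]
  have hmem : ∀ c : SqClass F,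
      (Multiplicative.ofAdd (1 : ZMod 2), c) ∈ ((sp (t := t) (k := k) h2).comp (slotQ i)).range := by
    intro c
    obtain ⟨a, rfl⟩ := sqProj_surjective F c
    obtain ⟨v, hv⟩ := exists_value (sq (Fin k) F) h2 (sq_sep h2)
      (by rw [Module.finrank_fintype_fun_eq_card, Fintype.card_fin]; omega) a a.ne_zero
    have hv0 : sq (Fin k) F v ≠ 0 := by rw [hv]; exact a.ne_zero
    refine ⟨⟨reflEquiv (sq (Fin k) F) v hv0, reflEquiv_mem _ v hv0⟩, ?_⟩
    show sp h2 (slotQ i _) = _
    rw [sp_slot_refl h2 hk i hv0]
    simp [sqClass, hv]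
  rintro ⟨x, c⟩ -
  have h0 : ∀ y : Multiplicative (ZMod 2), y = 1 ∨ y = Multiplicative.ofAdd (1 : ZMod 2) := by decide
  rcases h0 x with rfl | rfl
  · have := mul_mem (hmem 1) (hmem c)
    convert this using 1
    have h11 : (1 : Multiplicative (ZMod 2)) =
        Multiplicative.ofAdd (1 : ZMod 2) * Multiplicative.ofAdd (1 : ZMod 2) := by decide
    exact Prod.ext h11 (one_mul c).symm
  · exact hmem c

include h2 in
/-- every isometry is a slot element times an element of the commutator subgroup -/
theorem exists_comp [Finite F] (hk : Odd k) (hk3 : 3 ≤ k) (i : Fin t) (g : Big t k F) :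
    ∃ h : Sml k F, g * slotQ i h ∈ commutator (Big t k F) := by
  obtain ⟨h, hh⟩ := sp_slot_surjective (t := t) h2 hk hk3 i (sp h2 g)
  exact ⟨h, (sp_ker h2 _).1 (by rw [map_mul]; rw [show sp h2 (slotQ i h) = sp h2 g from hh]; exact exp_two _)⟩

end Spinor

end CfsgLib.MaxSub.TPow
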