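import Cfsg.Agent.Lib.MaxSub.TPow.Slot
import Cfsg.Agent.Lib.Geom.OmegaIndex
import Cfsg.Agent.Lib.Geom.OmegaMax

/-!
Spinor norm and determinant class on the isometries of the tensor power; the classes of axial elements.
-/

set_option autoImplicit false
set_option linter.unusedSectionVars false
set_option linter.style.haveILetI false

namespace CfsgLib.MaxSub.TPow

open Matrix CfsgLib.Geom CfsgLib.Classical
open QuadraticMap (polar)
open scoped MatrixGroups

variable {t k : ℕ} {F : Type*} [Field F] [Fintype F] [h2 : Fact ((2 : F) ≠ 0)]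


theorem orth_le_isom : orth t k F ≤ Cfsg.isometryGroup F ⇑(OMono.sq (Fin t → Fin k) F) := by
  intro g hg
  rw [mem_isometryGroup_iff]
  intro u
  rw [OMono.sq_apply, OMono.sq_apply, dot_orth hg]

theorem isom_le_orth : Cfsg.isometryGroup F ⇑(OMono.sq (Fin t → Fin k) F) ≤ orth t k F := by
  intro g hg
  rw [mem_isometryGroup_iff] at hg
  simp only [OMono.sq_apply] at hg
  rw [mem_orth]
  set G := (g : Matrix (Fin t → Fin k) (Fin t → Fin k) F)ᵀ * (g : Matrix (Fin t → Fin k) (Fin t → Fin k) F) with hG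
  have key : ∀ x y, x ⬝ᵥ (G *ᵥ y) = x ⬝ᵥ y := by
    intro x y
    have e : ∀ u, u ⬝ᵥ (G *ᵥ u) = u ⬝ᵥ u := fun u => by
      rw [hG, ← mulVec_mulVec, dotProduct_mulVec, vecMul_transpose, hg]
    have h := e (x + y)
    have hs : y ⬝ᵥ (G *ᵥ x) = x ⬝ᵥ (G *ᵥ y) := by
      rw [dotProduct_mulVec, ← mulVec_transpose, hG, transpose_mul, transpose_transpose, dotProduct_comm]
    simp only [mulVec_add, add_dotProduct, dotProduct_add, e, hs, dotProduct_comm y x] at h
    exact mul_left_cancel₀ h2.out (by linear_combination h)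
  refine Matrix.ext fun p q => ?_
  have := key (Pi.single p 1) (Pi.single q 1)
  simpa [Matrix.one_apply, Pi.single_apply, eq_comm] using this

theorem sep : ∀ x, (∀ y, polar (OMono.sq (Fin t → Fin k) F) x y = 0) → x = 0 := OMono.sq_sep h2.out

theorem exGen : (∃ c : F, c ≠ 0 ∧ c ≠ 1) ∨ Module.finrank F ((Fin t → Fin k) → F) ≠ 4 := exGen_of_odd h2.out

/-- determinant and spinor norm -/
noncomputable def spin : orth t k F →* Multiplicative (ZMod 2) × SqClass F :=
  (spinorHom (OMono.sq (Fin t → Fin k) F) sep exGen).comp (Subgroup.inclusion orth_le_isom)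

theorem Om_le_orth : Om t k F ≤ orth t k F := by
  rintro _ ⟨g, -, rfl⟩
  exact isom_le_orth g.2

theorem mem_Om_iff {g : GL (Fin t → Fin k) F} (hg : g ∈ orth t k F) : g ∈ Om t k F ↔ spin ⟨g, hg⟩ = 1 := by
  have hO := omega_eq_ker_spinorHom (OMono.sq (Fin t → Fin k) F) sep exGen
  constructor
  · rintro ⟨g', hg', e⟩
    have : g' = Subgroup.inclusion orth_le_isom ⟨g, hg⟩ := Subtype.ext e
    rw [this] at hg'
    exact MonoidHom.mem_ker.1 ((SetLike.ext_iff.1 hO _).1 hg')
  · intro h
    exact ⟨Subgroup.inclusion orth_le_isom ⟨g, hg⟩, (SetLike.ext_iff.1 hO _).2 (MonoidHom.mem_ker.2 h), rfl⟩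

theorem Om_conj {n g : GL (Fin t → Fin k) F} (hn : n ∈ orth t k F) (hg : g ∈ Om t k F) : n * g * n⁻¹ ∈ Om t k F := by
  have hgo := Om_le_orth hg
  refine (mem_Om_iff (mul_mem (mul_mem hn hgo) (inv_mem hn))).2 ?_
  have e : (⟨n * g * n⁻¹, mul_mem (mul_mem hn hgo) (inv_mem hn)⟩ : orth t k F) = ⟨n, hn⟩ * ⟨g, hgo⟩ * ⟨n, hn⟩⁻¹ :=
    rfl
  rw [e, map_mul, map_mul, map_inv, (mem_Om_iff hgo).1 hg, mul_one, mul_inv_cancel]

/-- the reflection matrix at `v` -/
theorem reflection_eq {v : (Fin t → Fin k) → F} (hv : v ⬝ᵥ v ≠ 0) :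
    Cfsg.reflectionMatrix (⇑(OMono.sq (Fin t → Fin k) F)) v = -ax v := by
  refine ext_iff_mulVec.2 fun x => ?_
  rw [reflectionMatrix_mulVec, OMono.sq_apply, OMono.polar_sq, neg_mulVec, ax_mulVec, neg_sub,
    div_eq_inv_mul]
  congr 2
  ring

theorem spin_reflection {g : GL (Fin t → Fin k) F} (hg : g ∈ orth t k F) {v : (Fin t → Fin k) → F} (hv : v ⬝ᵥ v ≠ 0)
    (e : (g : Matrix (Fin t → Fin k) (Fin t → Fin k) F) = -ax v) :
    spin ⟨g, hg⟩ = (Multiplicative.ofAdd 1, sqClass hv) := by
  have hQv : (OMono.sq (Fin t → Fin k) F) v ≠ 0 := by rwa [OMono.sq_apply]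
  have h := spinorHom_refl (OMono.sq (Fin t → Fin k) F) sep exGen (Subgroup.inclusion orth_le_isom ⟨g, hg⟩) hQv (by
    rw [reflection_eq hv]; exact e)
  exact h.trans (Prod.ext rfl (by simp only [sqClass]; congr 1; exact Units.ext (OMono.sq_apply v)))

theorem spin_refls (L : List {v : (Fin t → Fin k) → F // v ⬝ᵥ v ≠ 0}) :
    ∃ g : orth t k F, ((g : GL (Fin t → Fin k) F) : Matrix (Fin t → Fin k) (Fin t → Fin k) F) = (L.map fun v => -ax v.1).prod ∧
      spin g = (L.map fun v => ((Multiplicative.ofAdd (1 : ZMod 2)), sqClass v.2)).prod := by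
  induction L with
  | nil => exact ⟨1, by simp, by simp⟩
  | cons v L ih =>
      obtain ⟨g, hg, hs⟩ := ih
      have ho : (-ax v.1)ᵀ * -ax v.1 = 1 := by
        rw [transpose_neg, Matrix.neg_mul, Matrix.mul_neg, neg_neg, ax_orth v.2]
      refine ⟨⟨unitOfOrth _ ho, ho⟩ * g, ?_, ?_⟩
      · rw [List.map_cons, List.prod_cons, ← hg]; rfl
      · rw [map_mul, hs, List.map_cons, List.prod_cons]
        congr 1
        exact spin_reflection _ v.2 rfl

/-- the product of the reflections at pairwise orthogonal vectors -/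
theorem refls_prod (L : List ((Fin t → Fin k) → F)) (hd : ∀ v ∈ L, v ⬝ᵥ v ≠ 0) (ho : L.Pairwise fun v w => v ⬝ᵥ w = 0) :
    (L.map fun v => -ax v).prod = 1 - (L.map fun v => (2 / (v ⬝ᵥ v)) • vecMulVec v v).sum := by
  induction L with
  | nil => simp
  | cons v L ih =>
      rw [List.map_cons, List.prod_cons, List.map_cons, List.sum_cons,
        ih (fun w hw => hd w (List.mem_cons_of_mem _ hw)) (List.pairwise_cons.1 ho).2]
      have h0 : vecMulVec v v * (L.map fun w => (2 / (w ⬝ᵥ w)) • vecMulVec w w).sum = 0 := by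
        rw [← List.sum_map_mul_left]
        refine List.sum_eq_zero fun x hx => ?_
        simp only [List.mem_map] at hx
        obtain ⟨w, hw, rfl⟩ := hx
        rw [Matrix.mul_smul, vecMulVec_mul_vecMulVec, (List.pairwise_cons.1 ho).1 w hw, zero_smul,
          vecMulVec_zero, smul_zero]
      rw [ax, neg_sub, Matrix.sub_mul, Matrix.one_mul, Matrix.smul_mul, Matrix.mul_sub, Matrix.mul_one, h0,
        sub_zero]
      abel

theorem slot_smul_apply (i : Fin t) (x : Matrix (Fin k) (Fin k) F) (p q : (Fin t → Fin k)) :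
    slot i x p q = if ∀ j, j ≠ i → p j = q j then x (p i) (q i) else 0 := by
  rw [slot_apply, CfsgLib.Aschbacher.slot_apply]

theorem slot_neg (i : Fin t) (x : Matrix (Fin k) (Fin k) F) : slot i (-x) = -slot i x := by
  ext p q
  rw [neg_apply, slot_smul_apply, slot_smul_apply]
  split_ifs <;> simp

theorem sqClass_congr {a b : F} (e : a = b) {ha : a ≠ 0} {hb : b ≠ 0} : sqClass ha = sqClass hb := by
  subst e; rfl

theorem sqClass_pow_odd {a : F} (ha : a ≠ 0) {m : ℕ} (hm : Odd m) : sqClass ha ^ m = sqClass ha := by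
  obtain ⟨r, rfl⟩ := hm
  rw [pow_succ, pow_mul, sq, sqClass_mul_self, one_pow, one_mul]

theorem ofAdd_one_pow_odd {m : ℕ} (hm : Odd m) :
    (Multiplicative.ofAdd (1 : ZMod 2)) ^ m = Multiplicative.ofAdd 1 := by
  obtain ⟨r, rfl⟩ := hm
  rw [pow_succ, pow_mul, show (Multiplicative.ofAdd (1 : ZMod 2)) ^ 2 = 1 from by decide, one_pow, one_mul]

theorem neg_one_eq_refls : ((Finset.univ (α := (Fin t → Fin k))).toList.map fun p =>
    -ax (Pi.single p (1 : F) : (Fin t → Fin k) → F)).prod = -1 := by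
  classical
  have ho : ((Finset.univ (α := (Fin t → Fin k))).toList.map fun p => (Pi.single p (1 : F) : (Fin t → Fin k) → F)).Pairwise
      fun v w => v ⬝ᵥ w = 0 :=
    List.pairwise_map.2 ((Finset.nodup_toList _).imp fun {p q} hpq => by
      rw [single_dotProduct, one_mul, Pi.single_eq_of_ne hpq])
  have h := refls_prod _ (fun v hv => by
    obtain ⟨p, -, rfl⟩ := List.mem_map.1 hv; simp) ho
  rw [List.map_map, List.map_map] at h
  rw [show ((fun v : (Fin t → Fin k) → F => -ax v) ∘ fun p => Pi.single p 1) = fun p => -ax (Pi.single p (1 : F) : (Fin t → Fin k) → F)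
    from rfl] at h
  rw [h]
  ext p q
  rw [Matrix.sub_apply, Matrix.neg_apply, Finset.sum_map_toList, Matrix.sum_apply,
    Finset.sum_eq_single p (fun r _ hr => by simp [vecMulVec_apply, Ne.symm hr]) (fun h => absurd (Finset.mem_univ p) h)]
  rcases eq_or_ne p q with rfl | hpq
  · simp [vecMulVec_apply]; ring
  · simp [vecMulVec_apply, hpq, Ne.symm hpq]

/-- `-1` has both invariants: odd degree, value one -/
theorem spin_negOne (hk : Odd k) :
    ∃ hn : (-1 : GL (Fin t → Fin k) F) ∈ orth t k F, spin (t := t) (k := k) (F := F) ⟨-1, hn⟩ = (Multiplicative.ofAdd 1, 1) := by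
  have hn : (-1 : GL (Fin t → Fin k) F) ∈ orth t k F := by simp [mem_orth]
  refine ⟨hn, ?_⟩
  obtain ⟨g, hg, hs⟩ := spin_refls (F := F)
    ((Finset.univ (α := (Fin t → Fin k))).toList.map fun p => ⟨Pi.single p (1 : F), by simp⟩)
  rw [List.map_map] at hg hs
  have e : g = ⟨-1, hn⟩ := Subtype.ext (Units.ext (by
    rw [hg]; show _ = (-1 : Matrix (Fin t → Fin k) (Fin t → Fin k) F); exact neg_one_eq_refls))
  rw [← e, hs, show ((fun v : {v : (Fin t → Fin k) → F // v ⬝ᵥ v ≠ 0} => (Multiplicative.ofAdd (1 : ZMod 2), sqClass v.2)) ∘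
      fun p => ⟨Pi.single p (1 : F), by simp⟩) = fun _ => (Multiplicative.ofAdd (1 : ZMod 2), 1) from
    funext fun p => Prod.ext rfl ((sqClass_eq_one_iff _).2 ⟨1, by simp⟩), List.map_const', List.prod_replicate,
    Finset.length_toList, Finset.card_univ]
  have hodd : Odd (Fintype.card (Fin t → Fin k)) := by rw [Fintype.card_fun, Fintype.card_fin, Fintype.card_fin]; exact hk.pow
  exact Prod.ext (by rw [Prod.pow_fst, ofAdd_one_pow_odd hodd]) (by rw [Prod.pow_snd, one_pow])

/-- `v` in slot `i`, coordinate vectors `c` elsewhere -/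
def line (i : Fin t) (c : (Fin t → Fin k)) (v : Fin k → F) : (Fin t → Fin k) → F :=
  fun p => if ∀ j, j ≠ i → p j = c j then v (p i) else 0

/-- the invariants of an axial element: the class of its vector -/
theorem spin_A (hk : Odd k) (i : Fin t) {h : Fin k → F} (hh : h ⬝ᵥ h ≠ 0) :
    spin ⟨A i h, A_mem_orth i hh⟩ = (1, sqClass hh) := by
  classical
  haveI : NeZero k := ⟨fun e => Nat.not_odd_zero (e ▸ hk)⟩
  set C : Finset (Fin t → Fin k) := Finset.univ.filter fun c => c i = 0 with hC
  have hsum : ∀ (c : (Fin t → Fin k)) (f : Fin k → F),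
      (∑ p : Fin t → Fin k, if ∀ j, j ≠ i → p j = c j then f (p i) else 0) = ∑ a, f a := by
    intro c f
    rw [← Finset.sum_filter]
    refine Finset.sum_bij' (fun p _ => p i) (fun a _ => Function.update c i a) (fun p _ => Finset.mem_univ _)
      (fun a _ => Finset.mem_filter.2 ⟨Finset.mem_univ _, fun j hj => Function.update_of_ne hj _ _⟩)
      (fun p hp => funext fun j => ?_) (fun a _ => Function.update_self _ _ _) (fun p _ => rfl)
    rcases eq_or_ne j i with rfl | hj
    · exact Function.update_self _ _ _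
    · rw [Function.update_of_ne hj]; exact ((Finset.mem_filter.1 hp).2 j hj).symm
  have hdot : ∀ c d, c ∈ C → d ∈ C → line i c h ⬝ᵥ line i d h = if c = d then h ⬝ᵥ h else 0 := by
    intro c d hc hd
    rcases eq_or_ne c d with rfl | hcd
    · rw [if_pos rfl, dotProduct, dotProduct, ← hsum c fun a => h a * h a]
      refine Finset.sum_congr rfl fun p _ => ?_
      simp only [line]
      split_ifs <;> simp
    · rw [if_neg hcd, dotProduct, Finset.sum_eq_zero]
      intro p _
      simp only [line]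
      by_cases hp : ∀ j, j ≠ i → p j = c j
      · have : ¬ ∀ j, j ≠ i → p j = d j := fun hp' => hcd (funext fun j => by
          rcases eq_or_ne j i with rfl | hj
          · rw [hC, Finset.mem_filter] at hc hd; rw [hc.2, hd.2]
          · rw [← hp j hj, hp' j hj])
        rw [if_neg this, mul_zero]
      · rw [if_neg hp, zero_mul]
  have hne : ∀ c : {c // c ∈ C}, line i c.1 h ⬝ᵥ line i c.1 h ≠ 0 := fun c => by
    rw [hdot c.1 c.1 c.2 c.2, if_pos rfl]; exact hh
  have hex := spin_refls (F := F) (C.attach.toList.map fun c => ⟨line i c.1 h, hne c⟩)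
  obtain ⟨g, hg, hs⟩ := hex
  rw [List.map_map] at hg hs
  have hgA : ((g : GL (Fin t → Fin k) F) : Matrix (Fin t → Fin k) (Fin t → Fin k) F) = slot i (-ax h) := by
    rw [hg]
    have ho : (C.attach.toList.map fun c => line i c.1 h).Pairwise fun v w => v ⬝ᵥ w = 0 :=
      List.pairwise_map.2 ((Finset.nodup_toList _).imp fun {c d} hcd => by
        rw [hdot c.1 d.1 c.2 d.2, if_neg fun e => hcd (Subtype.ext e)])
    have h1 := refls_prod _ (fun v hv => by obtain ⟨c, -, rfl⟩ := List.mem_map.1 hv; exact hne c) ho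
    rw [List.map_map, List.map_map] at h1
    refine h1.trans ?_
    ext p q
    rw [Matrix.sub_apply, Finset.sum_map_toList, Matrix.sum_apply, slot_smul_apply]
    simp only [Function.comp_apply, Matrix.smul_apply, vecMulVec_apply, smul_eq_mul, ax, neg_sub]
    rw [Finset.sum_attach C fun c => 2 / (line i c h ⬝ᵥ line i c h) * (line i c h p * line i c h q),
      Finset.sum_congr rfl fun c hc => by rw [hdot c c hc hc, if_pos rfl]]
    rw [Finset.sum_eq_single (Function.update p i 0)
      (fun c hc hne' => by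
        have : ¬ ∀ j, j ≠ i → p j = c j := fun hp => hne' (funext fun j => by
          rcases eq_or_ne j i with rfl | hj
          · rw [Function.update_self]; exact (Finset.mem_filter.1 hc).2
          · rw [Function.update_of_ne hj, hp j hj])
        simp [line, this])
      (fun hnot => absurd ((Finset.mem_filter.2 ⟨Finset.mem_univ _, Function.update_self (β := fun _ => Fin k) i 0 p⟩ :
        Function.update p i 0 ∈ Finset.univ.filter fun c : Fin t → Fin k => c i = 0)) hnot)]
    have hp : ∀ j, j ≠ i → p j = Function.update p i 0 j := fun j hj => (Function.update_of_ne hj _ _).symm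
    simp only [line, if_pos hp]
    by_cases hq : ∀ j, j ≠ i → p j = q j
    · rw [if_pos fun j hj => (hq j hj).symm.trans (hp j hj), if_pos hq]
      rcases eq_or_ne p q with rfl | hpq
      · simp [vecMulVec_apply]
      · have hpi : p i ≠ q i := fun e => hpq (funext fun j => by
          rcases eq_or_ne j i with rfl | hj
          · exact e
          · exact hq j hj)
        simp [vecMulVec_apply, hpq, hpi]
    · rw [if_neg fun hh' => hq fun j hj => (hp j hj).trans (hh' j hj).symm, if_neg hq]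
      have hpq : p ≠ q := fun e => hq fun j _ => by rw [e]
      simp [hpq]
  have hodd : Odd C.card := by
    have : C.card = k ^ (t - 1) := by
      rw [hC, show (Finset.univ.filter fun c : (Fin t → Fin k) => c i = 0) =
        Fintype.piFinset (Function.update (fun _ => Finset.univ) i {0}) from ?_, Fintype.card_piFinset,
        ← Finset.mul_prod_erase _ _ (Finset.mem_univ i), Function.update_self, Finset.card_singleton, one_mul,
        Finset.prod_congr rfl (fun j hj => by rw [Function.update_of_ne (Finset.ne_of_mem_erase hj)]),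
        Finset.prod_const, Finset.card_univ, Fintype.card_fin, Finset.card_erase_of_mem (Finset.mem_univ i),
        Finset.card_univ, Fintype.card_fin]
      ext c
      simp only [Finset.mem_filter, Finset.mem_univ, true_and, Fintype.mem_piFinset]
      constructor
      · intro hc j
        rcases eq_or_ne j i with rfl | hj
        · simp [hc]
        · simp [hj]
      · intro hc; simpa using hc i
    rw [this]; exact hk.pow
  obtain ⟨hn, hneg⟩ := spin_negOne (t := t) (F := F) hk
  have e : (⟨A i h, A_mem_orth i hh⟩ : orth t k F) = ⟨-1, hn⟩ * g := by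
    refine Subtype.ext (Units.ext ?_)
    show (A i h : Matrix (Fin t → Fin k) (Fin t → Fin k) F) = (-1 : Matrix (Fin t → Fin k) (Fin t → Fin k) F) * ((g : GL (Fin t → Fin k) F) : Matrix (Fin t → Fin k) (Fin t → Fin k) F)
    rw [A_val i hh, hgA, slot_neg, neg_one_mul, neg_neg]
  rw [e, map_mul, hneg, hs, show ((fun v : {v : (Fin t → Fin k) → F // v ⬝ᵥ v ≠ 0} =>
      (Multiplicative.ofAdd (1 : ZMod 2), sqClass v.2)) ∘ fun c : {c // c ∈ C} => ⟨line i c.1 h, hne c⟩) =
      fun _ => (Multiplicative.ofAdd (1 : ZMod 2), sqClass hh) from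
    funext fun c => Prod.ext rfl (sqClass_congr (by rw [hdot c.1 c.1 c.2 c.2, if_pos rfl])),
    List.map_const', List.prod_replicate, Finset.length_toList, Finset.card_attach]
  exact Prod.ext (by
      rw [Prod.fst_mul, Prod.pow_fst, ofAdd_one_pow_odd hodd]
      show Multiplicative.ofAdd (1 : ZMod 2) * Multiplicative.ofAdd (1 : ZMod 2) = 1
      decide)
    (by rw [Prod.snd_mul, Prod.pow_snd, sqClass_pow_odd hh hodd, one_mul])

theorem A_mem_Om_iff (hk : Odd k) (i : Fin t) {h : Fin k → F} (hh : h ⬝ᵥ h ≠ 0) :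
    A i h ∈ Om t k F ↔ IsSquare (h ⬝ᵥ h) := by
  rw [mem_Om_iff (A_mem_orth i hh), spin_A hk i hh, ← sqClass_eq_one_iff hh, Prod.ext_iff]
  simp

theorem A_mem_base (hk : Odd k) (i : Fin t) {h : Fin k → F} (hh : h ⬝ᵥ h = 1) : A i h ∈ base t k F := by
  have h0 : h ⬝ᵥ h ≠ 0 := by rw [hh]; exact one_ne_zero
  exact ⟨A_mem_wreath i h, (A_mem_Om_iff hk i h0).2 (hh ▸ IsSquare.one)⟩

/-- an isometry is in `Om` up to `-1` and one axial element of non-square value -/
theorem exists_adjust (hk : Odd k) {g : GL (Fin t → Fin k) F} (hg : g ∈ orth t k F) {j : Fin t} {h : Fin k → F}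
    (hh : ¬ IsSquare (h ⬝ᵥ h)) :
    ∃ η : GL (Fin t → Fin k) F, (η = 1 ∨ η = -1 ∨ η = A j h ∨ η = -A j h) ∧ g * η ∈ Om t k F := by
  have h0 : h ⬝ᵥ h ≠ 0 := fun e => hh (e ▸ IsSquare.zero)
  obtain ⟨hn, hneg⟩ := spin_negOne (t := t) (F := F) hk
  have hns : sqClass h0 ≠ 1 := fun e => hh ((sqClass_eq_one_iff h0).1 e)
  have hcl : ∀ c : SqClass F, c = 1 ∨ c = sqClass h0 := fun c => by
    by_cases hc : c = 1
    · exact Or.inl hc
    · exact Or.inr (sqClass_two c _ hc hns)
  have h01 : ∀ y : Multiplicative (ZMod 2), y = 1 ∨ y = Multiplicative.ofAdd (1 : ZMod 2) := by decide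
  have hA := spin_A (t := t) hk j h0
  have key : ∀ (η : GL (Fin t → Fin k) F) (hη : η ∈ orth t k F), spin ⟨η, hη⟩ = spin ⟨g, hg⟩ → g * η ∈ Om t k F := by
    intro η hη e
    refine (mem_Om_iff (mul_mem hg hη)).2 ?_
    have : (⟨g * η, mul_mem hg hη⟩ : orth t k F) = ⟨g, hg⟩ * ⟨η, hη⟩ := rfl
    rw [this, map_mul, e]
    exact Prod.ext ((h01 (spin ⟨g, hg⟩).1).elim (fun e => by rw [Prod.fst_mul, e]; rfl)
        (fun e => by rw [Prod.fst_mul, e]; rfl))
      (by rw [Prod.snd_mul, sqClass_mul_self]; rfl)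
  rcases h01 (spin ⟨g, hg⟩).1 with e1 | e1 <;> rcases hcl (spin ⟨g, hg⟩).2 with e2 | e2
  · exact ⟨1, Or.inl rfl, key 1 (one_mem _) (((map_one spin).trans (Prod.ext e1.symm e2.symm)))⟩
  · exact ⟨A j h, Or.inr (Or.inr (Or.inl rfl)), key _ (A_mem_orth j h0) (hA.trans (Prod.ext e1.symm e2.symm))⟩
  · exact ⟨-1, Or.inr (Or.inl rfl), key _ hn (hneg.trans (Prod.ext e1.symm e2.symm))⟩
  · refine ⟨-A j h, Or.inr (Or.inr (Or.inr rfl)), ?_⟩
    have hm : -A j h = (-1 : GL (Fin t → Fin k) F) * A j h := (neg_one_mul _).symm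
    rw [hm]
    refine key _ (mul_mem hn (A_mem_orth j h0)) ?_
    have : (⟨-1 * A j h, mul_mem hn (A_mem_orth j h0)⟩ : orth t k F) = ⟨-1, hn⟩ * ⟨A j h, A_mem_orth j h0⟩ := rfl
    rw [this, map_mul, hneg, hA]
    exact Prod.ext (by rw [Prod.fst_mul, mul_one, e1]) (by rw [Prod.snd_mul, one_mul, e2])

end CfsgLib.MaxSub.TPow
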