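import Cfsg.Agent.Lib.MaxSub.TPow.Pure
import Cfsg.Agent.Lib.MaxSub.TPow.Omega

/-!
Configurations: sets of framed coordinate vectors in each slot, their centralisers in an overgroup of the base,
and the classification of wreath involutions having the value of one axial element.
-/

set_option autoImplicit false
set_option linter.unusedSectionVars false
set_option linter.style.haveILetI false

namespace CfsgLib.MaxSub.TPow

open Matrix CfsgLib.Aschbacher
open CfsgLib.Aschbacher.Orth (pureMat_transpose permMat_mul_permMat permMat_one permMat_transpose)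
open scoped MatrixGroups

variable {t k : ℕ} {F : Type*} [Field F] [Fintype F] [h2 : Fact ((2 : F) ≠ 0)]

/-- the conjugated group -/
def conjM (n : GL (Fin t → Fin k) F) (M : Subgroup (GL (Fin t → Fin k) F)) : Subgroup (GL (Fin t → Fin k) F) :=
  M.map (MulAut.conj n).toMonoidHom

theorem mem_conjM {n g : GL (Fin t → Fin k) F} {M : Subgroup (GL (Fin t → Fin k) F)} :
    g ∈ conjM n M ↔ ∃ m ∈ M, n * m * n⁻¹ = g := by
  simp [conjM, Subgroup.mem_map]

/-- an overgroup of the base with no element acting in one slot only, in all frames -/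
structure Good (M : Subgroup (GL (Fin t → Fin k) F)) : Prop where
  base_le : base t k F ≤ M
  le_Om : M ≤ Om t k F
  noBoot : ∀ n ∈ Cfsg.Geo.tensorWreathStandard k t F, n ∈ orth t k F → NoBoot (conjM n M)

theorem Good.conj {M : Subgroup (GL (Fin t → Fin k) F)} (hM : Good M) {n : GL (Fin t → Fin k) F}
    (hn : n ∈ Cfsg.Geo.tensorWreathStandard k t F) (hno : n ∈ orth t k F) : Good (conjM n M) := by
  refine ⟨fun b hb => mem_conjM.2 ⟨n⁻¹ * b * n, hM.base_le (Subgroup.mem_inf.2 ⟨(Cfsg.Geo.tensorWreathStandard k t F).mul_mem ((Cfsg.Geo.tensorWreathStandard k t F).mul_mem ((Cfsg.Geo.tensorWreathStandard k t F).inv_mem hn) hb.1) hn, ?_⟩), by group⟩,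
    fun g hg => ?_, fun n' hn' hno' => ?_⟩
  · simpa using Om_conj (inv_mem hno) hb.2
  · obtain ⟨m, hm, rfl⟩ := mem_conjM.1 hg
    exact Om_conj hno (hM.le_Om hm)
  · have e : conjM n' (conjM n M) = conjM (n' * n) M := by
      ext g
      simp only [mem_conjM]
      constructor
      · rintro ⟨m, ⟨m', hm', rfl⟩, rfl⟩
        exact ⟨m', hm', by group⟩
      · rintro ⟨m', hm', rfl⟩
        exact ⟨n * m' * n⁻¹, ⟨m', hm', rfl⟩, by group⟩
    rw [e]
    exact hM.noBoot _ (mul_mem hn' hn) (mul_mem hno' hno)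

/-- coordinate vector -/
abbrev eC (s : Fin k) : Fin k → F := Pi.single s 1

theorem eC_self (s : Fin k) : (eC s : Fin k → F) ⬝ᵥ eC s = 1 := by simp

theorem eC_orth {s s' : Fin k} (h : s ≠ s') : (eC s : Fin k → F) ⬝ᵥ eC s' = 0 := by simp [h]

theorem eC_ne (s : Fin k) : (eC s : Fin k → F) ⬝ᵥ eC s ≠ 0 := by rw [eC_self]; exact one_ne_zero

/-- the elements of `M` commuting with the framed axial elements -/
def L (M : Subgroup (GL (Fin t → Fin k) F)) (S : Fin t → Finset (Fin k)) : Subgroup (GL (Fin t → Fin k) F) :=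
  M ⊓ Subgroup.centralizer {x | ∃ i, ∃ s ∈ S i, A i (eC s) = x}

theorem mem_L {M : Subgroup (GL (Fin t → Fin k) F)} {S : Fin t → Finset (Fin k)} {g : GL (Fin t → Fin k) F} :
    g ∈ L M S ↔ g ∈ M ∧ ∀ i, ∀ s ∈ S i, Commute g (A i (eC s)) := by
  simp only [L, Subgroup.mem_inf, Subgroup.mem_centralizer_iff, Set.mem_setOf_eq]
  refine and_congr_right fun _ => ⟨fun h i s hs => (h _ ⟨i, s, hs, rfl⟩).symm, ?_⟩
  rintro h x ⟨i, s, hs, rfl⟩
  exact (h i s hs).eq.symm

theorem L_le {M : Subgroup (GL (Fin t → Fin k) F)} {S : Fin t → Finset (Fin k)} : L M S ≤ M := inf_le_left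

/-- slot `i` has at least two unframed coordinates -/
def Free (S : Fin t → Finset (Fin k)) (i : Fin t) : Prop := (S i).card + 2 ≤ k

instance (S : Fin t → Finset (Fin k)) (i : Fin t) : Decidable (Free S i) :=
  inferInstanceAs (Decidable (_ ≤ _))

/-- total free dimension -/
def meas (S : Fin t → Finset (Fin k)) : ℕ := ∑ i, if Free S i then k - (S i).card else 0

/-- frame one more coordinate -/
def addPt (S : Fin t → Finset (Fin k)) (i : Fin t) (x : Fin k) : Fin t → Finset (Fin k) :=
  Function.update S i (insert x (S i))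

theorem meas_addPt {S : Fin t → Finset (Fin k)} {i : Fin t} (hi : Free S i) {x : Fin k} (hx : x ∉ S i) :
    meas (addPt S i x) < meas S := by
  set φ : ℕ → ℕ := fun c => if c + 2 ≤ k then k - c else 0 with hφ
  have e : ∀ S' : Fin t → Finset (Fin k), meas S' = ∑ j, φ (S' j).card := fun S' =>
    Finset.sum_congr rfl fun j _ => by
      by_cases hf : Free S' j
      · rw [if_pos hf, hφ]; exact (if_pos (show (S' j).card + 2 ≤ k from hf)).symm
      · rw [if_neg hf, hφ]; exact (if_neg (show ¬(S' j).card + 2 ≤ k from hf)).symm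
  have hstep : ∀ c, c + 2 ≤ k → φ (c + 1) < φ c := by
    intro c hc
    simp only [hφ, if_pos hc]
    split <;> omega
  rw [e, e]
  refine Finset.sum_lt_sum (fun j _ => ?_) ⟨i, Finset.mem_univ i, ?_⟩
  · rcases eq_or_ne j i with rfl | hj
    · rw [addPt, Function.update_self, Finset.card_insert_of_notMem hx]
      exact (hstep _ hi).le
    · rw [addPt, Function.update_of_ne hj]
  · rw [addPt, Function.update_self, Finset.card_insert_of_notMem hx]
    exact hstep _ hi

/-- unit vector of slot `i` off the frames -/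
def IsU (S : Fin t → Finset (Fin k)) (i : Fin t) (a : Fin k → F) : Prop := a ⬝ᵥ a = 1 ∧ ∀ s ∈ S i, a s = 0

theorem IsU.ne {S : Fin t → Finset (Fin k)} {i : Fin t} {a : Fin k → F} (ha : IsU S i a) : a ⬝ᵥ a ≠ 0 := by
  rw [ha.1]; exact one_ne_zero

theorem isU_eC {S : Fin t → Finset (Fin k)} {i : Fin t} {x : Fin k} (hx : x ∉ S i) : IsU S i (eC x : Fin k → F) :=
  ⟨eC_self x, fun s hs => Pi.single_eq_of_ne (show s ≠ x from fun e => hx (e ▸ hs)) 1⟩

theorem exists_notMem {S : Fin t → Finset (Fin k)} {i : Fin t} (hi : Free S i) : ∃ x, x ∉ S i := by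
  by_contra h
  simp only [not_exists, not_not] at h
  have := Finset.eq_univ_iff_forall.2 h
  unfold Free at hi
  rw [this, Finset.card_univ, Fintype.card_fin] at hi
  omega

theorem exists_two {S : Fin t → Finset (Fin k)} {i : Fin t} (hi : Free S i) :
    ∃ x y, x ≠ y ∧ x ∉ S i ∧ y ∉ S i := by
  have hc : 1 < ((S i)ᶜ).card := by
    rw [Finset.card_compl, Fintype.card_fin]
    unfold Free at hi
    omega
  obtain ⟨x, hx, y, hy, hxy⟩ := Finset.one_lt_card.1 hc
  exact ⟨x, y, hxy, Finset.mem_compl.1 hx, Finset.mem_compl.1 hy⟩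

theorem A_comm_frame (i : Fin t) {a : Fin k → F} (ha : a ⬝ᵥ a ≠ 0) (j : Fin t) (s : Fin k)
    (h : i = j → a s = 0) : Commute (A i a) (A j (eC s)) := by
  rcases eq_or_ne i j with rfl | hij
  · exact A_comm_orth i ha (eC_ne s) (by simp [h rfl])
  · exact A_comm_ne hij _ _

theorem A_mem_L (hk : Odd k) {M : Subgroup (GL (Fin t → Fin k) F)} (hM : Good M) {S : Fin t → Finset (Fin k)}
    {i : Fin t} {a : Fin k → F} (ha : IsU S i a) : A i a ∈ L M S :=
  mem_L.2 ⟨hM.base_le (A_mem_base hk i ha.1), fun j s hs => A_comm_frame i ha.ne j s fun e => ha.2 s (e ▸ hs)⟩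

theorem mem_orth_of_L {M : Subgroup (GL (Fin t → Fin k) F)} (hM : Good M) {S : Fin t → Finset (Fin k)}
    {g : GL (Fin t → Fin k) F} (hg : g ∈ L M S) : g ∈ orth t k F :=
  Om_le_orth (hM.le_Om (L_le hg))

theorem L_conj {M : Subgroup (GL (Fin t → Fin k) F)} {S : Fin t → Finset (Fin k)} {n g : GL (Fin t → Fin k) F}
    (hn : ∀ i, ∀ s ∈ S i, Commute n (A i (eC s))) (hg : g ∈ L M S) : n * g * n⁻¹ ∈ L (conjM n M) S := by
  obtain ⟨h1, h2⟩ := mem_L.1 hg
  exact mem_L.2 ⟨mem_conjM.2 ⟨g, h1, rfl⟩, fun i s hs =>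
    ((hn i s hs).mul_left (h2 i s hs)).mul_left (hn i s hs).inv_left⟩

/-- the centraliser of one more axial element, by induction -/
theorem child (hk : Odd k) {M : Subgroup (GL (Fin t → Fin k) F)} (hM : Good M) {S : Fin t → Finset (Fin k)}
    (IH : ∀ M' S', Good M' → meas S' < meas S → L M' S' ≤ Cfsg.Geo.tensorWreathStandard k t F)
    {i : Fin t} (hi : Free S i) {a : Fin k → F} (ha : IsU S i a) {g : GL (Fin t → Fin k) F} (hg : g ∈ L M S)
    (hc : Commute g (A i a)) : g ∈ Cfsg.Geo.tensorWreathStandard k t F := by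
  have hh : (2 : F) ≠ 0 := h2.out
  obtain ⟨x, hx⟩ := exists_notMem hi
  obtain ⟨gm, hgm, hgx, hgS⟩ := exists_map_coord hh (S := S i) (eC_ne x) (show (eC x : Fin k → F) ⬝ᵥ eC x = a ⬝ᵥ a by
    rw [eC_self, ha.1]) (isU_eC (F := F) hx).2 ha.2
  set n := slotGL i (unitOfOrth gm hgm) with hn
  have hnW : n ∈ Cfsg.Geo.tensorWreathStandard k t F := slotGL_mem_wreath i _
  have hno : n ∈ orth t k F := slotGL_mem_orth i hgm
  have hnx : n * A i (eC x) * n⁻¹ = A i a := by
    rw [hn, slotGL_conj_A i hgm (eC_ne x)]; exact congrArg (A i) hgx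
  have hnS : ∀ j, ∀ s ∈ S j, Commute n (A j (eC s)) := by
    intro j s hs
    have : n * A j (eC s) * n⁻¹ = A j (eC s) := by
      rcases eq_or_ne i j with rfl | hij
      · rw [hn, slotGL_conj_A i hgm (eC_ne s)]; exact congrArg (A i) (hgS s hs)
      · exact slotGL_conj_A_ne hij _ _
    exact mul_inv_eq_iff_eq_mul.1 this
  have hg' : n⁻¹ * g * n ∈ L (conjM n⁻¹ M) (addPt S i x) := by
    have h1 := L_conj (n := n⁻¹) (fun j s hs => (hnS j s hs).inv_left) hg
    rw [inv_inv] at h1
    obtain ⟨hM', hS'⟩ := mem_L.1 h1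
    refine mem_L.2 ⟨hM', fun j s hs => ?_⟩
    rcases eq_or_ne j i with rfl | hj
    · rw [addPt, Function.update_self, Finset.mem_insert] at hs
      rcases hs with rfl | hs
      · have e : A j (eC s) = n⁻¹ * A j a * n := by rw [← hnx]; group
        rw [e]
        have := hc.eq
        show n⁻¹ * g * n * (n⁻¹ * A j a * n) = n⁻¹ * A j a * n * (n⁻¹ * g * n)
        calc _ = n⁻¹ * (g * A j a) * n := by group
          _ = n⁻¹ * (A j a * g) * n := by rw [this]
          _ = _ := by group
      · exact hS' j s hs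
    · rw [addPt, Function.update_of_ne hj] at hs
      exact hS' j s hs
  have hW := IH _ _ (hM.conj (inv_mem hnW) (inv_mem hno)) (meas_addPt hi hx) hg'
  have := mul_mem (mul_mem hnW hW) (inv_mem hnW)
  simpa [mul_assoc] using this

theorem slot_diag_apply (i : Fin t) (d : Fin k → F) :
    slot i (diagonal d) = diagonal fun p : Fin t → Fin k => d (p i) := by
  ext p q
  rw [slot_smul_apply]
  rcases eq_or_ne p q with rfl | hpq
  · simp
  · rw [diagonal_apply_ne _ hpq]
    split
    · next h =>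
      refine diagonal_apply_ne _ fun e => hpq (funext fun j => ?_)
      rcases eq_or_ne j i with rfl | hj
      exacts [e, h j hj]
    · rfl

/-- framed coordinates are preserved -/
theorem L_block {M : Subgroup (GL (Fin t → Fin k) F)} {S : Fin t → Finset (Fin k)} {g : GL (Fin t → Fin k) F}
    (hg : g ∈ L M S) (i : Fin t) {p q : Fin t → Fin k}
    (hpq : (g : Matrix (Fin t → Fin k) (Fin t → Fin k) F) p q ≠ 0) (hs : p i ∈ S i ∨ q i ∈ S i) : p i = q i := by
  have hh : (2 : F) ≠ 0 := h2.out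
  have key : ∀ s ∈ S i, (p i = s ↔ q i = s) := by
    intro s hs
    have h := congrArg (fun u : GL (Fin t → Fin k) F => (u : Matrix (Fin t → Fin k) (Fin t → Fin k) F) p q)
      ((mem_L.1 hg).2 i s hs).eq
    simp only [Units.val_mul, A_val i (eC_ne s), ax_single, slot_diag_apply, mul_diagonal, diagonal_mul] at h
    have h' : (if q i = s then (1 : F) else -1) = if p i = s then (1 : F) else -1 :=
      mul_right_cancel₀ hpq (by rw [mul_comm]; exact h)
    have hne : (1 : F) ≠ -1 := fun e => hh (by linear_combination e)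
    by_cases h1 : p i = s <;> by_cases h2 : q i = s <;> simp [h1, h2, hne, hne.symm] at h' ⊢
  rcases hs with h | h
  · exact ((key _ h).1 rfl).symm
  · exact (key _ h).2 rfl

/-- a diagonal element of slot `i`, constant off the frame, commutes with `L` -/
theorem L_comm_diag {M : Subgroup (GL (Fin t → Fin k) F)} {S : Fin t → Finset (Fin k)} {g : GL (Fin t → Fin k) F}
    (hg : g ∈ L M S) {i : Fin t} {d : Fin k → F} (hd : ∀ a b, a ∉ S i → b ∉ S i → d a = d b)
    {x : GL (Fin t → Fin k) F} (hx : (x : Matrix (Fin t → Fin k) (Fin t → Fin k) F) = slot i (diagonal d)) :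
    Commute g x := by
  refine Units.ext (Matrix.ext fun p q => ?_)
  rw [Units.val_mul, Units.val_mul, hx, slot_diag_apply, mul_diagonal, diagonal_mul]
  by_cases h0 : (g : Matrix (Fin t → Fin k) (Fin t → Fin k) F) p q = 0
  · rw [h0, mul_zero, zero_mul]
  · rw [mul_comm]
    congr 1
    by_cases hs : p i ∈ S i ∨ q i ∈ S i
    · rw [L_block hg i h0 hs]
    · rw [not_or] at hs
      exact hd _ _ hs.2 hs.1

theorem neg_one_mem_wreath (ht : 0 < t) : (-1 : GL (Fin t → Fin k) F) ∈ Cfsg.Geo.tensorWreathStandard k t F := by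
  have e : (-1 : GL (Fin t → Fin k) F) = slotGL ⟨0, ht⟩ (-1 : GL (Fin k) F) := Units.ext (by
    rw [slotGL_val, Units.val_neg, Units.val_neg, Units.val_one, Units.val_one, slot_neg, map_one])
  rw [e]
  exact slotGL_mem_wreath _ _

/-- the number of non-trivial fixed factors -/
noncomputable def nt (σ : Equiv.Perm (Fin t)) (b : Fin t → Matrix (Fin k) (Fin k) F) : Finset (Fin t) :=
  haveI := Classical.decEq F
  Finset.univ.filter fun i => σ i = i ∧ b i ≠ 1

theorem mem_nt {σ : Equiv.Perm (Fin t)} {b : Fin t → Matrix (Fin k) (Fin k) F} {i : Fin t} :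
    i ∈ nt σ b ↔ σ i = i ∧ b i ≠ 1 := by
  classical
  simp [nt]

/-- moved slots come in pairs -/
theorem two_cyc {σ : Equiv.Perm (Fin t)} (hσ : ∀ i, σ (σ i) = i) :
    2 * cyc σ + (Finset.univ.filter fun i => σ i = i).card = t := by
  have h1 : (Finset.univ.filter fun i => σ i < i).card = cyc σ := by
    refine Finset.card_bij' (fun i _ => σ i) (fun i _ => σ i) ?_ ?_ (fun i _ => hσ i) (fun i _ => hσ i) <;>
      intro i hi <;> simpa [hσ] using hi
  have e : (Finset.univ : Finset (Fin t)) =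
      (Finset.univ.filter fun i => i < σ i) ∪ (Finset.univ.filter fun i => σ i < i) ∪
        (Finset.univ.filter fun i => σ i = i) := by
    ext i
    simp only [Finset.mem_univ, Finset.mem_union, Finset.mem_filter, true_and, true_iff]
    rcases lt_trichotomy i (σ i) with h | h | h
    exacts [Or.inl (Or.inl h), Or.inr h.symm, Or.inl (Or.inr h)]
  have := congrArg Finset.card e
  rw [Finset.card_union_of_disjoint, Finset.card_union_of_disjoint, h1, Finset.card_univ, Fintype.card_fin] at this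
  · unfold cyc at this ⊢; omega
  · exact Finset.disjoint_filter.2 fun i _ h h' => lt_asymm h h'
  · refine Finset.disjoint_union_left.2 ⟨?_, ?_⟩ <;>
      exact Finset.disjoint_filter.2 fun i _ h h' => by rw [h'] at h; exact lt_irrefl _ h

theorem perm_eq_one_of_cyc {σ : Equiv.Perm (Fin t)} (hσ : ∀ i, σ (σ i) = i) (h : cyc σ = 0) : σ = 1 := by
  refine Equiv.ext fun i => ?_
  by_contra hne
  have hc : (Finset.univ.filter fun i => i < σ i) = ∅ := Finset.card_eq_zero.1 h
  rcases lt_or_gt_of_ne hne with hl | hl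
  · exact Finset.eq_empty_iff_forall_notMem.1 hc (σ i) (Finset.mem_filter.2 ⟨Finset.mem_univ _, by rwa [hσ]⟩)
  · exact Finset.eq_empty_iff_forall_notMem.1 hc i (Finset.mem_filter.2 ⟨Finset.mem_univ _, hl⟩)

theorem perm_swap_of_cyc {σ : Equiv.Perm (Fin t)} (hσ : ∀ i, σ (σ i) = i) (h : cyc σ = 1) :
    ∃ u v, u ≠ v ∧ σ = Equiv.swap u v := by
  obtain ⟨u, hu⟩ := Finset.card_eq_one.1 h
  have hu' : u < σ u := by
    have := Finset.mem_singleton_self u
    rw [← hu] at this
    exact (Finset.mem_filter.1 this).2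
  have key : ∀ i, i < σ i → i = u := fun i hi =>
    Finset.mem_singleton.1 (hu ▸ Finset.mem_filter.2 ⟨Finset.mem_univ i, hi⟩)
  refine ⟨u, σ u, hu'.ne, Equiv.ext fun i => ?_⟩
  rcases lt_trichotomy i (σ i) with hl | hl | hl
  · rw [key i hl, Equiv.swap_apply_left]
  · have h1 : i ≠ u := fun e => by rw [e] at hl; exact hu'.ne hl
    have h2 : i ≠ σ u := fun e => h1 (σ.injective (hl.symm.trans e))
    rw [Equiv.swap_apply_of_ne_of_ne h1 h2, ← hl]
  · have := key (σ i) (by rwa [hσ])
    have e : i = σ u := by rw [← this, hσ]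
    rw [this, e, Equiv.swap_apply_right]

/-- the value of an involution, with the trivial factors removed -/
theorem dval_shape_nt [DecidableEq F] (hk : Odd k) (hk2 : 2 ≤ k) {n : GL (Fin t → Fin k) F} {ε : F}
    {σ : Equiv.Perm (Fin t)} {b : Fin t → Matrix (Fin k) (Fin k) F} (h : Shape n ε σ b) (hn : n * n = 1) :
    dval (n : Matrix (Fin t → Fin k) (Fin t → Fin k) F) * (k : ℤ) ^ (cyc σ + (nt σ b).card) =
      (if ε = 1 then 1 else -1) * (k : ℤ) ^ t * ∏ i ∈ nt σ b, dval (b i) := by
  classical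
  have hsub : nt σ b ⊆ Finset.univ.filter (fun i => σ i = i) := fun i hi => by
    simpa using (mem_nt.1 hi).1
  rw [dval_shape h2.out hk hk2 h hn, ← Finset.prod_sdiff hsub,
    Finset.prod_congr rfl (g := fun _ => (k : ℤ)) (fun i hi => by
      obtain ⟨h1, h1'⟩ := Finset.mem_sdiff.1 hi
      rw [show b i = 1 from not_not.1 fun hne => h1' (mem_nt.2 ⟨(Finset.mem_filter.1 h1).2, hne⟩), dval_one,
        Fintype.card_fin]), Finset.prod_const]
  have hcard := two_cyc (h.invol hk hk2 hn).1
  rw [Finset.card_sdiff_of_subset hsub]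
  have := Finset.card_le_card hsub
  set f := (Finset.univ.filter fun i => σ i = i).card
  have e : cyc σ + (f - (nt σ b).card) + (cyc σ + (nt σ b).card) = t := by omega
  rw [show (k : ℤ) ^ t = (k : ℤ) ^ (cyc σ + (f - (nt σ b).card) + (cyc σ + (nt σ b).card)) by rw [e]]
  simp only [pow_add]
  ring

/-- an involution with the value of `m` axial elements of different slots -/
theorem fus [DecidableEq F] (hk : Odd k) (hk3 : 3 ≤ k) {n : GL (Fin t → Fin k) F} {ε : F}
    {σ : Equiv.Perm (Fin t)} {b : Fin t → Matrix (Fin k) (Fin k) F} (h : Shape n ε σ b) (hn : n * n = 1) {m : ℕ}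
    (hm : m ≠ 0) (hd : dval (n : Matrix (Fin t → Fin k) (Fin t → Fin k) F) * (k : ℤ) ^ m =
      (k : ℤ) ^ t * (2 - (k : ℤ)) ^ m) :
    cyc σ + (nt σ b).card = m ∧ (k ≠ 3 → cyc σ = 0) ∧
      (∀ i ∈ nt σ b, ∃ v, v ⬝ᵥ v ≠ 0 ∧ b i = ax v) ∧ (ε = 1 ↔ Even (cyc σ)) := by
  have hh : (2 : F) ≠ 0 := h2.out
  have hinv := h.invol hk (by omega) hn
  set j := (nt σ b).card with hj
  set c := cyc σ
  set P := ∏ i ∈ nt σ b, dval (b i) with hP
  have h1 := dval_shape_nt hk (by omega) h hn
  have hb : ∀ i ∈ nt σ b, (dval (b i)).natAbs + 2 ≤ k ∧ (dval (b i)).natAbs % 2 = 1 := fun i hi =>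
    dval_so_lt hh hk (h.2.1 i) (by have := hinv.2 i; rwa [(mem_nt.1 hi).1] at this) (mem_nt.1 hi).2
  have hkpos : (0 : ℤ) < k := by exact_mod_cast (show 0 < k by omega)
  have e2 : (if ε = 1 then (1 : ℤ) else -1) * P * (k : ℤ) ^ m = (2 - (k : ℤ)) ^ m * (k : ℤ) ^ (c + j) := by
    refine mul_left_cancel₀ (pow_ne_zero t hkpos.ne') ?_
    calc (k : ℤ) ^ t * ((if ε = 1 then (1 : ℤ) else -1) * P * (k : ℤ) ^ m)
        = ((if ε = 1 then (1 : ℤ) else -1) * (k : ℤ) ^ t * P) * (k : ℤ) ^ m := by ring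
      _ = dval (n : Matrix (Fin t → Fin k) (Fin t → Fin k) F) * (k : ℤ) ^ m * (k : ℤ) ^ (c + j) := by
          rw [← h1]; ring
      _ = _ := by rw [hd]; ring
  have e3 : P.natAbs * k ^ m = (k - 2) ^ m * k ^ (c + j) := by
    have := congrArg Int.natAbs e2
    rw [Int.natAbs_mul, Int.natAbs_mul, Int.natAbs_mul, Int.natAbs_pow, Int.natAbs_pow, Int.natAbs_pow,
      Int.natAbs_natCast, show (2 - (k : ℤ)).natAbs = k - 2 by omega] at this
    rw [← this]
    split <;> simp
  have hPle : P.natAbs ≤ (k - 2) ^ j := by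
    rw [hP, show (∏ i ∈ nt σ b, dval (b i)).natAbs = ∏ i ∈ nt σ b, (dval (b i)).natAbs from
      map_prod Int.natAbsHom _ _]
    refine le_trans (Finset.prod_le_prod' fun i hi => (?_ : _ ≤ k - 2)) (by rw [Finset.prod_const])
    have := hb i hi
    omega
  have hcop : Nat.Coprime k (k - 2) := by
    obtain ⟨r, hr⟩ := hk
    rw [Nat.coprime_self_sub_right (by omega), Nat.coprime_two_right]
    exact ⟨r, hr⟩
  have hle : m ≤ c + j := by
    by_contra hlt
    have hdvd : k ∣ (k - 2) ^ m := by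
      have he : m = (c + j) + (m - (c + j) - 1) + 1 := by omega
      rw [show k ^ m = k ^ (c + j) * k ^ (m - (c + j) - 1) * k from by rw [← pow_add, ← pow_succ, ← he]] at e3
      refine ⟨P.natAbs * k ^ (m - (c + j) - 1), Nat.eq_of_mul_eq_mul_right (m := k ^ (c + j))
        (pow_pos (by omega) _) ?_⟩
      rw [← e3]; ring
    have := Nat.eq_one_of_dvd_coprimes (hcop.pow_right m) dvd_rfl hdvd
    omega
  have e4 : P.natAbs = (k - 2) ^ m * k ^ (c + j - m) := by
    refine Nat.eq_of_mul_eq_mul_right (m := k ^ m) (pow_pos (by omega) _) ?_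
    rw [e3, mul_assoc, ← pow_add, Nat.sub_add_cancel hle]
  have hmain : c + j = m ∧ (k ≠ 3 → c = 0) := by
    have hkey : (k - 2) ^ m * k ^ (c + j - m) ≤ (k - 2) ^ j := e4 ▸ hPle
    by_cases h3 : k = 3
    · refine ⟨?_, fun hne => absurd h3 hne⟩
      subst h3
      by_contra hne
      have : 3 ≤ 3 ^ (c + j - m) := Nat.le_self_pow (by omega) 3
      norm_num at hkey
      omega
    · have hk5 : 2 ≤ k - 2 := by omega
      have hmj : m ≤ j := by
        by_contra hlt
        have h5 : (k - 2) ^ j < (k - 2) ^ m := Nat.pow_lt_pow_right (by omega) (by omega)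
        have : (k - 2) ^ m ≤ (k - 2) ^ m * k ^ (c + j - m) := Nat.le_mul_of_pos_right _ (pow_pos (by omega) _)
        omega
      have hcj : c + j - m = 0 := by
        by_contra hne
        have h6 : (k - 2) ^ (c + j - m) < k ^ (c + j - m) := Nat.pow_lt_pow_left (by omega) hne
        have h7 : (k - 2) ^ j ≤ (k - 2) ^ (m + (c + j - m)) := Nat.pow_le_pow_right (by omega) (by omega)
        rw [pow_add] at h7
        have := Nat.mul_lt_mul_of_pos_left h6 (show 0 < (k - 2) ^ m from pow_pos (by omega) _)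
        omega
      exact ⟨by omega, fun _ => by omega⟩
  have hax : ∀ i ∈ nt σ b, ∃ v, v ⬝ᵥ v ≠ 0 ∧ b i = ax v := by
    intro i hi
    have hii : b i * b i = 1 := by have := hinv.2 i; rwa [(mem_nt.1 hi).1] at this
    by_cases h3 : k = 3
    · exact axial_three hh h3 (h.2.1 i) hii (mem_nt.1 hi).2
    · refine axial_of_dval hh hk hk3 (h.2.1 i) hii ?_
      by_contra hne
      have hlt : P.natAbs < (k - 2) ^ j := by
        rw [hP, show (∏ i ∈ nt σ b, dval (b i)).natAbs = ∏ i ∈ nt σ b, (dval (b i)).natAbs from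
          map_prod Int.natAbsHom _ _, hj, ← Finset.prod_const]
        refine Finset.prod_lt_prod (fun i hi => ?_) (fun i hi => ?_) ⟨i, hi, ?_⟩
        · have := hb i hi; omega
        · have := hb i hi; omega
        · have := hb i hi; omega
      have hc0 := hmain.2 h3
      have hcj := hmain.1
      rw [e4, show c + j - m = 0 by omega, pow_zero, mul_one, show m = j by omega] at hlt
      omega
  refine ⟨hmain.1, hmain.2, hax, ?_⟩
  rw [hP, Finset.prod_congr rfl (g := fun _ => 2 - (k : ℤ)) (fun i hi => by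
    obtain ⟨v, hv, hv'⟩ := hax i hi
    rw [hv', dval_ax hh hv, Fintype.card_fin]), Finset.prod_const, ← hj, ← hmain.1, pow_add (2 - (k : ℤ)) c j] at e2
  -- signs
  have hc : (if ε = 1 then (1 : ℤ) else -1) = (2 - (k : ℤ)) ^ c :=
    mul_right_cancel₀ (pow_ne_zero j (show (2 - (k : ℤ)) ≠ 0 by omega))
      (mul_right_cancel₀ (pow_ne_zero (c + j) hkpos.ne') e2)
  rcases Nat.eq_zero_or_pos c with hc0 | hc0
  · rw [hc0, pow_zero] at hc
    rw [hc0]
    refine ⟨fun _ => ⟨0, rfl⟩, fun _ => ?_⟩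
    by_contra hε
    rw [if_neg hε] at hc
    omega
  · have h3 : k = 3 := by by_contra hne; have := hmain.2 hne; omega
    subst h3
    norm_num at hc
    rcases Nat.even_or_odd c with he | he
    · rw [he.neg_one_pow] at hc
      refine ⟨fun _ => he, fun _ => ?_⟩
      by_contra hε
      rw [if_neg hε] at hc
      omega
    · rw [he.neg_one_pow] at hc
      refine ⟨fun hε => ?_, fun hev => absurd hev (Nat.not_even_iff_odd.2 he)⟩
      rw [if_pos hε] at hc
      omega

end CfsgLib.MaxSub.TPow
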