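import Cfsg.Agent.Lib.MaxSub.TPow.Weight

/-!
The centraliser of two axial elements in different slots, one slot having three free coordinates.
-/

set_option autoImplicit false
set_option linter.unusedSectionVars false
set_option linter.style.haveILetI false

namespace CfsgLib.MaxSub.TPow

open Matrix CfsgLib.Aschbacher
open scoped MatrixGroups

variable {t k : ℕ} {F : Type*} [Field F] [Fintype F] [h2 : Fact ((2 : F) ≠ 0)]
variable {M : Subgroup (GL (Fin t → Fin k) F)} {S : Fin t → Finset (Fin k)}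

/-- an axial element commuting with a coordinate one of the same slot -/
theorem eq_or_orth_of_commute (hk : Odd k) (hk2 : 2 ≤ k) {i : Fin t} {v w : Fin k → F} (hv : v ⬝ᵥ v ≠ 0)
    (hw : w ⬝ᵥ w ≠ 0) (hc : Commute (A i v) (A i w)) : A i v = A i w ∨ v ⬝ᵥ w = 0 := by
  have h' := (shape_A hk i hv).comm hk hk2 (shape_A hk i hw) hc i
  simp only [Function.update_self, Equiv.Perm.coe_one, id_eq] at h'
  rcases eq_or_orth_of_comm h2.out hv hw h' with ⟨l, hl, hlv⟩ | ho
  · exact Or.inl (by rw [hlv, A_smul i v hl])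
  · exact Or.inr ho

/-- the product of the axes of a plane commutes with `L` -/
theorem plane_central {l : Fin t} {x y : Fin k} (hcompl : ∀ a, a ∉ S l → a = x ∨ a = y) (hxy : x ≠ y)
    {g : GL (Fin t → Fin k) F} (hg : g ∈ L M S) : Commute g (A l (eC x) * A l (eC y)) := by
  classical
  refine L_comm_diag hg (i := l)
    (d := fun c => (if c = x then (1 : F) else -1) * (if c = y then (1 : F) else -1)) (fun a b ha hb => ?_) ?_
  · rcases hcompl a ha with rfl | rfl <;> rcases hcompl b hb with rfl | rfl <;> simp [hxy, hxy.symm]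
  · rw [Units.val_mul, A_val l (eC_ne x), A_val l (eC_ne y), ← map_mul, ax_single, ax_single,
      diagonal_mul_diagonal]

theorem cross_coord (hk : Odd k) (hk3 : 3 ≤ k) (hM : Good M) (IH : IHyp S F) (h2f : TwoFree S)
    {i l : Fin t} (hil : i ≠ l) (hi : (S i).card + 3 ≤ k) (hl : Free S l) {x x' : Fin k} (hx : x ∉ S i)
    (hx' : x' ∉ S l) : CL M S (A i (eC x) * A l (eC x')) ≤ Cfsg.Geo.tensorWreathStandard k t F := by
  classical
  have hh : (2 : F) ≠ 0 := h2.out
  have hkz : (k : ℤ) ≠ 0 := by omega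
  have hT : (k : ℤ) ^ t ≠ 0 := pow_ne_zero t hkz
  have h2k : (2 : ℤ) - k ≠ 0 := by omega
  have hfree : Free S i := by unfold Free; omega
  obtain ⟨w, hw⟩ : ∃ w, w ∈ (insert x (S i))ᶜ := Finset.card_pos.1 (by
    rw [Finset.card_compl, Fintype.card_fin]
    have := Finset.card_insert_le x (S i)
    omega)
  simp only [Finset.mem_compl, Finset.mem_insert, not_or] at hw
  obtain ⟨hwx, hwS⟩ : w ≠ x ∧ w ∉ S i := hw
  set X : GL (Fin t → Fin k) F := A i (eC x) with hX
  set f : GL (Fin t → Fin k) F := A l (eC x') with hf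
  set z0 : GL (Fin t → Fin k) F := X * f with hz0
  set G := CL M S z0
  have hxL : X ∈ L M S := A_mem_L hk hM (isU_eC hx)
  have hwL := A_mem_L hk hM (isU_eC (F := F) hwS)
  have hfL : f ∈ L M S := A_mem_L hk hM (isU_eC hx')
  have hxf : Commute X f := A_comm_ne hil _ _
  have hxz : Commute X z0 := (Commute.refl X).mul_right hxf
  have hwz : Commute (A i (eC w)) z0 :=
    (A_comm_orth i (eC_ne w) (eC_ne x) (eC_orth hwx)).mul_right (A_comm_ne hil _ _)
  have hxG : X ∈ G := mem_CL.2 ⟨hxL, hxz⟩
  have hwG : A i (eC w) ∈ G := mem_CL.2 ⟨hwL, hwz⟩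
  have hGz : ∀ g ∈ G, Commute g z0 := fun g hg => (mem_CL.1 hg).2
  have hz2 : z0 * z0 = 1 := by rw [hz0, hxf.symm.mul_mul_mul_comm, hX, hf, A_mul_self, A_mul_self, one_mul]
  have hXX : X * X = 1 := A_mul_self i _
  have hff : f * f = 1 := A_mul_self l _
  have hXz : X * z0 = f := by rw [hz0, ← mul_assoc, hXX, one_mul]
  have dxz : dval ((X * z0 : GL (Fin t → Fin k) F) : Matrix (Fin t → Fin k) (Fin t → Fin k) F) * (k : ℤ) =
      (k : ℤ) ^ t * (2 - (k : ℤ)) := by
    rw [hXz]; exact dval_A hk (by omega) l (eC_ne x')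
  have hzS : Shape z0 1 1 fun j => Function.update (fun _ => (1 : Matrix (Fin k) (Fin k) F)) i (ax (eC x : Fin k → F)) j *
      Function.update (fun _ => (1 : Matrix (Fin k) (Fin k) F)) l (ax (eC x' : Fin k → F)) j := by
    have := (shape_A (F := F) hk i (eC_ne x)).mul (shape_A hk l (eC_ne x'))
    simpa only [one_mul, Equiv.Perm.coe_one, id_eq] using this
  have hinw : Commute (A i (eC w)) X := A_comm_orth i (eC_ne w) (eC_ne x) (eC_orth hwx)
  have dwz : dval ((A i (eC w) * z0 : GL (Fin t → Fin k) F) : Matrix (Fin t → Fin k) (Fin t → Fin k) F) *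
      ((k : ℤ) * k) = (k : ℤ) ^ t * (((k : ℤ) - 4) * (2 - (k : ℤ))) := by
    have hS1 : InSlot (A i (eC w) * X) i (ax (eC w : Fin k → F) * ax (eC x)) :=
      (inSlot_A hk i (eC_ne w)).mul (inSlot_A hk i (eC_ne x))
    have h := hS1.dval_two hk (by omega) hil (inSlot_A hk l (eC_ne (F := F) x'))
      (by rw [mul_assoc (A i (eC w)) X f, ← hz0, hwz.symm.mul_mul_mul_comm, A_mul_self, hz2, one_mul])
    rw [mul_assoc, ← hz0, dval_ax_pair hwx, dval_ax hh (eC_ne x'), Fintype.card_fin] at h
    exact h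
  have hkey : ((k : ℤ) - 4) * (2 - (k : ℤ)) ≠ (2 - (k : ℤ)) * (k : ℤ) := by
    intro e
    rw [mul_comm ((k : ℤ) - 4)] at e
    have := mul_left_cancel₀ h2k e
    omega
  have hne : ¬ ConjIn G X (A i (eC w)) := by
    intro h
    rw [h.dval_eq hGz] at dwz
    exact hkey (int_cancel hT dxz dwz)
  -- the possible weights of exchanges
  set J : Finset (Fin t) := {i, l} with hJdef
  have hJ : ∀ j, (Function.update (fun _ => (1 : Matrix (Fin k) (Fin k) F)) i (ax (eC x : Fin k → F)) j *
      Function.update (fun _ => (1 : Matrix (Fin k) (Fin k) F)) l (ax (eC x' : Fin k → F)) j) ≠ 1 ↔ j ∈ J := by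
    intro j
    rw [hJdef, Finset.mem_insert, Finset.mem_singleton]
    rcases eq_or_ne j i with rfl | hji
    · simp [hil, ax_ne_one hh (show 2 ≤ Fintype.card (Fin k) by rw [Fintype.card_fin]; omega)]
    rcases eq_or_ne j l with rfl | hjl
    · simp [hil.symm, ax_ne_one hh (show 2 ≤ Fintype.card (Fin k) by rw [Fintype.card_fin]; omega)]
    simp [hji, hjl]
  have w1 : k = 3 → (dval ((X * z0 : GL (Fin t → Fin k) F) :
      Matrix (Fin t → Fin k) (Fin t → Fin k) F)).natAbs * k ^ 1 = k ^ t := fun h3 => by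
    have := congrArg Int.natAbs dxz
    rw [Int.natAbs_mul, Int.natAbs_mul, Int.natAbs_pow, Int.natAbs_natCast,
      show (2 - (k : ℤ)).natAbs = 1 by omega, mul_one] at this
    rw [pow_one]; exact this
  have w2 : k = 3 → (dval ((A i (eC w) * z0 : GL (Fin t → Fin k) F) :
      Matrix (Fin t → Fin k) (Fin t → Fin k) F)).natAbs * k ^ 2 = k ^ t := fun h3 => by
    have := congrArg Int.natAbs dwz
    rw [Int.natAbs_mul, Int.natAbs_mul, Int.natAbs_mul, Int.natAbs_pow, Int.natAbs_natCast, Int.natAbs_mul,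
      show ((k : ℤ) - 4).natAbs = 1 by omega, show (2 - (k : ℤ)).natAbs = 1 by omega, mul_one, mul_one] at this
    rw [sq]; exact this
  -- exchanges never occur
  have noP : k = 3 → ∀ {n : GL (Fin t → Fin k) F} {b : Fin t → Matrix (Fin k) (Fin k) F} {u v : Fin t}, u ≠ v →
      Shape n (-1) (Equiv.swap u v) b → (∀ m, m ≠ u → m ≠ v → b m = 1) →
      (ConjIn G (A i (eC w)) n ∨ (ConjIn G X n ∧ Commute n X)) → False := by
    intro h3 n b u v huv hn hfix hcase
    have hnG : n ∈ G := hcase.elim (fun h => h.mem hwG) fun h => h.1.mem hxG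
    have hn2 : n * n = 1 := hcase.elim (fun h => h.sq (A_mul_self i _)) fun h => h.1.sq hXX
    obtain ⟨hiff, hd⟩ := wt_negP_mul hk h3 huv hn hfix hzS hn2 hz2 (hGz n hnG) hJ
    rcases hcase with h | ⟨h, hc⟩
    · rw [h.dval_eq hGz] at hd
      have hw' := wt_unique (by omega) hd (w2 h3)
      by_cases hu : u ∈ J
      · have hv := hiff.1 hu
        have : J \ {u, v} = ∅ := Finset.sdiff_eq_empty_iff_subset.2 (by
          intro a ha
          simp only [hJdef, Finset.mem_insert, Finset.mem_singleton] at hu hv ha ⊢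
          rcases ha with rfl | rfl <;> rcases hu with rfl | rfl <;> rcases hv with rfl | rfl <;>
            simp_all)
        rw [this, Finset.card_empty] at hw'
        omega
      · have hv : v ∉ J := fun hv => hu (hiff.2 hv)
        rw [Finset.sdiff_eq_self_of_disjoint (by simp [hu, hv]), hJdef, Finset.card_pair hil] at hw'
        omega
    · obtain ⟨hσ, -⟩ := hn.comm_A hh hk (by omega) (eC_ne x) hc
      have hiu : i ≠ u := fun e => by rw [e, Equiv.swap_apply_left] at hσ; exact huv hσ.symm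
      have hiv : i ≠ v := fun e => by rw [e, Equiv.swap_apply_right] at hσ; exact huv hσ
      rw [h.dval_eq hGz] at hd
      have hw' := wt_unique (by omega) hd (w1 h3)
      have : i ∈ J \ {u, v} := by simp [hJdef, hiu, hiv]
      have := Finset.card_pos.2 ⟨i, this⟩
      omega
  intro g hg
  have hW := engine hxG hwG hXX (A_mul_self i _) hne (A_mem_wreath i _)
    (fun g' hg' hc => child hk hM IH hfree (isU_eC hx) (CL_le hg') hc) ?_ hg
  · rcases conj_single hk hk3 hM (isU_eC hwS) ⟨g, CL_le hg, rfl⟩ hW with ⟨j, v, hv, e⟩ | ⟨h3, b, u, v, huv, hn, hfix⟩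
    · exact conc hk hk3 hM IH h2f hfree (isU_eC hwS) (CL_le hg) hv e
    · exact (noP h3 huv hn hfix (Or.inl ⟨g, hg, rfl⟩)).elim
  intro y' n hyy' hnG hnW hn2 hnx hcx hcy hcase
  obtain ⟨a, haU, hconj⟩ : ∃ a : Fin k → F, IsU S i a ∧ ConjIn G (A i a) n := by
    rcases hcase with h | h
    exacts [⟨_, isU_eC hx, h.1⟩, ⟨_, isU_eC hwS, h.1⟩]
  rcases conj_single hk hk3 hM haU (hconj.mono CL_le) hnW with ⟨j, v, hv, rfl⟩ | ⟨h3, b, u, v, huv, hn, hfix⟩
  swap
  · refine (noP h3 huv hn hfix ?_).elim
    rcases hcase with h | h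
    exacts [Or.inr ⟨h.1, hcx⟩, Or.inl h.1]
  obtain ⟨g0, hg0, e0⟩ := hconj.mono (H := L M S) CL_le
  obtain ⟨-, hvU, -⟩ := single_slot hk hk3 hM hfree haU hg0 hv e0
  have hnz : Commute (A j v) z0 := hGz _ hnG
  have hnz2 : A j v * z0 * (A j v * z0) = 1 := by rw [hnz.symm.mul_mul_mul_comm, A_mul_self, hz2, one_mul]
  have hnf : Commute (A j v) f := by
    have := hcx.mul_right hnz
    rwa [hXz] at this
  have hy'z := hGz _ (hyy'.mem hwG)
  have dcontra : ∀ (D : ℤ), D ≠ (k : ℤ) →
      dval ((A j v * z0 : GL (Fin t → Fin k) F) : Matrix (Fin t → Fin k) (Fin t → Fin k) F) * ((k : ℤ) * k) =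
        (k : ℤ) ^ t * (D * (2 - (k : ℤ))) → ¬ ConjIn G X (A j v) := by
    intro D hD hd h
    rw [h.dval_eq hGz] at hd
    have := int_cancel hT dxz hd
    rw [mul_comm D] at this
    exact hD (mul_left_cancel₀ h2k this)
  rcases eq_or_ne j i with rfl | hji
  · rcases eq_or_orth_of_commute hk (by omega) hvU.ne (eC_ne x) hcx with e | ho
    · exact absurd e hnx
    rcases hcase with h | h
    · exfalso
      have hS1 : InSlot (A j v * X) j (ax v * ax (eC x : Fin k → F)) :=
        (inSlot_A hk j hvU.ne).mul (inSlot_A hk j (eC_ne x))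
      have hd := hS1.dval_two hk (by omega) hil (inSlot_A hk l (eC_ne (F := F) x'))
        (by rw [mul_assoc (A j v) X f, ← hz0]; exact hnz2)
      rw [mul_assoc, ← hz0, dval_ax hh (eC_ne x'), Fintype.card_fin] at hd
      refine dcontra _ ?_ hd h.1
      have hb : ax v * ax (eC x : Fin k → F) ≠ 1 := fun e => ne_of_orth hh hvU.ne ho (by
        have := congrArg (· * ax (eC x : Fin k → F)) e
        simpa [Matrix.mul_assoc, ax_mul_self (eC_ne x)] using this)
      have hbb : (ax v * ax (eC x : Fin k → F)) * (ax v * ax (eC x)) = 1 := by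
        rw [Matrix.mul_assoc, ← Matrix.mul_assoc (ax (eC x)), ← ax_comm_orth ho, Matrix.mul_assoc (ax v) (ax (eC x)),
          ax_mul_self (eC_ne x), Matrix.mul_one, ax_mul_self hvU.ne]
      have := dval_so_lt hh hk ((isSO_ax hk hvU.ne).mul (isSO_ax hk (eC_ne x))) hbb hb
      omega
    · refine pairA hk hk3 hM IH h2f hi (isU_eC hx) hvU ?_ (mem_CL.2 ⟨CL_le (hyy'.mem hwG), hcy⟩)
      rw [dotProduct_comm]; exact ho
  rcases eq_or_ne j l with rfl | hjl
  · rcases eq_or_orth_of_commute hk (by omega) hvU.ne (eC_ne x') hnf with e | ho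
    · rw [e, ← hf] at hcase
      rcases hcase with h | h
      · exfalso
        have e1 := h.2.dval_eq hGz
        rw [← hz0, mul_assoc, hz2, mul_one, hyy'.dval_eq hGz, hyy'.dval_eq'] at e1
        rw [← e1] at dwz
        exact hkey (int_cancel hT (dval_A hk (by omega) i (eC_ne w)) dwz)
      · exfalso
        have e1 := h.1.dval_eq hGz
        rw [show f * z0 = X by rw [hz0, hxf.eq, ← mul_assoc, hff, one_mul]] at e1
        rw [← e1] at dwz
        exact hkey (int_cancel hT (dval_A hk (by omega) i (eC_ne x)) dwz)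
    · have hS1 : InSlot (f * A j v) j (ax (eC x' : Fin k → F) * ax v) :=
        (inSlot_A hk j (eC_ne x')).mul (inSlot_A hk j hvU.ne)
      have eXfn : z0 * A j v = X * (f * A j v) := by rw [hz0, mul_assoc]
      have hb : ax (eC x' : Fin k → F) * ax v ≠ 1 := fun e => ne_of_orth hh hvU.ne ho (by
        have := congrArg (ax (eC x' : Fin k → F) * ·) e
        simp only [← Matrix.mul_assoc, ax_mul_self (eC_ne x'), Matrix.one_mul, Matrix.mul_one] at this
        exact this)
      have hbb : (ax (eC x' : Fin k → F) * ax v) * (ax (eC x') * ax v) = 1 := by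
        rw [Matrix.mul_assoc, ← Matrix.mul_assoc (ax v), ax_comm_orth ho, Matrix.mul_assoc (ax (eC x')) (ax v),
          ax_mul_self hvU.ne, Matrix.mul_one, ax_mul_self (eC_ne x')]
      rcases hcase with h | h
      · exfalso
        have hd := (inSlot_A (F := F) hk i (eC_ne x)).dval_two hk (by omega) hil hS1
          (by rw [← hX, ← eXfn, ← hnz.eq]; exact hnz2)
        rw [← hX, ← eXfn, ← hnz.eq, dval_ax hh (eC_ne x), Fintype.card_fin, mul_comm (2 - (k : ℤ))] at hd
        refine dcontra _ ?_ hd h.1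
        have := dval_so_lt hh hk ((isSO_ax hk (eC_ne x')).mul (isSO_ax hk hvU.ne)) hbb hb
        omega
      · have hprod : z0 * (X * A j v) = f * A j v := by
          rw [hz0, hxf.eq, mul_assoc f X, ← mul_assoc X X, hXX, one_mul]
        by_cases hl3 : (S j).card + 3 ≤ k
        · refine pairA hk hk3 hM IH h2f hl3 (isU_eC hx') hvU (by rw [dotProduct_comm]; exact ho)
            (mem_CL.2 ⟨CL_le (hyy'.mem hwG), ?_⟩)
          rw [← hf, ← hprod]
          exact hy'z.mul_right hcy
        · -- a plane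
          exfalso
          have hcard : ((S j)ᶜ).card = 2 := by
            rw [Finset.card_compl, Fintype.card_fin]
            unfold Free at hl
            omega
          obtain ⟨p, q, hpq, hpqS⟩ := Finset.card_eq_two.1 hcard
          obtain ⟨x'', hxne, hcompl⟩ : ∃ x'', x' ≠ x'' ∧ ∀ a, a ∉ S j → a = x' ∨ a = x'' := by
            have hx'm : x' = p ∨ x' = q := by
              simpa [hpqS] using (Finset.mem_compl.2 hx' : x' ∈ (S j)ᶜ)
            have hall : ∀ a, a ∉ S j → a = p ∨ a = q := fun a ha => by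
              simpa [hpqS] using (Finset.mem_compl.2 ha : a ∈ (S j)ᶜ)
            rcases hx'm with rfl | rfl
            exacts [⟨q, hpq, hall⟩, ⟨p, hpq.symm, fun a ha => (hall a ha).symm⟩]
          have hv' : v = v x'' • eC x'' := funext fun a => by
            rcases eq_or_ne a x'' with rfl | ha
            · simp
            · have : v a = 0 := by
                by_cases haS : a ∈ S j
                · exact hvU.2 a haS
                · rcases hcompl a haS with rfl | rfl
                  · simpa using ho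
                  · exact absurd rfl ha
              simp [ha, this]
          have hvx : v x'' ≠ 0 := fun e => hvU.ne (by rw [hv', e, zero_smul, zero_dotProduct])
          have hAv : A j v = A j (eC x'') := by rw [hv', A_smul j _ hvx]
          set P : GL (Fin t → Fin k) F := f * A j (eC x'') with hP
          have hPc : ∀ g ∈ L M S, Commute g P := fun g hg => plane_central hcompl hxne hg
          have e1 := h.2.dval_eq hGz
          rw [show X * A j v = z0 * P by rw [hP, ← hAv, hz0, mul_assoc X f, ← mul_assoc f f, hff, one_mul],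
            mul_assoc y', mul_assoc z0 P z0, ← (hPc _ (mul_mem hxL hfL)).eq, ← mul_assoc z0 z0 P, hz2, one_mul,
            hyy'.dval_eq fun g hg => hPc g (CL_le hg)] at e1
          have hd := (inSlot_A (F := F) hk i (eC_ne w)).dval_two hk (by omega) hil
            ((inSlot_A hk j (eC_ne x')).mul (inSlot_A hk j (eC_ne x''))) (by
              rw [← hf, ← hP, (hPc _ hwL).symm.mul_mul_mul_comm, A_mul_self, one_mul, hP,
                (A_comm_orth j (eC_ne x'') (eC_ne x') (eC_orth hxne.symm)).mul_mul_mul_comm, A_mul_self, A_mul_self,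
                one_mul])
          rw [← hf, ← hP, dval_ax hh (eC_ne w), Fintype.card_fin, dval_ax_pair hxne, e1] at hd
          have := int_cancel hT dxz hd
          exact hkey (by linear_combination this)
  · exfalso
    have hs3 := (shape_A hk j hvU.ne).mul hzS
    simp only [one_mul, Equiv.Perm.coe_one, id_eq] at hs3
    have hd := dval_pure_on hh hk (by omega) hs3 hnz2 {j, i, l} fun m hm => by
      simp only [Finset.mem_insert, Finset.mem_singleton, not_or] at hm
      simp [hm.1, hm.2.1, hm.2.2]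
    rw [Finset.prod_insert (by simp [hji, hjl]), Finset.prod_pair hil,
      Finset.card_insert_of_notMem (by simp [hji, hjl]), Finset.card_pair hil] at hd
    simp only [Function.update_self, Function.update_of_ne hji.symm, Function.update_of_ne hjl.symm,
      Function.update_of_ne hji, Function.update_of_ne hjl, Function.update_of_ne hil,
      Function.update_of_ne hil.symm, Matrix.one_mul, Matrix.mul_one] at hd
    rw [dval_ax hh hvU.ne, dval_ax hh (eC_ne x), dval_ax hh (eC_ne x'), Fintype.card_fin] at hd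
    rcases hcase with h | h <;> rw [h.1.dval_eq hGz] at hd
    · have hz : (2 - (k : ℤ)) * ((2 - (k : ℤ)) * (2 - (k : ℤ))) = (2 - (k : ℤ)) * ((k : ℤ) * k) :=
        mul_left_cancel₀ hT (by linear_combination (k : ℤ) * (k : ℤ) * dxz - hd)
      exact no_mix hk hk3 k (mul_left_cancel₀ h2k hz).symm
    · have hz : (2 - (k : ℤ)) * ((2 - (k : ℤ)) * (2 - (k : ℤ))) = (2 - (k : ℤ)) * (((k : ℤ) - 4) * k) :=
        mul_left_cancel₀ hT (by linear_combination (k : ℤ) * dwz - hd)
      exact no_mix hk hk3 ((k : ℤ) - 4) (mul_left_cancel₀ h2k hz).symm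

/-- two axial elements in different slots -/
theorem cross (hk : Odd k) (hk3 : 3 ≤ k) (hM : Good M) (IH : IHyp S F) (h2f : TwoFree S) {i l : Fin t}
    (hil : i ≠ l) (hi : (S i).card + 3 ≤ k) (hl : Free S l) {a f : Fin k → F} (ha : IsU S i a) (hf : IsU S l f) :
    CL M S (A i a * A l f) ≤ Cfsg.Geo.tensorWreathStandard k t F := by
  have hh : (2 : F) ≠ 0 := h2.out
  obtain ⟨x, hx⟩ := exists_notMem (S := S) (i := i) (show Free S i by unfold Free; omega)
  obtain ⟨x', hx'⟩ := exists_notMem hl
  obtain ⟨g1, hg1, hg1a, hg1S⟩ := exists_map_coord hh (S := S i) (eC_ne x)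
    (show (eC x : Fin k → F) ⬝ᵥ eC x = a ⬝ᵥ a by rw [eC_self, ha.1]) (isU_eC (F := F) hx).2 ha.2
  obtain ⟨g2, hg2, hg2f, hg2S⟩ := exists_map_coord hh (S := S l) (eC_ne x')
    (show (eC x' : Fin k → F) ⬝ᵥ eC x' = f ⬝ᵥ f by rw [eC_self, hf.1]) (isU_eC (F := F) hx').2 hf.2
  set n1 : GL (Fin t → Fin k) F := slotGL i (unitOfOrth g1 hg1) with hn1
  set n2 : GL (Fin t → Fin k) F := slotGL l (unitOfOrth g2 hg2) with hn2
  have e1 : n1 * A i (eC x) * n1⁻¹ = A i a := by
    rw [hn1, slotGL_conj_A i hg1 (eC_ne x)]; exact congrArg (A i) hg1a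
  have e2 : n2 * A l (eC x') * n2⁻¹ = A l f := by
    rw [hn2, slotGL_conj_A l hg2 (eC_ne x')]; exact congrArg (A l) hg2f
  have hmap : n1 * n2 * (A i (eC x) * A l (eC x')) * (n1 * n2)⁻¹ = A i a * A l f := by
    calc n1 * n2 * (A i (eC x) * A l (eC x')) * (n1 * n2)⁻¹
        = n1 * (n2 * A i (eC x) * n2⁻¹) * n1⁻¹ * (n1 * (n2 * A l (eC x') * n2⁻¹) * n1⁻¹) := by group
      _ = A i a * A l f := by
          rw [show n2 * A i (eC x) * n2⁻¹ = A i (eC x) from slotGL_conj_A_ne hil.symm _ _, e1, e2,
            show n1 * A l f * n1⁻¹ = A l f from slotGL_conj_A_ne hil _ _]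
  rw [← hmap]
  refine transfer hM (mul_mem (slotGL_mem_wreath i _) (slotGL_mem_wreath l _))
    (mul_mem (slotGL_mem_orth i hg1) (slotGL_mem_orth l hg2)) (fun j s hs => ?_)
    fun M' hM' => cross_coord hk hk3 hM' IH h2f hil hi hl hx hx'
  have fix : ∀ (m : Fin t) (g : Matrix (Fin k) (Fin k) F) (hg : gᵀ * g = 1),
      (∀ s ∈ S m, g *ᵥ Pi.single s 1 = Pi.single s 1) →
      Commute (slotGL m (unitOfOrth g hg)) (A j (eC s)) := by
    intro m g hg hgS
    have : slotGL m (unitOfOrth g hg) * A j (eC s) * (slotGL m (unitOfOrth g hg))⁻¹ = A j (eC s) := by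
      rcases eq_or_ne m j with rfl | hmj
      · rw [slotGL_conj_A m hg (eC_ne s)]; exact congrArg (A m) (hgS s hs)
      · exact slotGL_conj_A_ne hmj _ _
    exact mul_inv_eq_iff_eq_mul.1 this
  exact (fix i g1 hg1 hg1S).mul_left (fix l g2 hg2 hg2S)

end CfsgLib.MaxSub.TPow
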