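import Mathlib

/-!
Two involutions that are not conjugate: the central involution of the dihedral group they generate.
Groups with an involutory automorphism without fixed points.
-/

set_option autoImplicit false

namespace CfsgLib.MaxSub.TPow

variable {G : Type*} [Group G]

/-- the involution commuting with two non-conjugate involutions, and the classes of its products with them -/
theorem dihedral [Finite G] {x y : G} (hx : x * x = 1) (hy : y * y = 1) (hne : ¬ IsConj x y) :
    ∃ z : G, z * z = 1 ∧ z ≠ 1 ∧ Commute z x ∧ Commute z y ∧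
      ((IsConj x (x * z) ∧ IsConj y (y * z)) ∨ (IsConj y (x * z) ∧ IsConj x (y * z))) := by
  have hxi : x⁻¹ = x := inv_eq_of_mul_eq_one_right hx
  have hyi : y⁻¹ = y := inv_eq_of_mul_eq_one_right hy
  set w := x * y with hw
  have hxw : SemiconjBy x w w⁻¹ := by
    show x * w = w⁻¹ * x
    rw [hw, mul_inv_rev, hxi, hyi, ← mul_assoc, hx, one_mul, mul_assoc, hx, mul_one]
  have hyw : SemiconjBy y w w⁻¹ := by
    show y * w = w⁻¹ * y
    rw [hw, mul_inv_rev, hxi, hyi, ← mul_assoc]
  have move : ∀ (a : G), SemiconjBy a w w⁻¹ → ∀ i : ℕ, IsConj a (a * w ^ (2 * i)) := by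
    intro a ha i
    refine isConj_iff.2 ⟨(w ^ i)⁻¹, ?_⟩
    rw [inv_inv, ← inv_pow, ← (ha.pow_right i).eq, mul_assoc, ← pow_add, two_mul]
  have hxy : x * w = y := by rw [hw, ← mul_assoc, hx, one_mul]
  have hpos : 0 < orderOf w := orderOf_pos w
  rcases Nat.even_or_odd (orderOf w) with ⟨n, hn⟩ | ⟨i, hi⟩
  swap
  · refine absurd ?_ hne
    have h := move x hxw (i + 1)
    rwa [show 2 * (i + 1) = orderOf w + 1 by omega, pow_succ, pow_orderOf_eq_one, one_mul, hxy] at h
  have hzz : w ^ n * w ^ n = 1 := by rw [← pow_add, ← hn, pow_orderOf_eq_one]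
  have hcomm : ∀ a : G, SemiconjBy a w w⁻¹ → Commute (w ^ n) a := by
    intro a ha
    have h := ha.pow_right n
    rw [inv_pow, inv_eq_of_mul_eq_one_right hzz] at h
    exact h.eq.symm
  refine ⟨w ^ n, hzz, pow_ne_one_of_lt_orderOf (by omega) (by omega), hcomm x hxw, hcomm y hyw, ?_⟩
  rcases Nat.even_or_odd n with ⟨i, rfl⟩ | ⟨i, rfl⟩
  · exact Or.inl ⟨by simpa [two_mul] using move x hxw i, by simpa [two_mul] using move y hyw i⟩
  · refine Or.inr ⟨?_, ?_⟩
    · rw [pow_succ', ← mul_assoc, hxy]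
      exact move y hyw i
    · have hyxy : y * x * y⁻¹ = y * w := by rw [hw, hyi, mul_assoc]
      have h := (isConj_iff.2 ⟨y, hyxy⟩ : IsConj x (y * w))
      have hs : SemiconjBy (y * w) w w⁻¹ := by
        show y * w * w = w⁻¹ * (y * w)
        rw [← mul_assoc w⁻¹, ← hyw.eq]
      refine h.trans ?_
      have := move (y * w) hs i
      rwa [mul_assoc, ← pow_succ'] at this

/-- an involutory automorphism fixing only `1` inverts everything -/
theorem map_eq_inv [Finite G] (φ : G →* G) (h2 : ∀ g, φ (φ g) = g) (hfix : ∀ g, φ g = g → g = 1) (g : G) :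
    φ g = g⁻¹ := by
  have hfp : MonoidHom.FixedPointFree φ := hfix
  exact congrFun (hfp.coe_eq_inv_of_involutive h2) g

/-- then the group is abelian -/
theorem commute_of_fixedPointFree [Finite G] (φ : G →* G) (h2 : ∀ g, φ (φ g) = g) (hfix : ∀ g, φ g = g → g = 1)
    (g g' : G) : Commute g g' := by
  have e := φ.map_mul g g'
  rw [map_eq_inv φ h2 hfix, map_eq_inv φ h2 hfix, map_eq_inv φ h2 hfix, mul_inv_rev] at e
  have e' := congrArg (·⁻¹) e
  simp only [mul_inv_rev, inv_inv] at e'
  exact e'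

/-- and of odd exponent -/
theorem eq_one_of_sq [Finite G] (φ : G →* G) (h2 : ∀ g, φ (φ g) = g) (hfix : ∀ g, φ g = g → g = 1) {g : G}
    (hg : g * g = 1) : g = 1 :=
  hfix g (by rw [map_eq_inv φ h2 hfix, inv_eq_of_mul_eq_one_right hg])

end CfsgLib.MaxSub.TPow
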