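import Mathlib

/-!
The difference of the dimensions of the two eigenspaces of an involution, an exact integer.
-/

set_option autoImplicit false
set_option linter.unusedSectionVars false

namespace CfsgLib.MaxSub.TPow

open Matrix
open scoped MatrixGroups

variable {ι : Type*} [Fintype ι] [DecidableEq ι] {F : Type*} [Field F]

/-- for an involution, the dimension of the fixed space minus that of the negated one -/
noncomputable def dval (g : Matrix ι ι F) : ℤ :=
  2 * (Module.finrank F (LinearMap.ker (g - 1).mulVecLin) : ℤ) - Fintype.card ι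

/-- a sign as an integer -/
def sgnZ [DecidableEq F] (c : F) : ℤ := if c = 1 then 1 else -1

theorem dval_one : dval (1 : Matrix ι ι F) = Fintype.card ι := by
  have : ((1 : Matrix ι ι F) - 1).mulVecLin = 0 := by simp
  rw [dval, this, LinearMap.ker_zero, finrank_top, Module.finrank_fintype_fun_eq_card]
  ring

theorem dval_conj (P : GL ι F) (g : Matrix ι ι F) :
    dval ((P : Matrix ι ι F) * g * ((P⁻¹ : GL ι F) : Matrix ι ι F)) = dval g := by
  let e : (ι → F) ≃ₗ[F] (ι → F) := Matrix.GeneralLinearGroup.toLin P |>.toLinearEquiv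
  have he : ∀ x, e x = (P : Matrix ι ι F) *ᵥ x := fun x => rfl
  have key : LinearMap.ker ((P : Matrix ι ι F) * g * ((P⁻¹ : GL ι F) : Matrix ι ι F) - 1).mulVecLin =
      (LinearMap.ker (g - 1).mulVecLin).map (e : (ι → F) →ₗ[F] (ι → F)) := by
    have e1 : (P : Matrix ι ι F) * g * ((P⁻¹ : GL ι F) : Matrix ι ι F) - 1 =
        (P : Matrix ι ι F) * (g - 1) * ((P⁻¹ : GL ι F) : Matrix ι ι F) := by
      rw [mul_sub, sub_mul, mul_one, ← Units.val_mul, mul_inv_cancel, Units.val_one]
    ext x
    simp only [LinearMap.mem_ker, Matrix.mulVecLin_apply, Submodule.mem_map]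
    rw [e1, ← mulVec_mulVec, ← mulVec_mulVec]
    constructor
    · intro h
      refine ⟨((P⁻¹ : GL ι F) : Matrix ι ι F) *ᵥ x, ?_, ?_⟩
      · have := congrArg (fun v => ((P⁻¹ : GL ι F) : Matrix ι ι F) *ᵥ v) h
        simpa [mulVec_mulVec, ← Units.val_mul] using this
      · show (P : Matrix ι ι F) *ᵥ _ = x
        rw [mulVec_mulVec, ← Units.val_mul, mul_inv_cancel, Units.val_one, one_mulVec]
    · rintro ⟨y, hy, rfl⟩
      show _ *ᵥ (_ *ᵥ (_ *ᵥ ((P : Matrix ι ι F) *ᵥ y))) = 0
      rw [mulVec_mulVec y, ← Units.val_mul, inv_mul_cancel, Units.val_one, one_mulVec, hy, mulVec_zero]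
  rw [dval, dval, key, LinearEquiv.finrank_map_eq]

/-- the value of a signed permutation involution: the sum of the signs at the fixed points -/
theorem dval_signPerm [DecidableEq F] (h2 : (2 : F) ≠ 0) {π : ι → ι} (hπ : ∀ p, π (π p) = p) {s : ι → F}
    (hs1 : ∀ p, s p = 1 ∨ s p = -1) (hs : ∀ p, s (π p) = s p) :
    dval (Matrix.of fun p q => if q = π p then s p else 0) =
      ∑ p ∈ Finset.univ.filter (fun p => π p = p), sgnZ (s p) := by
  classical
  let r : ι → ℕ := fun p => Fintype.equivFin ι p
  have hr : Function.Injective r := fun a b h => (Fintype.equivFin ι).injective (Fin.ext h)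
  set M : Matrix ι ι F := Matrix.of fun p q => if q = π p then s p else 0
  have hM : ∀ x p, ((M - 1) *ᵥ x) p = s p * x (π p) - x p := fun x p => by
    rw [sub_mulVec, one_mulVec, Pi.sub_apply]
    congr 1
    simp [M, mulVec, dotProduct, ite_mul]
  set P := Finset.univ.filter (fun p => π p = p ∧ s p = 1) with hP
  set R := Finset.univ.filter (fun p => r p < r (π p)) with hR
  set R' := Finset.univ.filter (fun p => r (π p) < r p) with hR'
  set N := Finset.univ.filter (fun p => π p = p ∧ s p ≠ 1) with hN
  have hs2 : ∀ p, s p * s p = 1 := fun p => by rcases hs1 p with e | e <;> rw [e] <;> ring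
  have hdisj : Disjoint P R := Finset.disjoint_filter.2 fun p _ h1 h2' => by rw [h1.1] at h2'; omega
  have hRR : R'.card = R.card := Finset.card_bij' (fun p _ => π p) (fun p _ => π p)
    (fun p hp => by simp [hR, hR', hπ] at hp ⊢; exact hp) (fun p hp => by simp [hR, hR', hπ] at hp ⊢; exact hp)
    (fun p _ => hπ p) (fun p _ => hπ p)
  have hcases : ∀ p, π p = p ∨ r p < r (π p) ∨ r (π p) < r p := fun p => by
    rcases lt_trichotomy (r p) (r (π p)) with h | h | h
    exacts [Or.inr (Or.inl h), Or.inl (hr h).symm, Or.inr (Or.inr h)]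
  have hker : Module.finrank F (LinearMap.ker (M - 1).mulVecLin) = (P ∪ R).card := by
    let φ : LinearMap.ker (M - 1).mulVecLin →ₗ[F] ((P ∪ R : Finset ι) → F) :=
      { toFun := fun x p => (x : ι → F) p
        map_add' := fun x y => rfl
        map_smul' := fun c x => rfl }
    have hrel : ∀ x : LinearMap.ker (M - 1).mulVecLin, ∀ p, (x : ι → F) p = s p * (x : ι → F) (π p) := by
      intro x p
      have h := congrFun (LinearMap.mem_ker.1 x.2) p
      rw [Matrix.mulVecLin_apply, hM, Pi.zero_apply, sub_eq_zero] at h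
      exact h.symm
    have hφi : Function.Injective φ := (injective_iff_map_eq_zero φ).2 fun x hx => by
      have h0 : ∀ p ∈ P ∪ R, (x : ι → F) p = 0 := fun p hp => congrFun hx ⟨p, hp⟩
      refine Subtype.ext (funext fun p => ?_)
      show (x : ι → F) p = 0
      rcases hcases p with h | h | h
      · by_cases h1 : s p = 1
        · exact h0 p (by simp [hP, h, h1])
        · have e := hrel x p
          rw [h, (hs1 p).resolve_left h1, neg_one_mul, eq_neg_iff_add_eq_zero, ← two_mul] at e
          exact (mul_eq_zero.1 e).resolve_left h2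
      · exact h0 p (by simp [hR, h])
      · rw [hrel x p, h0 (π p) (by simp [hR, hπ, h]), mul_zero]
    have hφs : Function.Surjective φ := by
      intro v
      let x : ι → F := fun p => if h : p ∈ P ∪ R then v ⟨p, h⟩ else
        if h' : π p ∈ P ∪ R then s p * v ⟨π p, h'⟩ else 0
      refine ⟨⟨x, LinearMap.mem_ker.2 (funext fun p => ?_)⟩, funext fun p => dif_pos p.2⟩
      rw [Matrix.mulVecLin_apply, hM, Pi.zero_apply, sub_eq_zero]
      rcases hcases p with h | h | h
      · rw [h]
        by_cases h1 : s p = 1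
        · rw [h1, one_mul]
        · have hp : p ∉ P ∪ R := by simp [hP, hR, h, h1]
          have : x p = 0 := by simp only [x, h, dif_neg hp]
          rw [this, mul_zero]
      · have hp : p ∈ P ∪ R := by simp [hR, h]
        have hp' : π p ∉ P ∪ R := by
          simp only [hP, hR, Finset.mem_union, Finset.mem_filter, Finset.mem_univ, true_and, hπ, not_or]
          exact ⟨fun e => by rw [← e.1] at h; omega, by omega⟩
        simp only [x, dif_pos hp, dif_neg hp', hπ, hs]
        rw [← mul_assoc, hs2, one_mul]
      · have hp : p ∉ P ∪ R := by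
          simp only [hP, hR, Finset.mem_union, Finset.mem_filter, Finset.mem_univ, true_and, not_or]
          exact ⟨fun e => by rw [e.1] at h; omega, by omega⟩
        have hp' : π p ∈ P ∪ R := by simp [hR, hπ, h]
        simp only [x, dif_neg hp, dif_pos hp']
    rw [(LinearEquiv.ofBijective φ ⟨hφi, hφs⟩).finrank_eq, Module.finrank_fintype_fun_eq_card, Fintype.card_coe]
  have htotal : (P.card + N.card) + (R.card + R'.card) = Fintype.card ι := by
    have e1 : P.card + N.card = (Finset.univ.filter fun p => π p = p).card := by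
      rw [← Finset.card_filter_add_card_filter_not (s := Finset.univ.filter fun p => π p = p)
        (fun p => s p = 1), Finset.filter_filter, Finset.filter_filter]
    have e2 : R.card + R'.card = (Finset.univ.filter fun p => ¬ π p = p).card := by
      rw [← Finset.card_union_of_disjoint]
      · congr 1
        ext p
        simp only [hR, hR', Finset.mem_union, Finset.mem_filter, Finset.mem_univ, true_and]
        constructor
        · rintro (h | h) e <;> rw [e] at h <;> omega
        · intro h; exact (hcases p).resolve_left h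
      · exact Finset.disjoint_filter.2 fun p _ h1 h2' => by omega
    rw [e1, e2, Finset.card_filter_add_card_filter_not, Finset.card_univ]
  have eP : ∑ p ∈ P, sgnZ (s p) = (P.card : ℤ) := by
    rw [Finset.sum_congr rfl (g := fun _ => (1 : ℤ)) (fun p hp => by
      simp only [hP, Finset.mem_filter] at hp; simp [sgnZ, hp.2.2])]
    simp
  have eN : ∑ p ∈ N, sgnZ (s p) = -(N.card : ℤ) := by
    rw [Finset.sum_congr rfl (g := fun _ => (-1 : ℤ)) (fun p hp => by
      simp only [hN, Finset.mem_filter] at hp; simp [sgnZ, hp.2.2])]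
    simp
  rw [dval, hker, Finset.card_union_of_disjoint hdisj,
    ← Finset.sum_filter_add_sum_filter_not (Finset.univ.filter fun p => π p = p) (fun p => s p = 1),
    Finset.filter_filter, Finset.filter_filter]
  rw [show (Finset.univ.filter fun p => π p = p ∧ ¬ s p = 1) = N from rfl, ← hP, eP, eN, ← htotal, hRR]
  push_cast
  ring

/-- the value of a diagonal involution -/
theorem dval_diag [DecidableEq F] (h2 : (2 : F) ≠ 0) {s : ι → F} (hs1 : ∀ p, s p = 1 ∨ s p = -1) :
    dval (diagonal s) = ∑ p, sgnZ (s p) := by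
  have e : diagonal s = Matrix.of fun p q => if q = id p then s p else 0 := by
    ext p q
    rcases eq_or_ne p q with rfl | h
    · simp
    · simp [h, Ne.symm h]
  rw [e, dval_signPerm h2 (π := id) (fun _ => rfl) hs1 (fun _ => rfl)]
  simp

/-- an involution is conjugate to a diagonal one -/
theorem exists_diag (h2 : (2 : F) ≠ 0) {g : Matrix ι ι F} (hg : g * g = 1) :
    ∃ (P : GL ι F) (s : ι → F), (∀ p, s p = 1 ∨ s p = -1) ∧
      g = (P : Matrix ι ι F) * diagonal s * ((P⁻¹ : GL ι F) : Matrix ι ι F) := by
  classical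
  let Kp := LinearMap.ker (g - 1).mulVecLin
  let Km := LinearMap.ker (g + 1).mulVecLin
  have hp : ∀ x, x ∈ Kp ↔ g *ᵥ x = x := fun x => by
    simp [Kp, sub_mulVec, sub_eq_zero]
  have hm : ∀ x, x ∈ Km ↔ g *ᵥ x = -x := fun x => by
    simp [Km, add_mulVec, add_eq_zero_iff_eq_neg]
  have hcompl : IsCompl Kp Km := by
    refine IsCompl.of_eq ?_ ?_
    · rw [Submodule.eq_bot_iff]
      intro x hx
      have e := (hp x).1 hx.1
      rw [(hm x).1 hx.2, neg_eq_iff_add_eq_zero, ← two_smul F] at e
      exact (smul_eq_zero.1 e).resolve_left h2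
    · refine eq_top_iff.2 fun x _ => ?_
      have e : x = (2 : F)⁻¹ • (x + g *ᵥ x) + (2 : F)⁻¹ • (x - g *ᵥ x) := by
        rw [← smul_add, add_add_sub_cancel, ← two_smul F, inv_smul_smul₀ h2]
      rw [e]
      refine Submodule.add_mem_sup (Submodule.smul_mem _ _ ((hp _).2 ?_)) (Submodule.smul_mem _ _ ((hm _).2 ?_))
      · rw [mulVec_add, mulVec_mulVec, hg, one_mulVec, add_comm]
      · rw [mulVec_sub, mulVec_mulVec, hg, one_mulVec, neg_sub]
  let b0 : Module.Basis _ F (ι → F) :=
    ((Module.finBasis F Kp).prod (Module.finBasis F Km)).map (Submodule.prodEquivOfIsCompl Kp Km hcompl)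
  let b : Module.Basis ι F (ι → F) := b0.reindex
    (Fintype.equivOfCardEq (by rw [← Module.finrank_eq_card_basis b0, Module.finrank_fintype_fun_eq_card]))
  have hb : ∀ p, ∃ c : F, (c = 1 ∨ c = -1) ∧ g *ᵥ b p = c • b p := by
    intro p
    simp only [b, Module.Basis.reindex_apply, b0, Module.Basis.map_apply]
    rcases (Fintype.equivOfCardEq _).symm p with i | i
    · exact ⟨1, Or.inl rfl, by rw [one_smul, ← hp]; simp⟩
    · exact ⟨-1, Or.inr rfl, by rw [neg_smul, one_smul, ← hm]; simp⟩
  choose c hc hgb using hb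
  let B : Matrix ι ι F := Matrix.of fun i p => b p i
  have hB : IsUnit B := by
    refine Matrix.linearIndependent_cols_iff_isUnit.1 ?_
    exact b.linearIndependent
  have hgB : g * B = B * diagonal c := by
    ext i p
    rw [mul_diagonal]
    have h := congrFun (hgb p) i
    simp only [mulVec, dotProduct, Pi.smul_apply, smul_eq_mul] at h
    show ∑ j, g i j * B j p = B i p * c p
    simpa [B, mul_comm] using h
  refine ⟨hB.unit, c, hc, ?_⟩
  rw [IsUnit.unit_spec, ← hgB, mul_assoc]
  conv_lhs => rw [← mul_one g, ← Units.val_one, ← mul_inv_cancel hB.unit, Units.val_mul, IsUnit.unit_spec]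

end CfsgLib.MaxSub.TPow
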