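import Cfsg.Agent.Lib.MaxSub.TPow.Single
import Cfsg.Agent.Lib.MaxSub.TPow.Dih

/-!
The dihedral step inside a subgroup; values of products of axial elements of one or two slots.
-/

set_option autoImplicit false
set_option linter.unusedSectionVars false
set_option linter.style.haveILetI false

namespace CfsgLib.MaxSub.TPow

open Matrix CfsgLib.Aschbacher
open CfsgLib.Aschbacher.Orth (pureMat_transpose permMat_mul_permMat permMat_one permMat_transpose)
open scoped MatrixGroups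

variable {t k : ℕ} {F : Type*} [Field F] [Fintype F] [h2 : Fact ((2 : F) ≠ 0)]

/-- the induction hypothesis -/
def IHyp (S : Fin t → Finset (Fin k)) (F : Type*) [Field F] [Fintype F] : Prop :=
  ∀ (M' : Subgroup (GL (Fin t → Fin k) F)) (S' : Fin t → Finset (Fin k)), Good M' → meas S' < meas S →
    L M' S' ≤ Cfsg.Geo.tensorWreathStandard k t F

/-- conjugacy inside a subgroup -/
def ConjIn (G : Subgroup (GL (Fin t → Fin k) F)) (x y : GL (Fin t → Fin k) F) : Prop := ∃ g ∈ G, g * x * g⁻¹ = y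

theorem conjIn_of_isConj {G : Subgroup (GL (Fin t → Fin k) F)} {x y : G} (h : IsConj x y) :
    ConjIn G (x : GL (Fin t → Fin k) F) y := by
  obtain ⟨c, hc⟩ := isConj_iff.1 h
  exact ⟨c, c.2, congrArg Subtype.val hc⟩

theorem ConjIn.trans {G : Subgroup (GL (Fin t → Fin k) F)} {x y z : GL (Fin t → Fin k) F}
    (h : ConjIn G x y) (h' : ConjIn G y z) : ConjIn G x z := by
  obtain ⟨g, hg, rfl⟩ := h
  obtain ⟨g', hg', rfl⟩ := h'
  exact ⟨g' * g, mul_mem hg' hg, by group⟩

theorem ConjIn.symm {G : Subgroup (GL (Fin t → Fin k) F)} {x y : GL (Fin t → Fin k) F} (h : ConjIn G x y) :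
    ConjIn G y x := by
  obtain ⟨g, hg, rfl⟩ := h
  exact ⟨g⁻¹, inv_mem hg, by group⟩

theorem ConjIn.mono {G H : Subgroup (GL (Fin t → Fin k) F)} (hGH : G ≤ H) {x y : GL (Fin t → Fin k) F}
    (h : ConjIn G x y) : ConjIn H x y :=
  h.imp fun _ hg => ⟨hGH hg.1, hg.2⟩

theorem ConjIn.mem {G : Subgroup (GL (Fin t → Fin k) F)} {x y : GL (Fin t → Fin k) F} (h : ConjIn G x y)
    (hx : x ∈ G) : y ∈ G := by
  obtain ⟨g, hg, rfl⟩ := h
  exact mul_mem (mul_mem hg hx) (inv_mem hg)

theorem ConjIn.sq {G : Subgroup (GL (Fin t → Fin k) F)} {x y : GL (Fin t → Fin k) F} (h : ConjIn G x y)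
    (hx : x * x = 1) : y * y = 1 := by
  obtain ⟨g, -, rfl⟩ := h
  calc g * x * g⁻¹ * (g * x * g⁻¹) = g * (x * x) * g⁻¹ := by group
    _ = 1 := by rw [hx]; group

theorem ConjIn.dval_eq {G : Subgroup (GL (Fin t → Fin k) F)} {x y c : GL (Fin t → Fin k) F} (h : ConjIn G x y)
    (hc : ∀ g ∈ G, Commute g c) :
    dval ((y * c : GL (Fin t → Fin k) F) : Matrix (Fin t → Fin k) (Fin t → Fin k) F) =
      dval ((x * c : GL (Fin t → Fin k) F) : Matrix (Fin t → Fin k) (Fin t → Fin k) F) := by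
  obtain ⟨g, hg, rfl⟩ := h
  exact dval_conj_mul (hc g hg)

theorem ConjIn.dval_eq' {G : Subgroup (GL (Fin t → Fin k) F)} {x y : GL (Fin t → Fin k) F} (h : ConjIn G x y) :
    dval (y : Matrix (Fin t → Fin k) (Fin t → Fin k) F) = dval (x : Matrix (Fin t → Fin k) (Fin t → Fin k) F) := by
  simpa using h.dval_eq (c := 1) fun g _ => Commute.one_right g

/-- the dihedral step: every conjugate of `y` lies in the wreath subgroup -/
theorem engine {G : Subgroup (GL (Fin t → Fin k) F)} {x y : GL (Fin t → Fin k) F} (hx : x ∈ G) (hy : y ∈ G)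
    (hx2 : x * x = 1) (hy2 : y * y = 1) (hne : ¬ ConjIn G x y) (hxW : x ∈ Cfsg.Geo.tensorWreathStandard k t F)
    (hcx : ∀ g ∈ G, Commute g x → g ∈ Cfsg.Geo.tensorWreathStandard k t F)
    (hstep : ∀ y' n, ConjIn G y y' → n ∈ G → n ∈ Cfsg.Geo.tensorWreathStandard k t F → n * n = 1 → n ≠ x →
      Commute n x → Commute y' (x * n) →
      ((ConjIn G x n ∧ ConjIn G y' (y' * (x * n))) ∨ (ConjIn G y n ∧ ConjIn G x (y' * (x * n)))) →
      y' ∈ Cfsg.Geo.tensorWreathStandard k t F)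
    {g : GL (Fin t → Fin k) F} (hg : g ∈ G) : g * y * g⁻¹ ∈ Cfsg.Geo.tensorWreathStandard k t F := by
  set y' := g * y * g⁻¹
  have hyy' : ConjIn G y y' := ⟨g, hg, rfl⟩
  have hne' : ¬ IsConj (⟨x, hx⟩ : G) ⟨y', hyy'.mem hy⟩ := fun h =>
    hne ((conjIn_of_isConj h).trans hyy'.symm)
  obtain ⟨z, hz2, hz1, hzx, hzy, hcase⟩ := dihedral (x := (⟨x, hx⟩ : G)) (y := ⟨y', hyy'.mem hy⟩)
    (Subtype.ext hx2) (Subtype.ext (hyy'.sq hy2)) hne'
  have hzx' : Commute (z : GL (Fin t → Fin k) F) x := congrArg Subtype.val hzx.eq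
  have hzy' : Commute (z : GL (Fin t → Fin k) F) y' := congrArg Subtype.val hzy.eq
  have hz2' : (z : GL (Fin t → Fin k) F) * z = 1 := congrArg Subtype.val hz2
  have e : x * (x * (z : GL (Fin t → Fin k) F)) = z := by rw [← mul_assoc, hx2, one_mul]
  refine hstep y' (x * z) hyy' (mul_mem hx z.2) (mul_mem hxW (hcx _ z.2 hzx')) ?_ (fun h => hz1 (Subtype.ext ?_))
    ((Commute.refl x).mul_left hzx') (by rw [e]; exact hzy'.symm) ?_
  · rw [hzx'.mul_mul_mul_comm, hx2, one_mul]; exact hz2'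
  · calc (z : GL (Fin t → Fin k) F) = x * (x * z) := e.symm
      _ = 1 := by rw [h, hx2]
  · rw [e]
    rcases hcase with ⟨h1, h2'⟩ | ⟨h1, h2'⟩
    · exact Or.inl ⟨conjIn_of_isConj h1, conjIn_of_isConj h2'⟩
    · exact Or.inr ⟨hyy'.trans (conjIn_of_isConj h1), conjIn_of_isConj h2'⟩

/-- the pure element acting by `X` in slot `i` -/
def InSlot (n : GL (Fin t → Fin k) F) (i : Fin t) (X : Matrix (Fin k) (Fin k) F) : Prop :=
  Shape n 1 1 (Function.update (fun _ => 1) i X)

theorem inSlot_A (hk : Odd k) (i : Fin t) {a : Fin k → F} (ha : a ⬝ᵥ a ≠ 0) : InSlot (A i a) i (ax a) :=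
  shape_A hk i ha

theorem InSlot.mul {n n' : GL (Fin t → Fin k) F} {i : Fin t} {X Y : Matrix (Fin k) (Fin k) F}
    (h : InSlot n i X) (h' : InSlot n' i Y) : InSlot (n * n') i (X * Y) := by
  have e := Shape.mul h h'
  simp only [one_mul, Equiv.Perm.coe_one, id_eq] at e
  unfold InSlot
  convert e using 1
  funext j
  rcases eq_or_ne j i with rfl | hj
  · simp
  · simp [hj]

theorem InSlot.dval (hk : Odd k) (hk2 : 2 ≤ k) {n : GL (Fin t → Fin k) F} {i : Fin t}
    {X : Matrix (Fin k) (Fin k) F} (h : InSlot n i X) (hn : n * n = 1) :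
    TPow.dval (n : Matrix (Fin t → Fin k) (Fin t → Fin k) F) * (k : ℤ) = (k : ℤ) ^ t * TPow.dval X := by
  have h' := dval_pure_on h2.out hk hk2 h hn {i} fun j hj =>
    Function.update_of_ne (fun e => hj (Finset.mem_singleton.2 e)) _ _
  rwa [Finset.card_singleton, pow_one, Finset.prod_singleton, Function.update_self] at h'

theorem InSlot.dval_two (hk : Odd k) (hk2 : 2 ≤ k) {n n' : GL (Fin t → Fin k) F} {i j : Fin t} (hij : i ≠ j)
    {X Y : Matrix (Fin k) (Fin k) F} (h : InSlot n i X) (h' : InSlot n' j Y) (hnn : n * n' * (n * n') = 1) :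
    TPow.dval ((n * n' : GL (Fin t → Fin k) F) : Matrix (Fin t → Fin k) (Fin t → Fin k) F) * ((k : ℤ) * k) =
      (k : ℤ) ^ t * (TPow.dval X * TPow.dval Y) := by
  have e := Shape.mul h h'
  simp only [one_mul, Equiv.Perm.coe_one, id_eq] at e
  have h2' := dval_pure_on h2.out hk hk2 e hnn {i, j} fun l hl => by
    simp only [Finset.mem_insert, Finset.mem_singleton, not_or] at hl
    rw [Function.update_of_ne hl.1, Function.update_of_ne hl.2, Matrix.one_mul]
  rwa [Finset.card_pair hij, sq, Finset.prod_pair hij, Function.update_self, Function.update_of_ne hij,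
    Function.update_of_ne hij.symm, Function.update_self, Matrix.one_mul, Matrix.mul_one] at h2'

theorem eC_diag (x : Fin k) :
    ax (eC x : Fin k → F) = diagonal fun c => if c = x then (1 : F) else -1 := ax_single x

/-- two coordinate axes -/
theorem dval_ax_pair {x y : Fin k} (hxy : x ≠ y) :
    dval (ax (eC x : Fin k → F) * ax (eC y)) = (k : ℤ) - 4 := by
  classical
  have h1 : (-1 : F) ≠ 1 := fun e => h2.out (by linear_combination -e)
  rw [eC_diag, eC_diag, diagonal_mul_diagonal, dval_diag h2.out (fun c => by split_ifs <;> simp), Finset.sum_congr rfl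
    (g := fun c => 1 - 2 * (if c ∈ ({x, y} : Finset (Fin k)) then (1 : ℤ) else 0)) (fun c _ => by
      by_cases hc : c = x <;> by_cases hc' : c = y <;> simp_all [sgnZ]),
    Finset.sum_sub_distrib, ← Finset.mul_sum, Finset.sum_boole, Finset.filter_mem_eq_inter, Finset.univ_inter,
    Finset.card_pair hxy]
  simp

/-- three coordinate axes -/
theorem dval_ax_triple {x y w : Fin k} (hxy : x ≠ y) (hxw : x ≠ w) (hyw : y ≠ w) :
    dval (ax (eC w : Fin k → F) * (ax (eC x) * ax (eC y))) = 6 - (k : ℤ) := by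
  classical
  have h1 : (-1 : F) ≠ 1 := fun e => h2.out (by linear_combination -e)
  rw [eC_diag, eC_diag, eC_diag, diagonal_mul_diagonal, diagonal_mul_diagonal, dval_diag h2.out (fun c => by
    split_ifs <;> simp),
    Finset.sum_congr rfl
      (g := fun c => 2 * (if c ∈ ({x, y, w} : Finset (Fin k)) then (1 : ℤ) else 0) - 1) (fun c _ => by
      by_cases hc : c = x <;> by_cases hc' : c = y <;> by_cases hc'' : c = w <;> simp_all [sgnZ]),
    Finset.sum_sub_distrib, ← Finset.mul_sum, Finset.sum_boole, Finset.filter_mem_eq_inter, Finset.univ_inter,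
    Finset.card_eq_three.2 ⟨x, y, w, hxy, hxw, hyw, rfl⟩]
  simp

/-- the projection on a line -/
theorem proj_mul {u v : Fin k → F} :
    ((u ⬝ᵥ u)⁻¹ • vecMulVec u u) * ((v ⬝ᵥ v)⁻¹ • vecMulVec v v) =
      ((u ⬝ᵥ u)⁻¹ * (v ⬝ᵥ v)⁻¹ * (u ⬝ᵥ v)) • vecMulVec u v := by
  ext r s
  simp [Matrix.mul_apply, vecMulVec_apply, dotProduct, Finset.mul_sum, Finset.sum_mul]
  refine Finset.sum_congr rfl fun c _ => ?_
  ring

theorem ax_eq_proj (u : Fin k → F) : ax u = (2 : F) • ((u ⬝ᵥ u)⁻¹ • vecMulVec u u) - 1 := by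
  rw [ax, smul_smul, div_eq_mul_inv]

theorem pair_identity {a b v : Fin k → F} (ha : a ⬝ᵥ a ≠ 0) (hab : a ⬝ᵥ b = 0) (hav : a ⬝ᵥ v = 0)
    (hbv : b ⬝ᵥ v = 0) : (1 - ax a * ax b) * (1 - ax a * ax v) = (2 : F) • (ax a + 1) := by
  set P := (a ⬝ᵥ a)⁻¹ • vecMulVec a a
  set Q := (b ⬝ᵥ b)⁻¹ • vecMulVec b b
  set R := (v ⬝ᵥ v)⁻¹ • vecMulVec v v
  have hPP : P * P = P := by
    rw [proj_mul, mul_assoc, inv_mul_cancel₀ ha, mul_one]
  have hPQ : P * Q = 0 := by rw [proj_mul, hab, mul_zero, zero_smul]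
  have hPR : P * R = 0 := by rw [proj_mul, hav, mul_zero, zero_smul]
  have hQR : Q * R = 0 := by rw [proj_mul, hbv, mul_zero, zero_smul]
  have hQP : Q * P = 0 := by rw [proj_mul, dotProduct_comm b a, hab, mul_zero, zero_smul]
  have e1 : ∀ T : Matrix (Fin k) (Fin k) F, P * T = 0 →
      1 - ((2 : F) • P - 1) * ((2 : F) • T - 1) = (2 : F) • P + (2 : F) • T := by
    intro T hT
    simp only [Matrix.sub_mul, Matrix.mul_sub, Matrix.smul_mul, Matrix.mul_smul, hT, smul_zero, Matrix.one_mul,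
      Matrix.mul_one]
    module
  rw [ax_eq_proj a, ax_eq_proj b, ax_eq_proj v, e1 Q hPQ, e1 R hPR, sub_add_cancel]
  simp only [Matrix.add_mul, Matrix.mul_add, Matrix.smul_mul, Matrix.mul_smul, hPP, hPR, hQP, hQR, smul_zero,
    add_zero]
  rfl

theorem slot_add (i : Fin t) (x y : Matrix (Fin k) (Fin k) F) : slot i (x + y) = slot i x + slot i y := by
  ext p q
  rw [Matrix.add_apply, slot_smul_apply, slot_smul_apply, slot_smul_apply]
  split <;> simp

theorem slot_smul' (i : Fin t) (c : F) (x : Matrix (Fin k) (Fin k) F) : slot i (c • x) = c • slot i x := by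
  ext p q
  rw [Matrix.smul_apply, slot_smul_apply, slot_smul_apply]
  split <;> simp

/-- two pairs with a common axis determine it -/
theorem comm_of_pairs (i : Fin t) {a b v : Fin k → F} (ha : a ⬝ᵥ a ≠ 0) (hb : b ⬝ᵥ b ≠ 0) (hv : v ⬝ᵥ v ≠ 0)
    (hab : a ⬝ᵥ b = 0) (hav : a ⬝ᵥ v = 0) (hbv : b ⬝ᵥ v = 0) {g : GL (Fin t → Fin k) F}
    (h1 : Commute g (A i a * A i b)) (h2' : Commute g (A i a * A i v)) : Commute g (A i a) := by
  have hh : (2 : F) ≠ 0 := h2.out
  have c1 : Commute (g : Matrix (Fin t → Fin k) (Fin t → Fin k) F) (slot i (ax a * ax b)) := by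
    have := congrArg Units.val h1.eq
    simpa [Units.val_mul, A_val i ha, A_val i hb, map_mul, commute_iff_eq] using this
  have c2 : Commute (g : Matrix (Fin t → Fin k) (Fin t → Fin k) F) (slot i (ax a * ax v)) := by
    have := congrArg Units.val h2'.eq
    simpa [Units.val_mul, A_val i ha, A_val i hv, map_mul, commute_iff_eq] using this
  have hsub : ∀ X : Matrix (Fin k) (Fin k) F, slot i (1 - X) = 1 - slot i X := fun X => by
    rw [sub_eq_add_neg, slot_add, slot_neg, map_one, ← sub_eq_add_neg]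
  have e : slot i (ax a) = (2 : F)⁻¹ • ((1 - slot i (ax a * ax b)) * (1 - slot i (ax a * ax v))) - 1 := by
    rw [← hsub, ← hsub, ← map_mul, pair_identity ha hab hav hbv, slot_smul', smul_smul, inv_mul_cancel₀ hh,
      one_smul, slot_add, map_one, add_sub_cancel_right]
  refine Units.ext ?_
  rw [Units.val_mul, Units.val_mul, A_val i ha, e]
  exact (((((Commute.one_right _).sub_right c1).mul_right ((Commute.one_right _).sub_right c2)).smul_right _).sub_right
    (Commute.one_right _)).eq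

end CfsgLib.MaxSub.TPow
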