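import Cfsg.Agent.Lib.MaxSub.TPow.Cross

/-!
Products of an axial element with an exchange of two three-dimensional factors; the general dihedral step
for an axial element with three free coordinates in its slot.
-/

set_option autoImplicit false
set_option linter.unusedSectionVars false
set_option linter.style.haveILetI false

namespace CfsgLib.MaxSub.TPow

open Matrix CfsgLib.Aschbacher
open scoped MatrixGroups

variable {t k : ℕ} {F : Type*} [Field F] [Fintype F] [h2 : Fact ((2 : F) ≠ 0)]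
variable {M : Subgroup (GL (Fin t → Fin k) F)} {S : Fin t → Finset (Fin k)}

theorem negP_comm_A (hk : Odd k) {n : GL (Fin t → Fin k) F} {u v l : Fin t}
    {b : Fin t → Matrix (Fin k) (Fin k) F} (hn : Shape n (-1) (Equiv.swap u v) b)
    (hfix : ∀ m, m ≠ u → m ≠ v → b m = 1) (hlu : l ≠ u) (hlv : l ≠ v) {w : Fin k → F} (hw : w ⬝ᵥ w ≠ 0) :
    Commute n (A l w) := by
  refine Units.ext ?_
  have h1 := hn.mul (shape_A hk l hw)
  have h2' := (shape_A hk l hw).mul hn
  rw [h1.2.2, h2'.2.2]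
  simp only [mul_one, one_mul, Equiv.Perm.coe_one, id_eq]
  congr 2
  congr 1
  funext i
  rcases eq_or_ne i u with rfl | hiu
  · rw [Equiv.swap_apply_left, Function.update_of_ne hlu.symm, Function.update_of_ne hlv.symm, Matrix.mul_one,
      Matrix.one_mul]
  rcases eq_or_ne i v with rfl | hiv
  · rw [Equiv.swap_apply_right, Function.update_of_ne hlv.symm, Function.update_of_ne hlu.symm, Matrix.mul_one,
      Matrix.one_mul]
  rw [Equiv.swap_apply_of_ne_of_ne hiu hiv, hfix i hiu hiv, Matrix.one_mul, Matrix.mul_one]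

theorem swap_swap_cases {u v a b : Fin t} (huv : u ≠ v) (hab : a ≠ b)
    (h : ∀ i, (Equiv.swap a b * Equiv.swap u v) ((Equiv.swap a b * Equiv.swap u v) i) = i) :
    ((a = u ∧ b = v) ∨ (a = v ∧ b = u)) ∨ (a ≠ u ∧ a ≠ v ∧ b ≠ u ∧ b ≠ v) := by
  have hu := h u
  simp only [Equiv.Perm.mul_apply, Equiv.swap_apply_def] at hu
  grind

theorem swap_swap_fixed {u v a b : Fin t} (huv : u ≠ v) (hab : a ≠ b) (hau : a ≠ u) (hav : a ≠ v) (hbu : b ≠ u)
    (hbv : b ≠ v) {m : Fin t} (hm : (Equiv.swap a b * Equiv.swap u v) m = m) :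
    m ≠ a ∧ m ≠ b ∧ m ≠ u ∧ m ≠ v := by
  refine ⟨?_, ?_, ?_, ?_⟩ <;> rintro rfl
  · rw [Equiv.Perm.mul_apply, Equiv.swap_apply_of_ne_of_ne hau hav, Equiv.swap_apply_left] at hm
    exact hab hm.symm
  · rw [Equiv.Perm.mul_apply, Equiv.swap_apply_of_ne_of_ne hbu hbv, Equiv.swap_apply_right] at hm
    exact hab hm
  · rw [Equiv.Perm.mul_apply, Equiv.swap_apply_left, Equiv.swap_apply_of_ne_of_ne hav.symm hbv.symm] at hm
    exact huv hm.symm
  · rw [Equiv.Perm.mul_apply, Equiv.swap_apply_right, Equiv.swap_apply_of_ne_of_ne hau.symm hbu.symm] at hm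
    exact huv hm

/-- the product of two exchanges and an axial element in a third slot -/
theorem negP_pair (hk : Odd k) (h3 : k = 3) {n1 n0 : GL (Fin t → Fin k) F} {u v a b l : Fin t} (huv : u ≠ v)
    (hab : a ≠ b) {b0 b1 : Fin t → Matrix (Fin k) (Fin k) F} (hn0 : Shape n0 (-1) (Equiv.swap u v) b0)
    (hfix0 : ∀ m, m ≠ u → m ≠ v → b0 m = 1) (hn1 : Shape n1 (-1) (Equiv.swap a b) b1)
    (hfix1 : ∀ m, m ≠ a → m ≠ b → b1 m = 1) (hlu : l ≠ u) (hlv : l ≠ v) {f : Fin k → F} (hf : f ⬝ᵥ f ≠ 0)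
    (h02 : n0 * n0 = 1) (h12 : n1 * n1 = 1) (hnz : n1 * (n0 * A l f) * (n1 * (n0 * A l f)) = 1) :
    n1 * (n0 * A l f) = A l f ∨ ∃ w, 3 ≤ w ∧ (dval ((n1 * (n0 * A l f) : GL (Fin t → Fin k) F) :
      Matrix (Fin t → Fin k) (Fin t → Fin k) F)).natAbs * k ^ w = k ^ t := by
  classical
  have hk2 : 2 ≤ k := by omega
  have hne1 : ∀ {h : Fin k → F}, ax h ≠ (1 : Matrix (Fin k) (Fin k) F) := fun {h} =>
    ax_ne_one h2.out (by rw [Fintype.card_fin]; omega) h
  have hs := hn1.mul (hn0.mul (shape_A hk l hf))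
  obtain ⟨hσ, he⟩ := hs.invol hk hk2 hnz
  simp only [mul_one, Equiv.Perm.coe_one, id_eq] at hσ he
  have hb0 := (hn0.invol hk hk2 h02).2
  have hb1 := (hn1.invol hk hk2 h12).2
  simp only [mul_one, Equiv.Perm.coe_one, id_eq] at hs
  set e : Fin t → Matrix (Fin k) (Fin k) F :=
    fun i => b1 (Equiv.swap u v i) * (b0 i * Function.update (fun _ => (1 : Matrix (Fin k) (Fin k) F)) l (ax f) i) with he'
  have hel : l ≠ a → l ≠ b → e l = ax f := fun h h' => by
    simp only [he', Equiv.swap_apply_of_ne_of_ne hlu hlv, hfix1 l h h', hfix0 l hlu hlv, Function.update_self,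
      Matrix.one_mul]
  have habs := congrArg Int.natAbs (dval_shape_nt hk hk2 hs hnz)
  rw [Int.natAbs_mul, Int.natAbs_mul, Int.natAbs_mul, Int.natAbs_pow, Int.natAbs_pow, Int.natAbs_natCast,
    show (∏ i ∈ nt (Equiv.swap a b * Equiv.swap u v) e, dval (e i)).natAbs =
      ∏ i ∈ nt (Equiv.swap a b * Equiv.swap u v) e, (dval (e i)).natAbs from map_prod Int.natAbsHom _ _,
    Finset.prod_eq_one fun i hi => by
      obtain ⟨hfx, hne⟩ := mem_nt.1 hi
      refine natAbs_so_three h3 (hs.2.1 i) ?_ hne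
      have := he i
      rw [hfx] at this
      exact this, mul_one] at habs
  have habs' : (dval ((n1 * (n0 * A l f) : GL (Fin t → Fin k) F) :
      Matrix (Fin t → Fin k) (Fin t → Fin k) F)).natAbs *
      k ^ (cyc (Equiv.swap a b * Equiv.swap u v) + (nt (Equiv.swap a b * Equiv.swap u v) e).card) = k ^ t := by
    rw [habs]
    split <;> simp
  rcases swap_swap_cases huv hab hσ with hsame | ⟨hau, hav, hbu, hbv⟩
  · have hσ1 : Equiv.swap a b * Equiv.swap u v = 1 := by
      rcases hsame with ⟨rfl, rfl⟩ | ⟨rfl, rfl⟩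
      · exact Equiv.swap_mul_self _ _
      · rw [Equiv.swap_comm a b]; exact Equiv.swap_mul_self _ _
    have hla : l ≠ a ∧ l ≠ b := by
      rcases hsame with ⟨rfl, rfl⟩ | ⟨rfl, rfl⟩
      exacts [⟨hlu, hlv⟩, ⟨hlv, hlu⟩]
    rw [hσ1, show cyc (1 : Equiv.Perm (Fin t)) = 0 by simp [cyc], Nat.zero_add] at habs'
    have hfix1' : ∀ m, m ≠ u → m ≠ v → b1 m = 1 := fun m hmu hmv => by
      rcases hsame with ⟨rfl, rfl⟩ | ⟨rfl, rfl⟩
      exacts [hfix1 m hmu hmv, hfix1 m hmv hmu]
    have hb1v : b1 v * b1 u = 1 ∧ b1 u * b1 v = 1 := by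
      rcases hsame with ⟨rfl, rfl⟩ | ⟨rfl, rfl⟩
      · exact ⟨by simpa using hb1 a, by simpa using hb1 b⟩
      · exact ⟨by simpa using hb1 b, by simpa using hb1 a⟩
    have hb0v : b0 v * b0 u = 1 ∧ b0 u * b0 v = 1 := ⟨by simpa using hb0 u, by simpa using hb0 v⟩
    have heu : e u = b1 v * b0 u := by simp [he', hlu.symm]
    have hev : e v = b1 u * b0 v := by simp [he', hlv.symm]
    have hother : ∀ m, m ≠ u → m ≠ v → m ≠ l → e m = 1 := fun m hmu hmv hml => by
      simp [he', Equiv.swap_apply_of_ne_of_ne hmu hmv, hfix1' m hmu hmv, hfix0 m hmu hmv, hml]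
    by_cases hu : e u = 1
    · left
      have hv : e v = 1 := by
        have h1 : b1 u = b0 u :=
          calc b1 u = b1 u * (b1 v * b0 u) := by rw [← heu, hu, Matrix.mul_one]
            _ = b0 u := by rw [← Matrix.mul_assoc, hb1v.2, Matrix.one_mul]
        rw [hev, h1, hb0v.2]
      refine Units.ext ?_
      rw [hs.2.2, (shape_A hk l hf).2.2, hσ1, show (-1 : F) * -1 = 1 by ring]
      congr 2
      congr 1
      funext m
      rcases eq_or_ne m l with rfl | hml
      · rw [Function.update_self]; exact hel hla.1 hla.2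
      rw [Function.update_of_ne hml]
      rcases eq_or_ne m u with rfl | hmu
      · exact hu
      rcases eq_or_ne m v with rfl | hmv
      · exact hv
      exact hother m hmu hmv hml
    · refine Or.inr ⟨_, ?_, habs'⟩
      have hv : e v ≠ 1 := fun hv => hu (by
        have h1 : b1 v = b0 v :=
          calc b1 v = b1 v * (b1 u * b0 v) := by rw [← hev, hv, Matrix.mul_one]
            _ = b0 v := by rw [← Matrix.mul_assoc, hb1v.1, Matrix.one_mul]
        rw [heu, h1, hb0v.1])
      have hsub : ({l, u, v} : Finset (Fin t)) ⊆ nt 1 e := fun m hm => mem_nt.2 ⟨rfl, by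
        simp only [Finset.mem_insert, Finset.mem_singleton] at hm
        rcases hm with rfl | rfl | rfl
        exacts [by rw [hel hla.1 hla.2]; exact hne1, hu, hv]⟩
      have := Finset.card_le_card hsub
      rwa [Finset.card_eq_three.2 ⟨l, u, v, hlu, hlv, huv, rfl⟩] at this
  · have hfil : ∀ m, (Equiv.swap a b * Equiv.swap u v) m = m → m ≠ a ∧ m ≠ b ∧ m ≠ u ∧ m ≠ v := fun m hm =>
      swap_swap_fixed huv hab hau hav hbu hbv hm
    have hla : l ≠ a ∧ l ≠ b := by
      have key : ∀ {p q : Fin t}, Equiv.swap a b p = q → p ≠ u → p ≠ v → q ≠ u → q ≠ v → b1 q * b1 p = 1 →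
          l = p → q ≠ p → False := by
        intro p q hp hpu hpv hqu hqv hbq hlp hqp
        have h1 := he p
        simp only [Equiv.Perm.mul_apply, Equiv.swap_apply_of_ne_of_ne hpu hpv, hp,
          Equiv.swap_apply_of_ne_of_ne hqu hqv, hfix0 q hqu hqv, hfix0 p hpu hpv, hlp, Function.update_self,
          Function.update_of_ne hqp, Matrix.one_mul, Matrix.mul_one] at h1
        rw [← Matrix.mul_assoc, hbq, Matrix.one_mul] at h1
        exact hne1 h1
      refine ⟨fun e => key (Equiv.swap_apply_left a b) hau hav hbu hbv ?_ e hab.symm,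
        fun e => key (Equiv.swap_apply_right a b) hbu hbv hau hav ?_ e hab⟩
      · simpa using hb1 a
      · simpa using hb1 b
    refine Or.inr ⟨_, ?_, habs'⟩
    have hlnt : l ∈ nt (Equiv.swap a b * Equiv.swap u v) e := mem_nt.2 ⟨by
      rw [Equiv.Perm.mul_apply, Equiv.swap_apply_of_ne_of_ne hlu hlv, Equiv.swap_apply_of_ne_of_ne hla.1 hla.2],
      by rw [hel hla.1 hla.2]; exact hne1⟩
    have h1 := Finset.card_pos.2 ⟨l, hlnt⟩
    have h2' := two_cyc hσ
    have h3' : (Finset.univ.filter fun m => (Equiv.swap a b * Equiv.swap u v) m = m).card + 4 ≤ t := by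
      have hsub : (Finset.univ.filter fun m => (Equiv.swap a b * Equiv.swap u v) m = m) ⊆
          Finset.univ \ {a, b, u, v} := fun m hm => by
        simpa using hfil m (Finset.mem_filter.1 hm).2
      have := Finset.card_le_card hsub
      have h4 : ({a, b, u, v} : Finset (Fin t)).card = 4 := by
        rw [Finset.card_insert_of_notMem (by simp [hab, hau, hav]),
          Finset.card_insert_of_notMem (by simp [hbu, hbv]), Finset.card_pair huv]
      rw [Finset.card_sdiff, Finset.inter_univ, h4, Finset.card_univ, Fintype.card_fin] at this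
      have := Finset.card_le_univ ({a, b, u, v} : Finset (Fin t))
      rw [h4, Fintype.card_fin] at this
      omega
    omega

/-- an axial element times an exchange of two other factors -/
theorem exchange (hk : Odd k) (h3 : k = 3) (hM : Good M) (IH : IHyp S F) (h2f : TwoFree S) {l : Fin t}
    (hl : (S l).card + 3 ≤ k) {f : Fin k → F} (hf : IsU S l f) {n0 : GL (Fin t → Fin k) F} {u v : Fin t}
    (huv : u ≠ v) {b : Fin t → Matrix (Fin k) (Fin k) F} (hn : Shape n0 (-1) (Equiv.swap u v) b)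
    (hfix : ∀ m, m ≠ u → m ≠ v → b m = 1) (hn2 : n0 * n0 = 1) (hlu : l ≠ u) (hlv : l ≠ v) :
    CL M S (A l f * n0) ≤ Cfsg.Geo.tensorWreathStandard k t F := by
  classical
  have hh : (2 : F) ≠ 0 := h2.out
  have hk3 : 3 ≤ k := by omega
  have hS : S l = ∅ := Finset.card_eq_zero.1 (by omega)
  have hfree : Free S l := by unfold Free; omega
  obtain ⟨f', hf', hff', -⟩ := exists_unit_perp hh hf.ne (S := ∅) (by simp) (by simp; omega)
  have hf'U : IsU S l f' := ⟨hf', fun s hs => by rw [hS] at hs; simp at hs⟩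
  set x1 : GL (Fin t → Fin k) F := A l f with hx1
  set y1 : GL (Fin t → Fin k) F := A l f' with hy1
  set z : GL (Fin t → Fin k) F := x1 * n0 with hz
  set G := CL M S z
  have hnx : Commute n0 x1 := negP_comm_A hk hn hfix hlu hlv hf.ne
  have hny : Commute n0 y1 := negP_comm_A hk hn hfix hlu hlv hf'U.ne
  have hxy : Commute x1 y1 := A_comm_orth l hf.ne hf'U.ne hff'
  have hxG : x1 ∈ G := mem_CL.2 ⟨A_mem_L hk hM hf, (Commute.refl x1).mul_right hnx.symm⟩
  have hyG : y1 ∈ G := mem_CL.2 ⟨A_mem_L hk hM hf'U, hxy.symm.mul_right hny.symm⟩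
  have hGz : ∀ g ∈ G, Commute g z := fun g hg => (mem_CL.1 hg).2
  have hx2 : x1 * x1 = 1 := A_mul_self l f
  have hy2 : y1 * y1 = 1 := A_mul_self l f'
  have hz2 : z * z = 1 := by rw [hz, hnx.mul_mul_mul_comm, hx2, hn2, one_mul]
  have hxz : x1 * z = n0 := by rw [hz, ← mul_assoc, hx2, one_mul]
  -- weights
  have wx : (dval ((x1 * z : GL (Fin t → Fin k) F) : Matrix (Fin t → Fin k) (Fin t → Fin k) F)).natAbs * k ^ 1 =
      k ^ t := by
    have := (wt_negP_mul hk h3 huv hn hfix shape_one hn2 (one_mul 1) (Commute.one_right n0) (J := ∅)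
      (by simp)).2
    rw [mul_one] at this
    rw [hxz]
    simpa using this
  have hpne : ax f' * ax f ≠ 1 := fun e => ne_of_orth hh hf'U.ne (by rw [dotProduct_comm]; exact hff') (by
    have := congrArg (· * ax f) e
    simpa [Matrix.mul_assoc, ax_mul_self hf.ne] using this)
  have wy : (dval ((y1 * z : GL (Fin t → Fin k) F) : Matrix (Fin t → Fin k) (Fin t → Fin k) F)).natAbs * k ^ 2 =
      k ^ t := by
    have e : y1 * z = n0 * (y1 * x1) := by rw [hz, ← mul_assoc]; exact (hny.mul_right hnx).eq.symm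
    obtain ⟨-, h⟩ := wt_negP_mul hk h3 huv hn hfix ((inSlot_A hk l hf'U.ne).mul (inSlot_A hk l hf.ne)) hn2
      (by rw [← hx1, ← hy1, hxy.mul_mul_mul_comm, hx2, hy2, one_mul]) (hny.mul_right hnx) (J := {l}) (fun m => by
        rw [Finset.mem_singleton]
        rcases eq_or_ne m l with rfl | hm
        · simp [hpne]
        · simp [hm])
    rw [show ({l} : Finset (Fin t)) \ {u, v} = {l} from Finset.sdiff_eq_self_of_disjoint (by simp [hlu, hlv]),
      Finset.card_singleton] at h
    rw [e]; exact h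
  have hne : ¬ ConjIn G x1 y1 := by
    intro h
    have := wy
    rw [h.dval_eq hGz] at this
    have := wt_unique (by omega) this wx
    omega
  have hzassoc : ∀ n, n * z = n * (n0 * A l f) := fun n => by rw [hz, ← hnx.eq]
  -- exchanges
  have noP : ∀ {n : GL (Fin t → Fin k) F}, n * n = 1 → n ∈ G → (∃ b1 a c, a ≠ c ∧
      Shape n (-1) (Equiv.swap a c) b1 ∧ ∀ m, m ≠ a → m ≠ c → b1 m = 1) → (ConjIn G y1 n ∨ ConjIn G x1 n) →
      ConjIn G x1 n ∧ n * z = x1 := by
    intro n hn' hnG hP hc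
    obtain ⟨b1, a, c, hac, hn1, hfix1⟩ := hP
    have hnzz : n * z * (n * z) = 1 := by rw [(hGz n hnG).symm.mul_mul_mul_comm, hn', hz2, one_mul]
    have h := negP_pair hk h3 huv hac hn hfix hn1 hfix1 hlu hlv hf.ne hn2 hn' (by rw [← hzassoc]; exact hnzz)
    rw [← hzassoc] at h
    rcases h with e | ⟨w, hw, hd⟩
    · refine ⟨?_, e⟩
      rcases hc with hc | hc
      · exfalso
        have := wy
        rw [← hc.dval_eq hGz, e] at this
        have h' := congrArg Int.natAbs (dval_A (F := F) hk (by omega) l hf.ne)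
        rw [Int.natAbs_mul, Int.natAbs_mul, Int.natAbs_pow, Int.natAbs_natCast,
          show (2 - (k : ℤ)).natAbs = 1 by omega, mul_one] at h'
        have := wt_unique (a := 2) (b := 1) (by omega) this (by rw [pow_one]; exact h')
        omega
      · exact hc
    · exfalso
      rcases hc with hc | hc <;> rw [hc.dval_eq hGz] at hd
      · have := wt_unique (by omega) hd wy; omega
      · have := wt_unique (by omega) hd wx; omega
  intro g hg
  have hW := engine hxG hyG hx2 hy2 hne (A_mem_wreath l f)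
    (fun g' hg' hc => child hk hM IH hfree hf (CL_le hg') hc) ?_ hg
  · rcases conj_single hk hk3 hM hf'U ⟨g, CL_le hg, rfl⟩ hW with ⟨j, w, hw, e⟩ | ⟨-, hP⟩
    · exact conc hk hk3 hM IH h2f hfree hf'U (CL_le hg) hw e
    · have hc : ConjIn G y1 (g * y1 * g⁻¹) := ⟨g, hg, rfl⟩
      exact (hne ((noP (hc.sq hy2) (hc.mem hyG) hP (Or.inl hc)).1.trans hc.symm)).elim
  intro y' n hyy' hnG hnW hn' hnx' hcx hcy hcase
  obtain ⟨a, haU, hconj⟩ : ∃ a : Fin k → F, IsU S l a ∧ ConjIn G (A l a) n := by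
    rcases hcase with h | h
    exacts [⟨_, hf, h.1⟩, ⟨_, hf'U, h.1⟩]
  rcases conj_single hk hk3 hM haU (hconj.mono CL_le) hnW with ⟨j, w, hw, rfl⟩ | ⟨-, hP⟩
  · obtain ⟨g0, hg0, e0⟩ := hconj.mono (H := L M S) CL_le
    obtain ⟨hjf, hwU, -⟩ := single_slot hk hk3 hM hfree haU hg0 hw e0
    have hy'L := CL_le (hyy'.mem hyG)
    rcases eq_or_ne j l with rfl | hjl
    · rcases eq_or_orth_of_commute hk (by omega) hwU.ne hf.ne hcx with e | ho
      · exact absurd e hnx'
      exact pairA hk hk3 hM IH h2f hl hf hwU (by rw [dotProduct_comm]; exact ho) (mem_CL.2 ⟨hy'L, hcy⟩)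
    · exact cross hk hk3 hM IH h2f hjl.symm hl hjf hf hwU (mem_CL.2 ⟨hy'L, hcy⟩)
  · exfalso
    rcases hcase with h | h
    · obtain ⟨-, e⟩ := noP hn' hnG hP (Or.inr h.1)
      have en : n = x1 * z := by rw [← e, mul_assoc, hz2, mul_one]
      have e1 := h.2.dval_eq hGz
      rw [en, ← mul_assoc x1 x1, hx2, one_mul, mul_assoc, hz2, mul_one, hyy'.dval_eq hGz, hyy'.dval_eq'] at e1
      have h' := congrArg Int.natAbs (dval_A (F := F) hk (by omega) l hf'U.ne)
      rw [← hy1, e1, Int.natAbs_mul, Int.natAbs_mul, Int.natAbs_pow, Int.natAbs_natCast,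
        show (2 - (k : ℤ)).natAbs = 1 by omega, mul_one] at h'
      have := wt_unique (a := 2) (b := 1) (by omega) wy (by rw [pow_one]; exact h')
      omega
    · exact hne ((noP hn' hnG hP (Or.inl h.1)).1.trans h.1.symm)

/-- the product of an axial element with a conjugate single one commuting with it -/
theorem CL_mul_single (hk : Odd k) (hk3 : 3 ≤ k) (hM : Good M) (IH : IHyp S F) (h2f : TwoFree S) {i : Fin t}
    (hi : (S i).card + 3 ≤ k) {a : Fin k → F} (ha : IsU S i a) {i' : Fin t} (hi' : Free S i') {a' : Fin k → F}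
    (ha' : IsU S i' a') {n : GL (Fin t → Fin k) F} (hc : ConjIn (L M S) (A i' a') n)
    (hW : n ∈ Cfsg.Geo.tensorWreathStandard k t F) (hne : n ≠ A i a) (hcx : Commute n (A i a)) :
    CL M S (A i a * n) ≤ Cfsg.Geo.tensorWreathStandard k t F := by
  rcases conj_single hk hk3 hM ha' hc hW with ⟨j, v, hv, rfl⟩ | ⟨h3, b, u, v, huv, hn, hfix⟩
  · obtain ⟨g0, hg0, e0⟩ := hc
    obtain ⟨hjf, hvU, -⟩ := single_slot hk hk3 hM hi' ha' hg0 hv e0
    rcases eq_or_ne j i with rfl | hji
    · rcases eq_or_orth_of_commute hk (by omega) hvU.ne ha.ne hcx with e | ho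
      · exact absurd e hne
      exact pairA hk hk3 hM IH h2f hi ha hvU (by rw [dotProduct_comm]; exact ho)
    · exact cross hk hk3 hM IH h2f hji.symm hi hjf ha hvU
  · obtain ⟨hσ, -⟩ := hn.comm_A h2.out hk (by omega) ha.ne hcx
    exact exchange hk h3 hM IH h2f hi ha huv hn hfix (hc.sq (A_mul_self i' a'))
      (fun e => by rw [e, Equiv.swap_apply_left] at hσ; exact huv hσ.symm)
      (fun e => by rw [e, Equiv.swap_apply_right] at hσ; exact huv hσ)

/-- two non-conjugate axial elements, the first with three free coordinates in its slot -/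
theorem core (hk : Odd k) (hk3 : 3 ≤ k) (hM : Good M) (IH : IHyp S F) (h2f : TwoFree S)
    {G : Subgroup (GL (Fin t → Fin k) F)} (hG : G ≤ L M S) {i l : Fin t} (hi : (S i).card + 3 ≤ k)
    (hl : Free S l) {a c : Fin k → F} (ha : IsU S i a) (hc : IsU S l c) (hx : A i a ∈ G) (hy : A l c ∈ G)
    (hne : ¬ ConjIn G (A i a) (A l c))
    (hpure : k = 3 → ∀ {n : GL (Fin t → Fin k) F} {b : Fin t → Matrix (Fin k) (Fin k) F} {u v : Fin t},
      ConjIn G (A l c) n → u ≠ v → Shape n (-1) (Equiv.swap u v) b → (∀ m, m ≠ u → m ≠ v → b m = 1) → False) :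
    G ≤ Cfsg.Geo.tensorWreathStandard k t F := by
  intro g hg
  have hfree : Free S i := by unfold Free; omega
  have hW := engine hx hy (A_mul_self i a) (A_mul_self l c) hne (A_mem_wreath i a)
    (fun g' hg' hcg => child hk hM IH hfree ha (hG hg') hcg) ?_ hg
  · rcases conj_single hk hk3 hM hc ⟨g, hG hg, rfl⟩ hW with ⟨j, v, hv, e⟩ | ⟨h3, b, u, v, huv, hn, hfix⟩
    · exact conc hk hk3 hM IH h2f hl hc (hG hg) hv e
    · exact (hpure h3 ⟨g, hg, rfl⟩ huv hn hfix).elim
  intro y' n hyy' hnG hnW hn2 hnx hcx hcy hcase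
  rcases hcase with h | h
  · exact CL_mul_single hk hk3 hM IH h2f hi ha hfree ha (h.1.mono hG) hnW hnx hcx
      (mem_CL.2 ⟨hG (hyy'.mem hy), hcy⟩)
  · exact CL_mul_single hk hk3 hM IH h2f hi ha hl hc (h.1.mono hG) hnW hnx hcx
      (mem_CL.2 ⟨hG (hyy'.mem hy), hcy⟩)

end CfsgLib.MaxSub.TPow
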