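import Cfsg.Agent.Lib.MaxSub.TPow.Exchange

/-!
Configurations with a framed free slot and a slot with three free coordinates.
-/

set_option autoImplicit false
set_option linter.unusedSectionVars false
set_option linter.style.haveILetI false

namespace CfsgLib.MaxSub.TPow

open Matrix CfsgLib.Aschbacher
open scoped MatrixGroups

variable {t k : ℕ} {F : Type*} [Field F] [Fintype F] [h2 : Fact ((2 : F) ≠ 0)]
variable {M : Subgroup (GL (Fin t → Fin k) F)} {S : Fin t → Finset (Fin k)}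

/-- some free slot has frames and some has three free coordinates -/
theorem framed (hk : Odd k) (hk3 : 3 ≤ k) (hM : Good M) (IH : IHyp S F) (h2f : TwoFree S) {i : Fin t}
    (hi : (S i).card + 3 ≤ k) (hp : ∃ j, Free S j ∧ S j ≠ ∅) :
    L M S ≤ Cfsg.Geo.tensorWreathStandard k t F := by
  have hh : (2 : F) ≠ 0 := h2.out
  have hfree : Free S i := by unfold Free; omega
  obtain ⟨l, hil, hl, hne⟩ : ∃ l, i ≠ l ∧ Free S l ∧ (S i ≠ ∅ ∨ S l ≠ ∅) := by
    by_cases hSi : S i = ∅
    · obtain ⟨j, hj, hjne⟩ := hp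
      exact ⟨j, fun e => hjne (e ▸ hSi), hj, Or.inr hjne⟩
    · obtain ⟨l, hil, hl⟩ := h2f i
      exact ⟨l, hil, hl, Or.inl hSi⟩
  obtain ⟨x, hx⟩ := exists_notMem hfree
  obtain ⟨x', hx'⟩ := exists_notMem hl
  refine core hk hk3 hM IH h2f le_rfl hi hl (isU_eC hx) (isU_eC hx') (A_mem_L hk hM (isU_eC hx))
    (A_mem_L hk hM (isU_eC hx')) (fun h => not_conj hk hk3 hM hil hfree (isU_eC hx) (isU_eC hx') hne h) ?_
  intro h3 n b u v hc huv hn hfix
  have hSi : S i = ∅ := Finset.card_eq_zero.1 (by omega)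
  obtain ⟨s, hs⟩ := Finset.nonempty_iff_ne_empty.2 (hne.resolve_left (not_not.2 hSi))
  have hnL := hc.mem (A_mem_L hk hM (isU_eC hx'))
  have hcs := (mem_L.1 hnL).2 l s hs
  obtain ⟨hσ, -⟩ := hn.comm_A hh hk (by omega) (eC_ne s) hcs
  have hlu : l ≠ u := fun e => by rw [e, Equiv.swap_apply_left] at hσ; exact huv hσ.symm
  have hlv : l ≠ v := fun e => by rw [e, Equiv.swap_apply_right] at hσ; exact huv hσ
  have hn2 : n * n = 1 := hc.sq (A_mul_self l _)
  obtain ⟨-, hd⟩ := wt_negP_mul hk h3 huv hn hfix (shape_A hk l (eC_ne s)) hn2 (A_mul_self l _) hcs (J := {l})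
    (fun m => by
      rw [Finset.mem_singleton]
      rcases eq_or_ne m l with rfl | hm
      · simp [ax_ne_one hh (show 2 ≤ Fintype.card (Fin k) by rw [Fintype.card_fin]; omega)]
      · simp [hm])
  rw [show ({l} : Finset (Fin t)) \ {u, v} = {l} from Finset.sdiff_eq_self_of_disjoint (by simp [hlu, hlv]),
    Finset.card_singleton, hc.dval_eq (c := A l (eC s)) fun g hg => (mem_L.1 hg).2 l s hs] at hd
  have hxs : x' ≠ s := fun e => hx' (e ▸ hs)
  have h' := congrArg Int.natAbs (dval_A_same (F := F) hk (by omega) l (eC_ne x') (eC_ne s) (eC_orth hxs))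
  rw [dval_ax_pair hxs, Int.natAbs_mul, Int.natAbs_mul, Int.natAbs_pow, Int.natAbs_natCast,
    show ((k : ℤ) - 4).natAbs = 1 by omega, mul_one] at h'
  have := wt_unique (a := 1 + 1) (b := 1) (by omega) hd (by rw [pow_one]; exact h')
  omega

end CfsgLib.MaxSub.TPow
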