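import Cfsg.Agent.Lib.MaxSub.TPow.Slot
import Cfsg.Agent.Lib.MaxSub.TPow.Dval

/-!
The value of an involution of the wreath subgroup, and of involutions of one factor.
-/

set_option autoImplicit false
set_option linter.unusedSectionVars false
set_option linter.style.haveILetI false

namespace CfsgLib.MaxSub.TPow

open Matrix CfsgLib.Aschbacher
open CfsgLib.Aschbacher.Orth (pureMat_transpose permMat_mul_permMat permMat_one)
open scoped MatrixGroups

variable {t k : ℕ} {F : Type*} [Field F] [Fintype F]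

theorem pureMat_diagonal (s : Fin t → Fin k → F) :
    pureMat (fun i => diagonal (s i)) = diagonal fun p => ∏ i, s i (p i) := by
  ext p q
  rcases eq_or_ne p q with rfl | h
  · simp [pureMat]
  · obtain ⟨j, hj⟩ := Function.ne_iff.1 h
    rw [diagonal_apply_ne _ h, pureMat, Matrix.of_apply]
    exact Finset.prod_eq_zero (Finset.mem_univ j) (diagonal_apply_ne _ hj)

theorem sgnZ_mul [DecidableEq F] (h2 : (2 : F) ≠ 0) {a b : F} (ha : a = 1 ∨ a = -1) (hb : b = 1 ∨ b = -1) :
    sgnZ (a * b) = sgnZ a * sgnZ b := by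
  have h : (-1 : F) ≠ 1 := fun e => h2 (by linear_combination -e)
  rcases ha with rfl | rfl <;> rcases hb with rfl | rfl <;> simp [sgnZ, h]

theorem prod_sign {α : Type*} (s : Finset α) {f : α → F} (hf : ∀ i ∈ s, f i = 1 ∨ f i = -1) :
    (∏ i ∈ s, f i) = 1 ∨ (∏ i ∈ s, f i) = -1 := by
  classical
  induction s using Finset.induction_on with
  | empty => simp
  | insert i s hi ih =>
      rw [Finset.prod_insert hi]
      rcases hf i (Finset.mem_insert_self i s) with e | e <;>
        rcases ih (fun j hj => hf j (Finset.mem_insert_of_mem hj)) with e' | e' <;> rw [e, e'] <;> simp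

theorem sgnZ_prod [DecidableEq F] (h2 : (2 : F) ≠ 0) {α : Type*} (s : Finset α) {f : α → F}
    (hf : ∀ i ∈ s, f i = 1 ∨ f i = -1) : sgnZ (∏ i ∈ s, f i) = ∏ i ∈ s, sgnZ (f i) := by
  classical
  induction s using Finset.induction_on with
  | empty => simp [sgnZ]
  | insert i s hi ih =>
      have hf' : ∀ j ∈ s, f j = 1 ∨ f j = -1 := fun j hj => hf j (Finset.mem_insert_of_mem hj)
      rw [Finset.prod_insert hi, Finset.prod_insert hi,
        sgnZ_mul h2 (hf i (Finset.mem_insert_self i s)) (prod_sign s hf'), ih hf']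

/-- number of two-cycles -/
def cyc (σ : Equiv.Perm (Fin t)) : ℕ := (Finset.univ.filter fun i => i < σ i).card

/-- the value of an involution of the wreath subgroup in normal form -/
theorem dval_repr [DecidableEq F] (h2 : (2 : F) ≠ 0) {ε : F} (hε : ε = 1 ∨ ε = -1) {σ : Equiv.Perm (Fin t)}
    (hσ : ∀ i, σ (σ i) = i) {b : Fin t → Matrix (Fin k) (Fin k) F} (hb : ∀ i, b (σ i) * b i = 1) :
    dval (ε • (permMat σ * pureMat b) : Matrix (Fin t → Fin k) (Fin t → Fin k) F) =
      (if ε = 1 then 1 else -1) * (k : ℤ) ^ cyc σ *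
        ∏ i ∈ Finset.univ.filter (fun i => σ i = i), dval (b i) := by
  classical
  have hbb : ∀ i, σ i = i → b i * b i = 1 := fun i hi => by simpa [hi] using hb i
  -- diagonalise the fixed factors, trivialise the others
  have hex : ∀ i, ∃ (Q : GL (Fin k) F) (s : Fin k → F), (∀ c, s c = 1 ∨ s c = -1) ∧
      (σ i = i → b i = (Q : Matrix (Fin k) (Fin k) F) * diagonal s * ((Q⁻¹ : GL (Fin k) F) : Matrix (Fin k) (Fin k) F)) ∧
      (σ i ≠ i → s = fun _ => 1) := by
    intro i
    by_cases hi : σ i = i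
    · obtain ⟨Q, s, hs, e⟩ := exists_diag h2 (hbb i hi)
      exact ⟨Q, s, hs, fun _ => e, fun h => (h hi).elim⟩
    · exact ⟨1, fun _ => 1, fun _ => Or.inl rfl, fun h => (hi h).elim, fun _ => rfl⟩
  choose Q s hs hQ hs1 using hex
  let u : Fin t → GL (Fin k) F := fun i => ⟨b i, b (σ i), by simpa [hσ] using hb (σ i), hb i⟩
  -- the conjugating factors
  let P : Fin t → GL (Fin k) F := fun i => if σ i = i then (Q i)⁻¹ else if i < σ i then 1 else (u (σ i))⁻¹
  have hP : ∀ i, (P (σ i) : Matrix (Fin k) (Fin k) F) * b i * ((P i)⁻¹ : GL (Fin k) F) = diagonal (s i) := by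
    intro i
    by_cases hi : σ i = i
    · simp only [P, if_pos hi, hi, inv_inv]
      rw [hQ i hi, ← Matrix.mul_assoc, ← Matrix.mul_assoc, ← Units.val_mul, inv_mul_cancel, Units.val_one,
        Matrix.one_mul, Matrix.mul_assoc, ← Units.val_mul, inv_mul_cancel, Units.val_one, Matrix.mul_one]
    · have hi' : ¬ σ (σ i) = σ i := fun e => hi (by rw [hσ] at e; exact e.symm)
      have hd : diagonal (s i) = (1 : Matrix (Fin k) (Fin k) F) := by rw [hs1 i hi]; exact diagonal_one
      rw [hd]
      rcases lt_or_gt_of_ne hi with h | h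
      · -- `σ i < i`
        simp only [P, if_neg hi, if_neg hi', hσ, if_pos h, if_neg (not_lt_of_gt h), inv_inv, Units.val_one,
          Matrix.one_mul]
        exact (by simpa [hσ] using hb (σ i) : b i * b (σ i) = 1)
      · simp only [P, if_neg hi, if_neg hi', hσ, if_pos h, if_neg (not_lt_of_gt h), inv_one, Units.val_one,
          Matrix.mul_one]
        exact (by simpa [hσ] using hb i : b (σ i) * b i = 1)
  let PP : GL (Fin t → Fin k) F := ⟨pureMat fun i => (P i : Matrix (Fin k) (Fin k) F),
    pureMat fun i => (((P i)⁻¹ : GL (Fin k) F) : Matrix (Fin k) (Fin k) F),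
    by rw [pureMat_mul]; simp [pureMat_one], by rw [pureMat_mul]; simp [pureMat_one]⟩
  have hconj : (PP : Matrix (Fin t → Fin k) (Fin t → Fin k) F) * (ε • (permMat σ * pureMat b)) *
      ((PP⁻¹ : GL (Fin t → Fin k) F) : Matrix (Fin t → Fin k) (Fin t → Fin k) F) =
      ε • (permMat σ * pureMat fun i => diagonal (s i)) := by
    show pureMat _ * _ * pureMat (fun i => (((P i)⁻¹ : GL (Fin k) F) : Matrix (Fin k) (Fin k) F)) = _
    rw [Matrix.mul_smul, Matrix.smul_mul]
    congr 1
    have e : (pureMat fun i => (P i : Matrix (Fin k) (Fin k) F)) * permMat σ =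
        permMat σ * pureMat fun i => (P (σ i) : Matrix (Fin k) (Fin k) F) := by
      rw [← pureMat_mul_permMat σ fun i => (P (σ i) : Matrix (Fin k) (Fin k) F)]; simp
    rw [← Matrix.mul_assoc, e, Matrix.mul_assoc, Matrix.mul_assoc, pureMat_mul, pureMat_mul]
    congr 2
    funext i
    rw [← Matrix.mul_assoc]
    exact hP i
  rw [← dval_conj PP, hconj, pureMat_diagonal]
  set sV : (Fin t → Fin k) → F := fun p => ε * ∏ i, s i ((p ∘ σ) i) with hsV
  have hmat : ε • (permMat σ * diagonal fun p : Fin t → Fin k => ∏ i, s i (p i)) =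
      Matrix.of fun p q => if q = p ∘ σ then sV p else 0 := by
    ext p q
    rw [Matrix.smul_apply, permMat_mul_apply, Matrix.of_apply]
    rcases eq_or_ne q (p ∘ σ) with rfl | h
    · rw [if_pos rfl, diagonal_apply_eq]; rfl
    · rw [if_neg h, diagonal_apply_ne _ (Ne.symm h), smul_zero]
  have hππ : ∀ p : Fin t → Fin k, (p ∘ σ) ∘ σ = p := fun p => funext fun i => congrArg p (hσ i)
  have hsV1 : ∀ p, sV p = 1 ∨ sV p = -1 := fun p => by
    show ε * _ = 1 ∨ ε * _ = -1
    rcases prod_sign Finset.univ (f := fun i => s i ((p ∘ σ) i)) (fun i _ => hs i _) with e | e <;>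
      rcases hε with rfl | rfl <;> rw [e] <;> simp
  have hsV2 : ∀ p, sV (p ∘ σ) = sV p := fun p => by
    show ε * _ = ε * _
    congr 1
    refine Finset.prod_congr rfl fun i _ => ?_
    by_cases hi : σ i = i
    · show s i (p (σ (σ i))) = s i (p (σ i))
      rw [hσ, hi]
    · rw [hs1 i hi]
  rw [hmat, dval_signPerm h2 (π := fun p => p ∘ σ) hππ hsV1 hsV2]
  -- sum over the points fixed by the permutation
  set R := Finset.univ.filter (fun i => σ i = i ∨ i < σ i) with hR
  have hsg : ∀ p : Fin t → Fin k, p ∘ σ = p →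
      sgnZ (sV p) = (if ε = 1 then 1 else -1) * ∏ i ∈ R, sgnZ (s i (p i)) := by
    intro p hp
    have e1 : sV p = ε * ∏ i, s i (p i) := by rw [hsV]; simp only [hp]
    rw [e1, sgnZ_mul h2 hε (prod_sign _ fun i _ => hs i _), sgnZ_prod h2 _ fun i _ => hs i _]
    congr 1
    refine (Finset.prod_subset (Finset.subset_univ R) fun i _ hi => ?_).symm
    simp only [hR, Finset.mem_filter, Finset.mem_univ, true_and, not_or] at hi
    rw [hs1 i hi.1]
    simp [sgnZ]
  rw [Finset.sum_congr rfl fun p hp => hsg p (Finset.mem_filter.1 hp).2, ← Finset.mul_sum]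
  have hbij : (∑ p ∈ Finset.univ.filter (fun p : Fin t → Fin k => p ∘ σ = p), ∏ i ∈ R, sgnZ (s i (p i))) =
      ∑ v : R → Fin k, ∏ i : R, sgnZ (s i (v i)) := by
    refine Finset.sum_bij' (fun p _ i => p i)
      (fun v _ j => if h : j ∈ R then v ⟨j, h⟩ else
        if h' : σ j ∈ R then v ⟨σ j, h'⟩ else v ⟨σ j, (h' (by
          simp only [hR, Finset.mem_filter, Finset.mem_univ, true_and, not_or, hσ] at h ⊢
          exact Or.inr (lt_of_le_of_ne (not_lt.1 h.2) h.1))).elim⟩)
      (fun p _ => Finset.mem_univ _) ?_ ?_ ?_ ?_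
    · intro v _
      refine Finset.mem_filter.2 ⟨Finset.mem_univ _, funext fun j => ?_⟩
      rw [Function.comp_apply]
      by_cases hj : j ∈ R
      · by_cases hfix : σ j = j
        · simp [hfix]
        · have hnot : σ j ∉ R := by
            simp only [hR, Finset.mem_filter, Finset.mem_univ, true_and, not_or, hσ] at hj ⊢
            exact ⟨fun e => hfix e.symm, not_lt.2 (hj.resolve_left hfix).le⟩
          rw [dif_neg hnot, dif_pos (show σ (σ j) ∈ R by rwa [hσ]), dif_pos hj]
          congr 1
          exact Subtype.ext (hσ j)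
      · have hin : σ j ∈ R := by
          simp only [hR, Finset.mem_filter, Finset.mem_univ, true_and, not_or, hσ] at hj ⊢
          exact Or.inr (lt_of_le_of_ne (not_lt.1 hj.2) hj.1)
        rw [dif_pos hin, dif_neg hj, dif_pos hin]
    · intro p hp
      funext j
      have hp' := (Finset.mem_filter.1 hp).2
      by_cases hj : j ∈ R
      · simp [hj]
      · have hin : σ j ∈ R := by
          simp only [hR, Finset.mem_filter, Finset.mem_univ, true_and, not_or, hσ] at hj ⊢
          exact Or.inr (lt_of_le_of_ne (not_lt.1 hj.2) hj.1)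
        simp only [dif_neg hj, dif_pos hin]
        exact congrFun hp' j
    · intro v _
      funext j
      simp [j.2]
    · intro p _
      exact (Finset.prod_coe_sort R (fun i => sgnZ (s i (p i)))).symm
  rw [hbij, ← Fintype.prod_sum (fun (i : R) a => sgnZ (s i a)),
    Finset.prod_coe_sort R (fun i => ∑ a, sgnZ (s i a)), hR, Finset.filter_or,
    Finset.prod_union (Finset.disjoint_filter.2 fun i _ h1 h2' => by rw [h1] at h2'; exact lt_irrefl _ h2'),
    mul_assoc]
  congr 1
  rw [mul_comm, Finset.prod_congr rfl (g := fun _ => (k : ℤ))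
    (fun i (hi : i ∈ Finset.univ.filter fun i => i < σ i) => by
      rw [hs1 i (Finset.mem_filter.1 hi).2.ne']; simp [sgnZ]), Finset.prod_const]
  congr 1
  refine Finset.prod_congr rfl fun i hi => ?_
  rw [hQ i (Finset.mem_filter.1 hi).2, dval_conj, dval_diag h2 (hs i)]

theorem dval_ax_single (h2 : (2 : F) ≠ 0) (a : Fin k) : dval (ax (Pi.single a (1 : F))) = 2 - k := by
  classical
  have h : (-1 : F) ≠ 1 := fun e => h2 (by linear_combination -e)
  rw [ax_single, dval_diag h2 (fun c => by by_cases hc : c = a <;> simp [hc]),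
    ← Finset.add_sum_erase _ _ (Finset.mem_univ a),
    Finset.sum_congr rfl (g := fun _ => (-1 : ℤ)) (fun c hc => by
      simp [sgnZ, Finset.ne_of_mem_erase hc, h])]
  simp [sgnZ, Finset.card_erase_of_mem, Nat.cast_sub (Fin.pos a)]
  ring

end CfsgLib.MaxSub.TPow
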