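import Cfsg.Agent.Lib.MaxSub.TPow.Exchange

/-!
Configurations without framed free slots, factors of dimension at least five.
-/

set_option autoImplicit false
set_option linter.unusedSectionVars false
set_option linter.style.haveILetI false

namespace CfsgLib.MaxSub.TPow

open Matrix CfsgLib.Aschbacher
open CfsgLib.Aschbacher.Orth (permMat_one)
open scoped MatrixGroups

variable {t k : ℕ} {F : Type*} [Field F] [Fintype F] [h2 : Fact ((2 : F) ≠ 0)]
variable {M : Subgroup (GL (Fin t → Fin k) F)} {S : Fin t → Finset (Fin k)}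

theorem update_mul_update {i j : Fin t} (hij : i ≠ j) (X Y : Matrix (Fin k) (Fin k) F) (m : Fin t) :
    Function.update (fun _ => (1 : Matrix (Fin k) (Fin k) F)) i X m *
        Function.update (fun _ => (1 : Matrix (Fin k) (Fin k) F)) j Y m =
      if m = i then X else if m = j then Y else 1 := by
  rcases eq_or_ne m i with rfl | hmi
  · simp [hij]
  rcases eq_or_ne m j with rfl | hmj
  · simp [hmi]
  simp [hmi, hmj]

/-- a square value can be scaled to one -/
theorem exists_scale {h : Fin k → F} (hh : h ⬝ᵥ h ≠ 0) (hs : IsSquare (h ⬝ᵥ h)) :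
    ∃ c : F, c ≠ 0 ∧ (c • h) ⬝ᵥ (c • h) = 1 := by
  obtain ⟨r, hr⟩ := hs
  have hr0 : r ≠ 0 := fun e0 => hh (by rw [hr, e0, zero_mul])
  refine ⟨r⁻¹, inv_ne_zero hr0, ?_⟩
  rw [smul_dotProduct, dotProduct_smul, smul_eq_mul, smul_eq_mul, hr]
  field_simp

theorem two_axial (hk : Odd k) (hk5 : k ≠ 3) (hk3 : 3 ≤ k) (hM : Good M) (hwh : ∀ j, Free S j → S j = ∅)
    {i i' : Fin t} (hii : i ≠ i') (hi : Free S i) (hi' : Free S i') {a a' : Fin k → F} (ha : IsU S i a)
    (ha' : IsU S i' a') {n : GL (Fin t → Fin k) F} (hc : ConjIn (L M S) (A i a * A i' a') n)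
    (hW : n ∈ Cfsg.Geo.tensorWreathStandard k t F) :
    ∃ j j' h g, j ≠ j' ∧ h ⬝ᵥ h ≠ 0 ∧ g ⬝ᵥ g ≠ 0 ∧ n = A j h * A j' g ∧ S j = ∅ ∧ S j' = ∅ := by
  classical
  have hh : (2 : F) ≠ 0 := h2.out
  have hkz : (k : ℤ) ≠ 0 := by omega
  have hT : (k : ℤ) ^ t ≠ 0 := pow_ne_zero t hkz
  have hy : A i a * A i' a' ∈ L M S := mul_mem (A_mem_L hk hM ha) (A_mem_L hk hM ha')
  have hcom : Commute (A i a) (A i' a') := A_comm_ne hii a a'
  have hy2 : A i a * A i' a' * (A i a * A i' a') = 1 := by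
    rw [hcom.symm.mul_mul_mul_comm, A_mul_self, A_mul_self, one_mul]
  have hnL := hc.mem hy
  have hn2 := hc.sq hy2
  obtain ⟨ε, σ, b, hs⟩ := shape_exists hk (Fin.pos i) hW (mem_orth_of_L hM hnL)
  have hd0 := dval_A_ne (F := F) hk (by omega) hii ha.ne ha'.ne
  rw [← hc.dval_eq'] at hd0
  obtain ⟨hcj, hc0, hax, hsgn⟩ := fus hk hk3 hs hn2 (m := 2) (by norm_num) (by rw [sq, sq]; exact hd0)
  have hcyc := hc0 hk5
  have hσ := perm_eq_one_of_cyc (hs.invol hk (by omega) hn2).1 hcyc
  subst hσ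
  rw [hcyc, zero_add] at hcj
  obtain ⟨j, j', hjj, hjset⟩ := Finset.card_eq_two.1 hcj
  obtain ⟨h, hh0, hbh⟩ := hax j (by rw [hjset]; simp)
  obtain ⟨g, hg0, hbg⟩ := hax j' (by rw [hjset]; simp)
  have hε : ε = 1 := hsgn.2 (by rw [hcyc]; exact ⟨0, rfl⟩)
  have hs' := (shape_A hk j hh0).mul (shape_A hk j' hg0)
  have e : n = A j h * A j' g := by
    refine Units.ext ?_
    rw [hs.2.2, hs'.2.2, hε, one_mul, mul_one]
    congr 2
    congr 1
    funext m
    simp only [Equiv.Perm.coe_one, id_eq]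
    rw [update_mul_update hjj]
    split
    · next hm => rw [hm, hbh]
    split
    · next hm => rw [hm, hbg]
    · next hm1 hm2 =>
      by_contra hne
      have : m ∈ nt 1 b := mem_nt.2 ⟨rfl, hne⟩
      rw [hjset] at this
      simp [hm1, hm2] at this
  have key : ∀ {p q : Fin t} {h g : Fin k → F}, p ≠ q → h ⬝ᵥ h ≠ 0 → g ⬝ᵥ g ≠ 0 → n = A p h * A q g → S p = ∅ := by
    intro p q h g hpq hh0 hg0 e
    by_contra hne
    obtain ⟨s, hs0⟩ := Finset.nonempty_iff_ne_empty.2 hne
    have hnf : ¬ Free S p := fun hf => hne (hwh p hf)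
    have hpi : p ≠ i := fun e' => hnf (e' ▸ hi)
    have hpi' : p ≠ i' := fun e' => hnf (e' ▸ hi')
    have hne2 : A p (eC s) * A p (eC s) = (1 : GL (Fin t → Fin k) F) := A_mul_self p _
    have hcn := (mem_L.1 hnL).2 p s hs0
    have heq : n * A p (eC s) = A p h * A p (eC s) * A q g := by
      rw [e, mul_assoc, (A_comm_ne hpq.symm g (eC s)).eq, ← mul_assoc]
    have hd := ((inSlot_A hk p hh0).mul (inSlot_A (F := F) hk p (eC_ne s))).dval_two hk (by omega) hpq
      (inSlot_A hk q hg0) (by rw [← heq, hcn.symm.mul_mul_mul_comm, hn2, hne2, one_mul])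
    rw [← heq, dval_ax hh hg0, Fintype.card_fin, hc.dval_eq (c := A p (eC s)) fun g hg => (mem_L.1 hg).2 p s hs0] at hd
    have hys := ((shape_A hk i ha.ne).mul (shape_A hk i' ha'.ne)).mul (shape_A (F := F) hk p (eC_ne s))
    simp only [one_mul, Equiv.Perm.coe_one, id_eq] at hys
    have hd3 := dval_pure_on hh hk (by omega) hys
      (by rw [((mem_L.1 hy).2 p s hs0).symm.mul_mul_mul_comm, hy2, hne2, one_mul]) {p, i, i'} fun m hm => by
      simp only [Finset.mem_insert, Finset.mem_singleton, not_or] at hm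
      simp [hm.1, hm.2.1, hm.2.2]
    rw [Finset.prod_insert (by simp [hpi, hpi']), Finset.prod_pair hii,
      Finset.card_insert_of_notMem (by simp [hpi, hpi']), Finset.card_pair hii] at hd3
    simp only [Function.update_self, Function.update_of_ne hpi, Function.update_of_ne hpi',
      Function.update_of_ne hpi.symm, Function.update_of_ne hpi'.symm, Function.update_of_ne hii,
      Function.update_of_ne hii.symm, Matrix.one_mul, Matrix.mul_one] at hd3
    rw [dval_ax hh ha.ne, dval_ax hh ha'.ne, dval_ax hh (eC_ne s), Fintype.card_fin] at hd3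
    have hz : (2 - (k : ℤ)) * ((2 - (k : ℤ)) * (2 - (k : ℤ))) =
        (2 - (k : ℤ)) * (dval (ax h * ax (eC s : Fin k → F)) * k) :=
      mul_left_cancel₀ hT (by linear_combination (k : ℤ) * hd - hd3)
    exact no_mix hk hk3 _ (mul_left_cancel₀ (show (2 : ℤ) - k ≠ 0 by omega) hz).symm
  exact ⟨j, j', h, g, hjj, hh0, hg0, e, key hjj hh0 hg0 e,
    key hjj.symm hg0 hh0 (e.trans (A_comm_ne hjj h g).eq)⟩

/-- all free slots are without frames, factors of dimension at least five -/
theorem global_big (hk : Odd k) (hk5 : k ≠ 3) (hk3 : 3 ≤ k) (hM : Good M) (IH : IHyp S F) (h2f : TwoFree S)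
    (hwh : ∀ j, Free S j → S j = ∅) {i : Fin t} (hi : Free S i) :
    L M S ≤ Cfsg.Geo.tensorWreathStandard k t F := by
  classical
  have hh : (2 : F) ≠ 0 := h2.out
  have hk5' : 5 ≤ k := by obtain ⟨m, hm⟩ := hk; omega
  have hkz : (k : ℤ) ≠ 0 := by omega
  have hT : (k : ℤ) ^ t ≠ 0 := pow_ne_zero t hkz
  have h2k : (2 : ℤ) - k ≠ 0 := by omega
  obtain ⟨i', hii, hi'⟩ := h2f i
  have hSi := hwh i hi
  have hcard : ∀ {m : Fin t}, S m = ∅ → (S m).card + 3 ≤ k := fun {m} e => by rw [e, Finset.card_empty]; omega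
  have hcard' : ∀ {m : Fin t}, S m = ∅ → Free S m := fun {m} e => by
    unfold Free; rw [e, Finset.card_empty]; omega
  set x0 : Fin k := ⟨0, by omega⟩
  set a : Fin k → F := eC x0 with ha0
  have ha : IsU S i a := isU_eC (by simp [hSi])
  have ha' : IsU S i' a := isU_eC (by simp [hwh i' hi'])
  set X : GL (Fin t → Fin k) F := A i a with hX
  have hXL : X ∈ L M S := A_mem_L hk hM ha
  set Y : GL (Fin t → Fin k) F := X * A i' a with hY
  have hYL : Y ∈ L M S := mul_mem hXL (A_mem_L hk hM ha')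
  have hY2 : Y * Y = 1 := by
    rw [hY, (A_comm_ne hii a a).symm.mul_mul_mul_comm, hX, A_mul_self, A_mul_self, one_mul]
  have dX := dval_A (F := F) hk (by omega) i ha.ne
  have hne : ¬ ConjIn (L M S) X Y := by
    intro h
    have hd := dval_A_ne (F := F) hk (by omega) hii ha.ne ha'.ne
    rw [← hX, ← hY, h.dval_eq'] at hd
    have e : (2 - (k : ℤ)) * (2 - (k : ℤ)) = (2 - (k : ℤ)) * k := int_cancel hT dX hd
    have := mul_left_cancel₀ h2k e
    omega
  intro g hg
  have hW := engine hXL hYL (A_mul_self i a) hY2 hne (A_mem_wreath i a)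
    (fun g' hg' hc => child hk hM IH hi ha hg' hc) ?_ hg
  · -- a unit axial element commuting with the conjugate
    obtain ⟨j, j', h, g', hjj, hh0, hg0, e, hSj, -⟩ :=
      two_axial hk hk5 hk3 hM hwh hii hi hi' ha ha' ⟨g, hg, rfl⟩ hW
    obtain ⟨r, hr, hhr, -⟩ := exists_unit_perp hh hh0 (S := ∅) (by simp) (by simp; omega)
    have hrU : IsU S j r := ⟨hr, fun s hs => by rw [hSj] at hs; simp at hs⟩
    have hcr : Commute (A j r) (g * Y * g⁻¹) := by
      rw [e]
      exact (A_comm_orth j hrU.ne hh0 (by rw [dotProduct_comm]; exact hhr)).mul_right (A_comm_ne hjj r g')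
    have hr''L := mul_mem (mul_mem (inv_mem hg) (A_mem_L hk hM hrU)) hg
    have hr''c : Commute (g⁻¹ * A j r * g) Y := by
      show g⁻¹ * A j r * g * Y = Y * (g⁻¹ * A j r * g)
      calc g⁻¹ * A j r * g * Y = g⁻¹ * (A j r * (g * Y * g⁻¹)) * g := by group
        _ = g⁻¹ * (g * Y * g⁻¹ * A j r) * g := by rw [hcr.eq]
        _ = _ := by group
    have hr''W := cross hk hk3 hM IH h2f hii (hcard hSi) hi' ha ha' (mem_CL.2 ⟨hr''L, hr''c⟩)
    have hconj : ConjIn (L M S) (A j r) (g⁻¹ * A j r * g) := ⟨g⁻¹, inv_mem hg, by group⟩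
    obtain ⟨m, v, hv, e'⟩ := (conj_single hk hk3 hM hrU hconj hr''W).resolve_right fun h => hk5 h.1
    have := conc hk hk3 hM IH h2f (hcard' hSj) hrU (inv_mem hg) hv
      (show g⁻¹ * A j r * g⁻¹⁻¹ = A m v by rw [inv_inv]; exact e')
    simpa using inv_mem this
  intro y' n hyy' hnL hnW hn2 hnx hcx hcy hcase
  have hy'L := hyy'.mem hYL
  rcases hcase with hc | hc
  · exact CL_mul_single hk hk3 hM IH h2f (hcard hSi) ha hi ha hc.1 hnW hnx hcx (mem_CL.2 ⟨hy'L, hcy⟩)
  obtain ⟨j, j', h, g', hjj, hh0, hg0, e, hSj, hSj'⟩ :=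
    two_axial hk hk5 hk3 hM hwh hii hi hi' ha ha' hc.1 hnW
  obtain ⟨hcom, -⟩ : Commute n X ∧ True := ⟨hcx, trivial⟩
  -- normalise: the slot of `X` comes first
  obtain ⟨j, j', h, g', hjj, hh0, hg0, e, hSj, hSj', hord⟩ : ∃ j j' h g', j ≠ j' ∧ h ⬝ᵥ h ≠ 0 ∧ g' ⬝ᵥ g' ≠ 0 ∧
      n = A j h * A j' g' ∧ S j = ∅ ∧ S j' = ∅ ∧ i ≠ j' := by
    by_cases hij : i = j'
    · exact ⟨j', j, g', h, hjj.symm, hg0, hh0, e.trans (A_comm_ne hjj h g').eq, hSj', hSj,
        fun e' => hjj (e'.symm.trans hij)⟩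
    · exact ⟨j, j', h, g', hjj, hh0, hg0, e, hSj, hSj', hij⟩
  have hg'X : Commute (A j' g') X := A_comm_ne hord.symm _ _
  have hhX : Commute (A j h) X := by
    have := hcom.mul_left hg'X
    rwa [e, mul_assoc, A_mul_self, mul_one] at this
  have hsame : j = i → A j h = X ∨ h ⬝ᵥ a = 0 := by
    rintro rfl
    exact eq_or_orth_of_commute hk (by omega) hh0 ha.ne hhX
  by_cases hjX : j = i ∧ A j h = X
  · -- a single axial element of another slot
    have e1 : X * n = A j' g' := by rw [e, hjX.2, ← mul_assoc, hX, A_mul_self, one_mul]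
    obtain ⟨c, hc0, hcu⟩ := exists_scale hg0 ((A_mem_Om_iff hk j' hg0).1
      (e1 ▸ hM.le_Om (L_le (mul_mem hXL hnL))))
    refine child hk hM IH (hcard' hSj') (a := c • g') ⟨hcu, fun s hs => by rw [hSj'] at hs; simp at hs⟩ hy'L ?_
    rw [A_smul j' g' hc0, ← e1]
    exact hcy
  -- another unit vector of slot `i`
  obtain ⟨r, hr, har, hhr⟩ : ∃ r : Fin k → F, r ⬝ᵥ r = 1 ∧ a ⬝ᵥ r = 0 ∧ (j = i → h ⬝ᵥ r = 0) := by
    by_cases hji : j = i
    · have ho : h ⬝ᵥ a = 0 := (hsame hji).resolve_left fun e' => hjX ⟨hji, e'⟩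
      have hx0 : h x0 = 0 := by simpa [ha0] using ho
      obtain ⟨r, hr, hhr, hr0⟩ := exists_unit_perp hh hh0 (S := {x0}) (by simpa using hx0)
        (by rw [Finset.card_compl, Fintype.card_fin, Finset.card_singleton]; omega)
      exact ⟨r, hr, by simp [ha0, hr0], fun _ => hhr⟩
    · obtain ⟨r, hr, har, -⟩ := exists_unit_perp hh ha.ne (S := ∅) (by simp) (by simp; omega)
      exact ⟨r, hr, har, fun e' => absurd e' hji⟩
  have hrU : IsU S i r := ⟨hr, fun s hs => by rw [hSi] at hs; simp at hs⟩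
  set R : GL (Fin t → Fin k) F := A i r with hR
  have hRX : Commute R X := A_comm_orth i hrU.ne ha.ne (by rw [dotProduct_comm]; exact har)
  have hRn : Commute R n := by
    rw [e]
    refine Commute.mul_right ?_ (A_comm_ne hord r g')
    rcases eq_or_ne j i with hji | hji
    · rw [hR, ← hji]
      exact A_comm_orth j hrU.ne hh0 (by rw [dotProduct_comm]; exact hhr hji)
    · exact A_comm_ne hji.symm _ _
  set z : GL (Fin t → Fin k) F := X * n with hz
  have hRz : Commute R z := hRX.mul_right hRn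
  have hXz : Commute X z := (Commute.refl X).mul_right hcx.symm
  refine core hk hk3 hM IH h2f (G := CL M S z) CL_le (hcard hSi) hi ha hrU (mem_CL.2 ⟨hXL, hXz⟩)
    (mem_CL.2 ⟨A_mem_L hk hM hrU, hRz⟩) ?_ (fun h3 => absurd h3 hk5) (mem_CL.2 ⟨hy'L, hcy⟩)
  intro hconj
  have hd := hconj.dval_eq (c := z) fun g hg => (mem_CL.1 hg).2
  rw [show X * z = n by rw [hz, ← mul_assoc, hX, A_mul_self, one_mul]] at hd
  have dn := dval_A_ne (F := F) hk (by omega) hjj hh0 hg0
  rw [← e, ← hd] at dn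
  have hz2 : z * z = 1 := by rw [hz, hcx.mul_mul_mul_comm, hX, A_mul_self, hn2, one_mul]
  have hRz2 : R * z * (R * z) = 1 := by rw [hRz.symm.mul_mul_mul_comm, hR, A_mul_self, hz2, one_mul]
  rcases eq_or_ne j i with hji | hji
  · -- three axes in slot `i`
    subst hji
    have ho : h ⬝ᵥ a = 0 := (hsame rfl).resolve_left fun e' => hjX ⟨rfl, e'⟩
    have hS3 : InSlot (R * (X * A j h)) j (ax r * (ax a * ax h)) :=
      (inSlot_A hk j hrU.ne).mul ((inSlot_A hk j ha.ne).mul (inSlot_A hk j hh0))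
    have heq : R * z = R * (X * A j h) * A j' g' := by rw [hz, e]; group
    have hd2 := hS3.dval_two hk (by omega) hjj (inSlot_A hk j' hg0) (by rw [← heq]; exact hRz2)
    rw [← heq, dval_ax hh hg0, Fintype.card_fin] at hd2
    have hD : dval (ax r * (ax a * ax h)) = 2 - (k : ℤ) :=
      mul_right_cancel₀ h2k (mul_left_cancel₀ hT (hd2.symm.trans dn))
    have hXS := ((isSO_ax hk hrU.ne).mul ((isSO_ax hk ha.ne).mul (isSO_ax hk hh0)))
    have hRS3 : R * (X * A j h) * (R * (X * A j h)) = 1 := by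
      have hc1 : Commute R (X * A j h) :=
        hRX.mul_right (A_comm_orth j hrU.ne hh0 (by rw [dotProduct_comm]; exact hhr rfl))
      rw [hc1.symm.mul_mul_mul_comm, hR, A_mul_self, one_mul, hhX.mul_mul_mul_comm, hX, A_mul_self, A_mul_self,
        one_mul]
    obtain ⟨w, hw, hTw⟩ := axial_of_dval hh hk hk3 hXS (by
      have := (hS3.invol hk (by omega) hRS3).2 j
      simpa using this) (by rw [hD]; omega)
    have hfr : ax w *ᵥ r = r := by
      rw [← hTw, ← mulVec_mulVec, ← mulVec_mulVec, ax_perp (hhr rfl), mulVec_neg,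
        ax_perp har, neg_neg, ax_self hrU.ne]
    have hfa : ax w *ᵥ a = a := by
      rw [← hTw, ← mulVec_mulVec, ← mulVec_mulVec, ax_perp ho, mulVec_neg, ax_self ha.ne, mulVec_neg,
        ax_perp (by rw [dotProduct_comm]; exact har), neg_neg]
    obtain ⟨cr, hcr⟩ := ax_fix hh hfr
    obtain ⟨ca, hca⟩ := ax_fix hh hfa
    rw [hcr, hca, smul_dotProduct, dotProduct_smul, smul_eq_mul, smul_eq_mul] at har
    rcases mul_eq_zero.1 har with e0 | e0
    · exact ha.ne (by rw [hca, e0, zero_smul, zero_dotProduct])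
    · rcases mul_eq_zero.1 e0 with e0 | e0
      · exact hrU.ne (by rw [hcr, e0, zero_smul, zero_dotProduct])
      · exact hw e0
  · have hS2 : InSlot (R * X) i (ax r * ax a) := (inSlot_A hk i hrU.ne).mul (inSlot_A hk i ha.ne)
    have hs3 := Shape.mul hS2 ((shape_A hk j hh0).mul (shape_A hk j' hg0))
    simp only [one_mul, mul_one, Equiv.Perm.mul_apply, Equiv.Perm.coe_one, id_eq] at hs3
    rw [show R * X * (A j h * A j' g') = R * z by rw [hz, e]; group] at hs3
    have hd3 := dval_pure_on hh hk (by omega) hs3 hRz2 {i, j, j'} fun m hm => by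
      simp only [Finset.mem_insert, Finset.mem_singleton, not_or] at hm
      simp [hm.1, hm.2.1, hm.2.2]
    rw [Finset.prod_insert (by simp [hji.symm, hord]), Finset.prod_pair hjj,
      Finset.card_insert_of_notMem (by simp [hji.symm, hord]), Finset.card_pair hjj] at hd3
    simp only [Function.update_self, Function.update_of_ne hji, Function.update_of_ne hji.symm,
      Function.update_of_ne hord, Function.update_of_ne hord.symm, Function.update_of_ne hjj,
      Function.update_of_ne hjj.symm, Matrix.one_mul, Matrix.mul_one] at hd3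
    rw [dval_ax hh hh0, dval_ax hh hg0, Fintype.card_fin] at hd3
    have hP : dval (ax r * ax a) = (k : ℤ) := by
      refine mul_right_cancel₀ (mul_ne_zero h2k h2k) (mul_left_cancel₀ hT ?_)
      linear_combination (k : ℤ) * dn - hd3
    have hne1 : ax r * ax a ≠ 1 := fun e' => ne_of_orth hh hrU.ne (by rw [dotProduct_comm]; exact har) (by
      have := congrArg (· * ax a) e'
      simpa [Matrix.mul_assoc, ax_mul_self ha.ne] using this)
    have hXX : ax r * ax a * (ax r * ax a) = 1 := by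
      rw [Matrix.mul_assoc, ← Matrix.mul_assoc (ax a), ax_comm_orth har, Matrix.mul_assoc (ax r) (ax a),
        ax_mul_self ha.ne, Matrix.mul_one, ax_mul_self hrU.ne]
    have := dval_so_lt hh hk ((isSO_ax hk hrU.ne).mul (isSO_ax hk ha.ne)) hXX hne1
    omega

end CfsgLib.MaxSub.TPow
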