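import Cfsg.Agent.Lib.MaxSub.TPow.Supp

/-!
Configurations without framed free slots, factors of dimension three.
-/

set_option autoImplicit false
set_option linter.unusedSectionVars false
set_option linter.style.haveILetI false

namespace CfsgLib.MaxSub.TPow

open Matrix CfsgLib.Aschbacher
open CfsgLib.Aschbacher.Orth (permMat_one)
open scoped MatrixGroups

variable {t k : ℕ} {F : Type*} [Field F] [Fintype F] [h2 : Fact ((2 : F) ≠ 0)]
variable {M : Subgroup (GL (Fin t → Fin k) F)} {S : Fin t → Finset (Fin k)}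

/-- the free slots -/
def freeSet (S : Fin t → Finset (Fin k)) : Finset (Fin t) := Finset.univ.filter fun m => Free S m

theorem mem_freeSet {m : Fin t} : m ∈ freeSet S ↔ Free S m := by simp [freeSet]

theorem wt_shape (hk : Odd k) (h3 : k = 3) {n : GL (Fin t → Fin k) F} {ε : F} {σ : Equiv.Perm (Fin t)}
    {b : Fin t → Matrix (Fin k) (Fin k) F} (hs : Shape n ε σ b) (hn : n * n = 1) :
    (dval (n : Matrix (Fin t → Fin k) (Fin t → Fin k) F)).natAbs * k ^ (cyc σ + (nt σ b).card) = k ^ t := by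
  classical
  have h := congrArg Int.natAbs (dval_shape_nt hk (by omega) hs hn)
  rw [Int.natAbs_mul, Int.natAbs_mul, Int.natAbs_mul, Int.natAbs_pow, Int.natAbs_pow, Int.natAbs_natCast,
    show (∏ i ∈ nt σ b, dval (b i)).natAbs = ∏ i ∈ nt σ b, (dval (b i)).natAbs from map_prod Int.natAbsHom _ _,
    Finset.prod_eq_one fun i hi => by
      obtain ⟨hfx, hne⟩ := mem_nt.1 hi
      refine natAbs_so_three h3 (hs.2.1 i) ?_ hne
      have := (hs.invol hk (by omega) hn).2 i
      rwa [hfx] at this] at h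
  rw [h]
  split <;> simp

/-- a wreath element of `L` with the value of `w` axes, more with every central one -/
theorem rigid (hk : Odd k) (h3 : k = 3) (hM : Good M) {n : GL (Fin t → Fin k) F} (hnL : n ∈ L M S)
    (hW : n ∈ Cfsg.Geo.tensorWreathStandard k t F) (hn2 : n * n = 1) (ht : 0 < t) {w : ℕ} (hw : w ≠ 0)
    (hd : dval (n : Matrix (Fin t → Fin k) (Fin t → Fin k) F) * (k : ℤ) ^ w = (k : ℤ) ^ t * (2 - (k : ℤ)) ^ w)
    (hce : ∀ p, ∀ s ∈ S p, ¬ Free S p → (dval ((n * A p (eC s) : GL (Fin t → Fin k) F) :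
      Matrix (Fin t → Fin k) (Fin t → Fin k) F)).natAbs * k ^ (w + 1) = k ^ t) :
    ∃ ε σ b, Shape n ε σ b ∧ cyc σ + (nt σ b).card = w ∧ (ε = 1 ↔ Even (cyc σ)) ∧
      (∀ m ∈ nt σ b, Free S m) ∧ 2 * cyc σ + (nt σ b).card ≤ (freeSet S).card ∧
      ∀ m, σ m ≠ m → Free S m := by
  classical
  have hh : (2 : F) ≠ 0 := h2.out
  have hk2 : 2 ≤ k := by omega
  obtain ⟨ε, σ, b, hs⟩ := shape_exists hk ht hW (mem_orth_of_L hM hnL)
  obtain ⟨hcj, -, -, hsgn⟩ := fus hk (by omega) hs hn2 hw hd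
  have hmv : ∀ m, σ m ≠ m → Free S m := by
    intro m hm
    by_contra hf
    obtain ⟨s, hs0⟩ := nonempty_of_not_free (by omega) hf
    exact hm (hs.comm_A hh hk hk2 (eC_ne s) ((mem_L.1 hnL).2 m s hs0)).1
  have hnt : ∀ m ∈ nt σ b, Free S m := by
    intro m hm
    by_contra hf
    obtain ⟨s, hs0⟩ := nonempty_of_not_free (by omega) hf
    have hc := (mem_L.1 hnL).2 m s hs0
    have hne2 : n * A m (eC s) * (n * A m (eC s)) = 1 := by
      rw [hc.symm.mul_mul_mul_comm, hn2, A_mul_self, one_mul]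
    have hs' := hs.mul (shape_A (F := F) hk m (eC_ne s))
    simp only [mul_one, Equiv.Perm.coe_one, id_eq] at hs'
    have h1 := wt_unique hk2 (wt_shape hk h3 hs' hne2) (hce m s hs0 hf)
    have hsub : nt σ (fun i => b i * Function.update (fun _ => (1 : Matrix (Fin k) (Fin k) F)) m
        (ax (eC s : Fin k → F)) i) ⊆ nt σ b := by
      intro i hi
      obtain ⟨h1', h2'⟩ := mem_nt.1 hi
      rcases eq_or_ne i m with rfl | him
      · exact hm
      · exact mem_nt.2 ⟨h1', by simpa [him] using h2'⟩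
    have := Finset.card_le_card hsub
    omega
  refine ⟨ε, σ, b, hs, hcj, hsgn, hnt, ?_, hmv⟩
  have hsub : (Finset.univ.filter fun m => ¬ σ m = m) ∪ nt σ b ⊆ freeSet S := by
    intro m hm
    rcases Finset.mem_union.1 hm with h | h
    · exact mem_freeSet.2 (hmv m (Finset.mem_filter.1 h).2)
    · exact mem_freeSet.2 (hnt m h)
  have h1 := Finset.card_le_card hsub
  rw [Finset.card_union_of_disjoint (by
    rw [Finset.disjoint_left]
    intro m hm hm'
    exact (Finset.mem_filter.1 hm).2 (mem_nt.1 hm').1)] at h1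
  have h2' := two_cyc (hs.invol hk hk2 hn2).1
  have h3' := Finset.card_filter_add_card_filter_not (s := (Finset.univ : Finset (Fin t))) (fun m => σ m = m)
  rw [Finset.card_univ, Fintype.card_fin] at h3'
  omega

theorem signed_pure (hk : Odd k) (hk2 : 2 ≤ k) {y : GL (Fin t → Fin k) F}
    {c : Fin t → Matrix (Fin k) (Fin k) F} (hy : Shape y 1 1 c) (hy2 : y * y = 1) {J : Finset (Fin t)}
    (hJ : ∀ m, m ∉ J → c m = 1) (hax : ∀ m ∈ J, ∃ v, v ⬝ᵥ v ≠ 0 ∧ c m = ax v) :
    dval (y : Matrix (Fin t → Fin k) (Fin t → Fin k) F) * (k : ℤ) ^ J.card =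
      (k : ℤ) ^ t * (2 - (k : ℤ)) ^ J.card := by
  rw [dval_pure_on h2.out hk hk2 hy hy2 J hJ, Finset.prod_congr rfl (g := fun _ => 2 - (k : ℤ)) (fun m hm => by
    obtain ⟨v, hv, e⟩ := hax m hm
    rw [e, dval_ax h2.out hv, Fintype.card_fin]), Finset.prod_const]

/-- all free slots carry axes without square value -/
theorem no_unit (hk : Odd k) (h3 : k = 3) (hM : Good M) (IH : IHyp S F) (h2f : TwoFree S)
    (hwh : ∀ m, Free S m → S m = ∅) {z : GL (Fin t → Fin k) F} {c : Fin t → Matrix (Fin k) (Fin k) F}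
    (hz : Shape z 1 1 c) (hz2 : z * z = 1) (hJ : ∀ m, c m ≠ 1 ↔ m ∈ freeSet S) {i : Fin t} (hi : Free S i) :
    CL M S z ≤ Cfsg.Geo.tensorWreathStandard k t F := by
  classical
  have hh : (2 : F) ≠ 0 := h2.out
  have hk2 : 2 ≤ k := by omega
  have hk3 : 3 ≤ k := by omega
  have hkc : 2 ≤ Fintype.card (Fin k) := by rw [Fintype.card_fin]; omega
  obtain ⟨i', hii, hi'⟩ := h2f i
  have hcinv := (hz.invol_iff hk hk2).1 hz2
  have hax : ∀ m, Free S m → ∃ h, h ⬝ᵥ h ≠ 0 ∧ c m = ax h := fun m hm =>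
    axial_three hh h3 (hz.2.1 m) (hcinv m) ((hJ m).2 (mem_freeSet.2 hm))
  obtain ⟨hi0, hhi0, hci⟩ := hax i hi
  obtain ⟨hi0', hhi0', hci'⟩ := hax i' hi'
  obtain ⟨e, he, hhe, -⟩ := exists_unit_perp hh hhi0 (S := ∅) (by simp) (by simp; omega)
  obtain ⟨r, hr, hhr, -⟩ := exists_unit_perp hh hhi0' (S := ∅) (by simp) (by simp; omega)
  have heh : e ⬝ᵥ hi0 = 0 := by rw [dotProduct_comm]; exact hhe
  have hrh : r ⬝ᵥ hi0' = 0 := by rw [dotProduct_comm]; exact hhr
  have heU : IsU S i e := ⟨he, fun s hs => by rw [hwh i hi] at hs; simp at hs⟩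
  have hrU : IsU S i' r := ⟨hr, fun s hs => by rw [hwh i' hi'] at hs; simp at hs⟩
  set x1 : GL (Fin t → Fin k) F := A i e with hx1
  set y1 : GL (Fin t → Fin k) F := x1 * A i' r with hy1
  have hxz : Commute x1 z := comm_A_shape hk hz i heU.ne (by rw [hci]; exact ax_comm_orth heh)
  have hrz : Commute (A i' r) z := comm_A_shape hk hz i' hrU.ne (by rw [hci']; exact ax_comm_orth hrh)
  have hxG : x1 ∈ CL M S z := mem_CL.2 ⟨A_mem_L hk hM heU, hxz⟩
  have hyG : y1 ∈ CL M S z := mul_mem hxG (mem_CL.2 ⟨A_mem_L hk hM hrU, hrz⟩)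
  have hGz : ∀ g ∈ CL M S z, Commute g z := fun g hg => (mem_CL.1 hg).2
  have hxr : Commute x1 (A i' r) := A_comm_ne hii e r
  have hy2 : y1 * y1 = 1 := by rw [hy1, hxr.symm.mul_mul_mul_comm, hx1, A_mul_self, A_mul_self, one_mul]
  have hyS := shape_mul_one hk (shape_A hk i' hrU.ne) i heU.ne
  have hySupp : ∀ m, (if m = i then ax e * Function.update (fun _ => (1 : Matrix (Fin k) (Fin k) F)) i' (ax r) m
      else Function.update (fun _ => (1 : Matrix (Fin k) (Fin k) F)) i' (ax r) m) ≠ 1 ↔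
        m ∈ ({i, i'} : Finset (Fin t)) := by
    intro m
    split
    · next hm => simp [hm, hii, ax_ne_one hh hkc]
    · next hm =>
      rcases eq_or_ne m i' with rfl | hm'
      · simp [ax_ne_one hh hkc]
      · simp [hm, hm']
  have wy1 := wt_pure hk h3 hyS hy2 hySupp
  rw [Finset.card_pair hii] at wy1
  have wx1 := congrArg Int.natAbs (dval_A (F := F) hk hk2 i heU.ne)
  rw [Int.natAbs_mul, Int.natAbs_mul, Int.natAbs_pow, Int.natAbs_natCast,
    show (2 - (k : ℤ)).natAbs = 1 by omega, mul_one] at wx1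
  have hne : ¬ ConjIn (CL M S z) x1 y1 := by
    intro h
    have := wt_unique (a := 2) (b := 1) hk2 wy1 (by rw [pow_one, ← hy1, h.dval_eq']; exact wx1)
    omega
  -- weight of `y1 z`
  have wyz : (dval ((y1 * z : GL (Fin t → Fin k) F) : Matrix (Fin t → Fin k) (Fin t → Fin k) F)).natAbs *
      k ^ (freeSet S).card = k ^ t := by
    have hs := shape_mul_one hk (shape_mul_one hk hz i' hrU.ne) i heU.ne
    rw [hy1, mul_assoc]
    refine wt_pure hk h3 hs ?_ (fun m => ?_)
    · rw [← mul_assoc (A i e) (A i' r) z, ← hx1, ← hy1, (hGz y1 hyG).symm.mul_mul_mul_comm, hy2, hz2, one_mul]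
    · rcases eq_or_ne m i with rfl | hmi
      · simp [hii, mem_freeSet, hi, hci, orth_mul_ne_one heU.ne hhi0 heh]
      rw [if_neg hmi]
      rcases eq_or_ne m i' with rfl | hmi'
      · simp [mem_freeSet, hi', hci', orth_mul_ne_one hrU.ne hhi0' hrh]
      rw [if_neg hmi']
      exact hJ m
  -- conjugates of `y1` in the wreath subgroup
  have classify : ∀ {n : GL (Fin t → Fin k) F}, ConjIn (CL M S z) y1 n → n ∈ Cfsg.Geo.tensorWreathStandard k t F →
      ∃ b, Shape n 1 1 b ∧ (nt 1 b).card = 2 ∧ (∀ m, b m ≠ 1 ↔ m ∈ nt 1 b) ∧ (∀ m ∈ nt 1 b, Free S m) ∧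
        ∀ m, Free S m → b m * c m ≠ 1 := by
    intro n hc hW
    have hnG := hc.mem hyG
    have hn2 := hc.sq hy2
    have hdy := signed_pure hk hk2 hyS hy2 (J := {i, i'})
      (fun m hm => not_not.1 fun h => hm ((hySupp m).1 h)) fun m hm => by
        simp only [Finset.mem_insert, Finset.mem_singleton] at hm
        rcases hm with rfl | rfl
        · exact ⟨e, heU.ne, by simp [hii]⟩
        · exact ⟨r, hrU.ne, by simp [hii.symm]⟩
    rw [Finset.card_pair hii, ← hy1, ← hc.dval_eq'] at hdy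
    obtain ⟨ε, σ, b, hs, hcj, hsgn, hnt, hle, hmv⟩ := rigid hk h3 hM (CL_le hnG) hW hn2 (Fin.pos i)
      (w := 2) (by norm_num) hdy (fun p s hs0 hf => by
        have hpi : p ≠ i := fun e' => hf (e' ▸ hi)
        have hpi' : p ≠ i' := fun e' => hf (e' ▸ hi')
        have hye : Commute y1 (A p (eC s)) := (mem_L.1 (CL_le hyG)).2 p s hs0
        rw [hc.dval_eq (c := A p (eC s)) fun g hg => (mem_L.1 (CL_le hg)).2 p s hs0, hye.eq]
        have := wt_pure hk h3 (shape_mul_one hk hyS p (eC_ne (F := F) s))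
          (by rw [← hy1, hye.mul_mul_mul_comm, A_mul_self, hy2, one_mul]) (J := insert p {i, i'}) (fun m => by
            rcases eq_or_ne m p with rfl | hmp
            · simp [hpi, hpi', ax_ne_one hh hkc]
            rw [if_neg hmp, Finset.mem_insert]
            exact (hySupp m).trans (by simp [hmp]))
        rw [Finset.card_insert_of_notMem (by simp [hpi, hpi']), Finset.card_pair hii] at this
        exact this)
    have hnz2 : n * z * (n * z) = 1 := by rw [(hGz n hnG).symm.mul_mul_mul_comm, hn2, hz2, one_mul]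
    have hsz := hs.mul hz
    simp only [mul_one, Equiv.Perm.coe_one, id_eq] at hsz
    have h1 := wt_unique hk2 (wt_shape hk h3 hsz hnz2) (by rw [hc.dval_eq hGz]; exact wyz)
    have hsub : nt σ (fun m => b m * c m) ⊆ (freeSet S).filter fun m => σ m = m := by
      intro m hm
      obtain ⟨hm1, hm2⟩ := mem_nt.1 hm
      refine Finset.mem_filter.2 ⟨?_, hm1⟩
      by_contra hf
      apply hm2
      rw [show b m = 1 from not_not.1 fun h => hf (mem_freeSet.2 (hnt m (mem_nt.2 ⟨hm1, h⟩))),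
        show c m = 1 from not_not.1 fun h => hf ((hJ m).1 h), Matrix.mul_one]
    have hfil : ((freeSet S).filter fun m => σ m = m).card + 2 * cyc σ = (freeSet S).card := by
      have h2' := two_cyc (hs.invol hk hk2 hn2).1
      have h3' := Finset.card_filter_add_card_filter_not (s := (Finset.univ : Finset (Fin t))) (fun m => σ m = m)
      rw [Finset.card_univ, Fintype.card_fin] at h3'
      have h4 := Finset.card_filter_add_card_filter_not (s := freeSet S) (fun m => σ m = m)
      have h5 : ((freeSet S).filter fun m => ¬ σ m = m) = Finset.univ.filter fun m => ¬ σ m = m :=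
        Finset.ext fun m => by simpa [mem_freeSet] using hmv m
      rw [h5] at h4
      omega
    have hcle := Finset.card_le_card hsub
    have hc0 : cyc σ = 0 := by omega
    have hσ := perm_eq_one_of_cyc (hs.invol hk hk2 hn2).1 hc0
    subst hσ
    have hε : ε = 1 := hsgn.2 (by rw [hc0]; exact ⟨0, rfl⟩)
    subst hε
    refine ⟨b, hs, by omega, fun m => by simp [mem_nt], hnt, fun m hm => ?_⟩
    have heq := Finset.eq_of_subset_of_card_le hsub (by omega)
    have : m ∈ nt 1 fun m => b m * c m := by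
      rw [heq]; exact Finset.mem_filter.2 ⟨mem_freeSet.2 hm, rfl⟩
    exact (mem_nt.1 this).2
  intro g hg
  have hW := engine hxG hyG (A_mul_self i e) hy2 hne (A_mem_wreath i e)
    (fun g' hg' hc => child hk hM IH hi heU (CL_le hg') hc) ?_ hg
  · obtain ⟨b, hb, hb2, hbs, hbf, -⟩ := classify ⟨g, hg, rfl⟩ hW
    obtain ⟨j, hj⟩ := Finset.card_pos.1 (show 0 < (nt 1 b).card by omega)
    exact find_three hk h3 hM IH h2f hyS hy2 hySupp
      (cross hk hk3 hM IH h2f hii (by rw [hwh i hi, Finset.card_empty]; omega) hi' heU hrU) (CL_le hg) hb hbs hj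
      (hwh j (hbf j hj))
  intro y' n hyy' hnG hnW hn2 hnx hcx hcy hcase
  have hy'G := hyy'.mem hyG
  rcases hcase with hc | hc
  · exact CL_mul_single hk hk3 hM IH h2f (by rw [hwh i hi, Finset.card_empty]; omega) heU hi heU
      (hc.1.mono CL_le) hnW hnx hcx (mem_CL.2 ⟨CL_le hy'G, hcy⟩)
  obtain ⟨b, hb, hb2, hbs, hbf, hbc⟩ := classify hc.1 hnW
  set z' : GL (Fin t → Fin k) F := x1 * n with hz'
  have hz'S := shape_mul_one hk hb i heU.ne
  have hz'2 : z' * z' = 1 := by rw [hz', hcx.mul_mul_mul_comm, hx1, A_mul_self, hn2, one_mul]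
  have hy'L := CL_le hy'G
  by_cases h1 : ax e * b i = 1
  · -- the slot `i` disappears
    refine zj hk h3 hM IH h2f hz'S hz'2 (J := (nt 1 b).erase i) (fun m => ?_) ?_
      (fun m hm => hwh m (hbf m (Finset.mem_of_mem_erase hm)))
      (Or.inr ⟨i, Finset.notMem_erase i _, hwh i hi⟩) (mem_CL.2 ⟨hy'L, hcy⟩)
    · split
      · next hm => simp [hm, h1]
      · next hm => rw [hbs, Finset.mem_erase]; simp [hm]
    · rw [← Finset.card_pos]
      have := Finset.pred_card_le_card_erase (s := nt 1 b) (a := i)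
      omega
  by_cases h1b : b i = 1
  · -- the unit axis survives
    refine zj hk h3 hM IH h2f hz'S hz'2 (J := insert i (nt 1 b)) (fun m => ?_) ⟨i, Finset.mem_insert_self _ _⟩
      (fun m hm => ?_) (Or.inl ⟨i, Finset.mem_insert_self _ _, e, he, by simp [h1b]⟩) (mem_CL.2 ⟨hy'L, hcy⟩)
    · split
      · next hm => simp [hm, h1b, ax_ne_one hh hkc]
      · next hm => rw [hbs, Finset.mem_insert]; simp [hm]
    · rcases Finset.mem_insert.1 hm with rfl | hm
      exacts [hwh m hi, hwh m (hbf m hm)]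
  -- three axes in slot `i`
  obtain ⟨v, hv, hbv⟩ := axial_three hh h3 (hb.2.1 i) ((hb.invol_iff hk hk2).1 hn2 i) h1b
  have hve : v ⬝ᵥ e = 0 := by
    have hcc := hb.comm hk hk2 (shape_A hk i heU.ne) hcx i
    simp only [Function.update_self, Equiv.Perm.coe_one, id_eq, hbv] at hcc
    rcases eq_or_orth_of_comm hh hv heU.ne hcc with ⟨l, hl, hlv⟩ | ho
    · refine absurd ?_ h1
      rw [hbv, show ax e = ax v by rw [hlv, ax_smul v hl], ax_mul_self hv]
    · exact ho
  have hvh : v ⬝ᵥ hi0 = 0 := by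
    have hcc := hb.comm hk hk2 hz (hGz n hnG) i
    simp only [Equiv.Perm.coe_one, id_eq, hbv, hci] at hcc
    rcases eq_or_orth_of_comm hh hv hhi0 hcc with ⟨l, hl, hlv⟩ | ho
    · refine absurd ?_ (hbc i hi)
      rw [hbv, hci, hlv, ax_smul v hl, ax_mul_self hv]
    · exact ho
  have hT := triple_three hk h3 heU.ne hv hhi0 (by rw [dotProduct_comm]; exact hve) heh hvh
  have hs2 := hz'S.mul hz
  simp only [one_mul, mul_one, Equiv.Perm.coe_one, id_eq] at hs2
  have hxnz : Commute z' z := hxz.mul_left (hGz n hnG)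
  refine zj hk h3 hM IH h2f hs2 (by rw [← hz', hxnz.symm.mul_mul_mul_comm, hz'2, hz2, one_mul])
    (J := (freeSet S).erase i) (fun m => ?_) ⟨i', ?_⟩
    (fun m hm => hwh m (mem_freeSet.1 (Finset.mem_of_mem_erase hm)))
    (Or.inr ⟨i, Finset.notMem_erase i _, hwh i hi⟩) (mem_CL.2 ⟨hy'L, hcy.mul_right (hGz y' hy'G)⟩)
  · rcases eq_or_ne m i with rfl | hm
    · simp [hbv, hci, hT]
    simp only [hm, if_false, Finset.mem_erase]
    by_cases hmf : Free S m
    · simp [hm, mem_freeSet, hmf, hbc m hmf]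
    · rw [show b m = 1 from not_not.1 fun h => hmf (hbf m ((hbs m).1 h)), Matrix.one_mul, hJ m]
      simp [hm]
  · exact Finset.mem_erase.2 ⟨hii.symm, mem_freeSet.2 hi'⟩

/-- all free slots are without frames, factors of dimension three -/
theorem global_three (hk : Odd k) (h3 : k = 3) (hM : Good M) (IH : IHyp S F) (h2f : TwoFree S)
    (hwh : ∀ m, Free S m → S m = ∅) {i : Fin t} (hi : Free S i) :
    L M S ≤ Cfsg.Geo.tensorWreathStandard k t F := by
  classical
  have hh : (2 : F) ≠ 0 := h2.out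
  have hk2 : 2 ≤ k := by omega
  have hk3 : 3 ≤ k := by omega
  have hkc : 2 ≤ Fintype.card (Fin k) := by rw [Fintype.card_fin]; omega
  obtain ⟨i', hii, hi'⟩ := h2f i
  set x0 : Fin k := ⟨0, by omega⟩
  set a : Fin k → F := eC x0 with ha0
  have ha1 : a ⬝ᵥ a = 1 := eC_self x0
  have hU : ∀ m, Free S m → IsU S m a := fun m hm => ⟨ha1, fun s hs => by rw [hwh m hm] at hs; simp at hs⟩
  have haU := hU i hi
  -- the product of one unit axis in every free slot
  set Y : Finset (Fin t) → GL (Fin t → Fin k) F :=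
    fun J => pureGL (fun m => if m ∈ J then axU a else 1) with hYdef
  have hYstep : ∀ (J : Finset (Fin t)) m, m ∉ J → Y (insert m J) = A m a * Y J := by
    intro J m hm
    simp only [hYdef]
    rw [A_eq_pureGL, ← map_mul]
    congr 1
    funext l
    rcases eq_or_ne l m with rfl | hl
    · simp [hm]
    · simp [hl]
  have hYprop : ∀ J : Finset (Fin t), (∀ m ∈ J, Free S m) → Y J ∈ L M S ∧
      Shape (Y J) 1 1 (fun m => if m ∈ J then ax a else 1) ∧ Y J * Y J = 1 := by
    intro J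
    induction J using Finset.induction_on with
    | empty =>
        intro _
        have : Y ∅ = 1 := by simp [hYdef, ← Pi.one_def]
        rw [this]
        exact ⟨one_mem _, by simpa using shape_one, one_mul 1⟩
    | insert m J hm ih =>
        intro hJ
        obtain ⟨h1, h2', h3'⟩ := ih fun l hl => hJ l (Finset.mem_insert_of_mem hl)
        have hmU := hU m (hJ m (Finset.mem_insert_self m J))
        have hcom : Commute (A m a) (Y J) := comm_A_shape hk h2' m hmU.ne (by simp [hm])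
        rw [hYstep J m hm]
        refine ⟨mul_mem (A_mem_L hk hM hmU) h1, ?_, by rw [hcom.symm.mul_mul_mul_comm, A_mul_self, h3', one_mul]⟩
        convert shape_mul_one hk h2' m hmU.ne using 1
        funext l
        rcases eq_or_ne l m with rfl | hl
        · simp [hm]
        · simp [hl]
  obtain ⟨hYL, hYS, hY2⟩ := hYprop (freeSet S) fun m hm => mem_freeSet.1 hm
  set y := Y (freeSet S)
  have hYsupp : ∀ m, (if m ∈ freeSet S then ax a else (1 : Matrix (Fin k) (Fin k) F)) ≠ 1 ↔ m ∈ freeSet S :=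
    fun m => by split <;> simp_all [ax_ne_one hh hkc]
  have hf2 : 2 ≤ (freeSet S).card := by
    rw [← Finset.card_pair hii]
    refine Finset.card_le_card ?_
    intro m hm
    simp only [Finset.mem_insert, Finset.mem_singleton] at hm
    rcases hm with rfl | rfl
    exacts [mem_freeSet.2 hi, mem_freeSet.2 hi']
  have wy := wt_pure hk h3 hYS hY2 hYsupp
  have wx := congrArg Int.natAbs (dval_A (F := F) hk hk2 i haU.ne)
  rw [Int.natAbs_mul, Int.natAbs_mul, Int.natAbs_pow, Int.natAbs_natCast,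
    show (2 - (k : ℤ)).natAbs = 1 by omega, mul_one] at wx
  have hne : ¬ ConjIn (L M S) (A i a) y := by
    intro h
    rw [h.dval_eq'] at wy
    have := wt_unique (b := 1) hk2 wy (by rw [pow_one]; exact wx)
    omega
  have classify : ∀ {n : GL (Fin t → Fin k) F}, ConjIn (L M S) y n → n ∈ Cfsg.Geo.tensorWreathStandard k t F →
      ∃ b, Shape n 1 1 b ∧ ∀ m, b m ≠ 1 ↔ m ∈ freeSet S := by
    intro n hc hW
    have hn2 := hc.sq hY2
    have hdy := signed_pure hk hk2 hYS hY2 (J := freeSet S) (fun m hm => if_neg hm)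
      fun m hm => ⟨a, haU.ne, if_pos hm⟩
    rw [← hc.dval_eq'] at hdy
    obtain ⟨ε, σ, b, hs, hcj, hsgn, hnt, hle, hmv⟩ := rigid hk h3 hM (hc.mem hYL) hW hn2 (Fin.pos i)
      (w := (freeSet S).card) (by omega) hdy (fun p s hs0 hf => by
        have hp : p ∉ freeSet S := fun h => hf (mem_freeSet.1 h)
        have hye : Commute y (A p (eC s)) := (mem_L.1 hYL).2 p s hs0
        rw [hc.dval_eq (c := A p (eC s)) fun g hg => (mem_L.1 hg).2 p s hs0, hye.eq]
        have := wt_pure hk h3 (shape_mul_one hk hYS p (eC_ne (F := F) s))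
          (by rw [hye.mul_mul_mul_comm, A_mul_self, hY2, one_mul]) (J := insert p (freeSet S)) (fun m => by
            rcases eq_or_ne m p with rfl | hmp
            · simp [hp, ax_ne_one hh hkc]
            rw [if_neg hmp, Finset.mem_insert]
            exact (hYsupp m).trans (by simp [hmp]))
        rw [Finset.card_insert_of_notMem hp] at this
        exact this)
    have hc0 : cyc σ = 0 := by omega
    have hσ := perm_eq_one_of_cyc (hs.invol hk hk2 hn2).1 hc0
    subst hσ
    have hε : ε = 1 := hsgn.2 (by rw [hc0]; exact ⟨0, rfl⟩)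
    subst hε
    have heq : nt 1 b = freeSet S :=
      Finset.eq_of_subset_of_card_le (fun m hm => mem_freeSet.2 (hnt m hm)) (by omega)
    exact ⟨b, hs, fun m => by rw [← heq, mem_nt]; simp⟩
  intro g hg
  have hW := engine (A_mem_L hk hM haU) hYL (A_mul_self i a) hY2 hne (A_mem_wreath i a)
    (fun g' hg' hc => child hk hM IH hi haU hg' hc) ?_ hg
  · obtain ⟨b, hb, hbs⟩ := classify ⟨g, hg, rfl⟩ hW
    refine find_three hk h3 hM IH h2f hYS hY2 hYsupp ?_ hg hb hbs (mem_freeSet.2 hi) (hwh i hi)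
    exact zj hk h3 hM IH h2f hYS hY2 hYsupp ⟨i, mem_freeSet.2 hi⟩ (fun m hm => hwh m (mem_freeSet.1 hm))
      (Or.inl ⟨i, mem_freeSet.2 hi, a, ha1, if_pos (mem_freeSet.2 hi)⟩)
  intro y' n hyy' hnL hnW hn2 hnx hcx hcy hcase
  have hy'L := hyy'.mem hYL
  rcases hcase with hc | hc
  · exact CL_mul_single hk hk3 hM IH h2f (by rw [hwh i hi, Finset.card_empty]; omega) haU hi haU hc.1 hnW hnx hcx
      (mem_CL.2 ⟨hy'L, hcy⟩)
  obtain ⟨b, hb, hbs⟩ := classify hc.1 hnW
  have hz'S := shape_mul_one hk hb i haU.ne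
  have hz'2 : A i a * n * (A i a * n) = 1 := by rw [hcx.mul_mul_mul_comm, A_mul_self, hn2, one_mul]
  have hwhJ : ∀ m ∈ freeSet S, S m = ∅ := fun m hm => hwh m (mem_freeSet.1 hm)
  by_cases h1 : ax a * b i = 1
  · refine zj hk h3 hM IH h2f hz'S hz'2 (J := (freeSet S).erase i) (fun m => ?_) ⟨i', ?_⟩
      (fun m hm => hwhJ m (Finset.mem_of_mem_erase hm)) (Or.inr ⟨i, Finset.notMem_erase i _, hwh i hi⟩)
      (mem_CL.2 ⟨hy'L, hcy⟩)
    · split
      · next hm => simp [hm, h1]
      · next hm => rw [hbs, Finset.mem_erase]; simp [hm]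
    · exact Finset.mem_erase.2 ⟨hii.symm, mem_freeSet.2 hi'⟩
  have hsupp : ∀ m, (if m = i then ax a * b m else b m) ≠ 1 ↔ m ∈ freeSet S := fun m => by
    split
    · next hm => simp [hm, h1, mem_freeSet, hi]
    · exact hbs m
  by_cases hu : ∃ l ∈ freeSet S, ∃ h : Fin k → F, h ⬝ᵥ h = 1 ∧ (if l = i then ax a * b l else b l) = ax h
  · exact zj hk h3 hM IH h2f hz'S hz'2 hsupp ⟨i, mem_freeSet.2 hi⟩ hwhJ (Or.inl hu) (mem_CL.2 ⟨hy'L, hcy⟩)
  · exact no_unit hk h3 hM IH h2f hwh hz'S hz'2 hsupp hi (mem_CL.2 ⟨hy'L, hcy⟩)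

end CfsgLib.MaxSub.TPow
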