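import Cfsg.Agent.Lib.MaxSub.TPow.Pair

/-!
The configurations in which every free slot has exactly two coordinates off the frame.
-/

set_option autoImplicit false
set_option linter.unusedSectionVars false
set_option linter.style.haveILetI false

namespace CfsgLib.MaxSub.TPow

open Matrix CfsgLib.Aschbacher
open CfsgLib.Aschbacher.Orth (exists_factorisation)
open scoped MatrixGroups

variable {t k : ℕ} {F : Type*} [Field F] [Fintype F] [h2 : Fact ((2 : F) ≠ 0)]
variable {M : Subgroup (GL (Fin t → Fin k) F)} {S : Fin t → Finset (Fin k)}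

namespace Planes

theorem slot_mul_apply (i : Fin t) (X : Matrix (Fin k) (Fin k) F)
    (N : Matrix (Fin t → Fin k) (Fin t → Fin k) F) (p q : Fin t → Fin k) :
    (slot i X * N) p q = ∑ u, X (p i) u * N (Function.update p i u) q := by
  rw [Matrix.mul_apply]
  have hinj : Function.Injective fun a => Function.update p i a := fun a b e => by simpa using congrFun e i
  refine (Fintype.sum_of_injective _ hinj _ _ (fun r hr => ?_) fun a => ?_).symm
  · rw [slot_smul_apply, if_neg, zero_mul]
    exact fun h => hr ⟨r i, funext fun j => by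
      rcases eq_or_ne j i with rfl | hj
      · simp
      · simp [hj, h j hj]⟩
  · rw [slot_smul_apply, if_pos fun j hj => by simp [hj], Function.update_self]

theorem mul_slot_apply (i : Fin t) (X : Matrix (Fin k) (Fin k) F)
    (N : Matrix (Fin t → Fin k) (Fin t → Fin k) F) (p q : Fin t → Fin k) :
    (N * slot i X) p q = ∑ u, N p (Function.update q i u) * X u (q i) := by
  rw [Matrix.mul_apply]
  have hinj : Function.Injective fun a => Function.update q i a := fun a b e => by simpa using congrFun e i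
  refine (Fintype.sum_of_injective _ hinj _ _ (fun r hr => ?_) fun a => ?_).symm
  · rw [slot_smul_apply, if_neg, mul_zero]
    exact fun h => hr ⟨r i, funext fun j => by
      rcases eq_or_ne j i with rfl | hj
      · simp
      · simp [hj, h j hj]⟩
  · rw [slot_smul_apply, if_pos fun j hj => by simp [hj], Function.update_self]

/-- an axial element of slot `i` and one commuting with it -/
theorem comm_A_cases (hk : Odd k) (hk2 : 2 ≤ k) {i : Fin t} {a v : Fin k → F} (ha : a ⬝ᵥ a ≠ 0) (hv : v ⬝ᵥ v ≠ 0)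
    (h : Commute (A i v : GL (Fin t → Fin k) F) (A i a)) : A i v = A i a ∨ v ⬝ᵥ a = 0 := by
  have e := (shape_A hk i hv).comm hk hk2 (shape_A hk i ha) h i
  simp only [Function.update_self, Equiv.Perm.coe_one, id_eq] at e
  rcases eq_or_orth_of_comm h2.out hv ha e with ⟨l, hl, hlv⟩ | ho
  · exact Or.inl (by rw [hlv, A_smul i v hl])
  · exact Or.inr ho

/-- with frames everywhere, conjugates of an axial element stay in its slot -/
theorem conj_axial (hk : Odd k) (hk3 : 3 ≤ k) (hM : Good M) (hne : ∀ m, (S m).Nonempty) {i : Fin t} (hi : Free S i)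
    {a : Fin k → F} (ha : IsU S i a) {n : GL (Fin t → Fin k) F} (hc : ConjIn (L M S) (A i a) n)
    (hW : n ∈ Cfsg.Geo.tensorWreathStandard k t F) : ∃ v, IsU S i v ∧ n = A i v := by
  have hL := hc.mem (A_mem_L hk hM ha)
  rcases conj_single hk hk3 hM ha hc hW with ⟨j, v, hv, rfl⟩ | ⟨-, b, u, w, huw, hs, -⟩
  · obtain ⟨g, hg, e⟩ := hc
    obtain ⟨-, hvU, hty⟩ := single_slot hk hk3 hM hi ha hg hv e
    rcases eq_or_ne j i with rfl | hji
    · exact ⟨v, hvU, rfl⟩
    · exact absurd (hty hji).1 (hne i).ne_empty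
  · obtain ⟨s, hs'⟩ := hne u
    have := (hs.comm_A h2.out hk (by omega) (eC_ne s) ((mem_L.1 hL).2 u s hs')).1
    rw [Equiv.swap_apply_left] at this
    exact absurd this.symm huw

/-- the identity on two blocks of different slots is all of a wreath element -/
theorem eq_one_of_blocks (hk2 : 2 ≤ k) {Y : GL (Fin t → Fin k) F} (hY : Y ∈ Cfsg.Geo.tensorWreathStandard k t F)
    {i l : Fin t} (hil : i ≠ l) {s s' : Fin k}
    (h : ∀ p q, (p i = s ∨ p l = s') →
      (Y : Matrix (Fin t → Fin k) (Fin t → Fin k) F) p q = (1 : Matrix (Fin t → Fin k) (Fin t → Fin k) F) p q) :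
    Y = 1 := by
  classical
  obtain ⟨σ, a, ha⟩ := exists_factorisation hY
  have hYe : ∀ p q, (Y : Matrix (Fin t → Fin k) (Fin t → Fin k) F) p q =
      ∏ j, (a j : Matrix (Fin k) (Fin k) F) (p (σ j)) (q j) := fun p q => by
    rw [ha, permMat_mul_apply]; rfl
  obtain ⟨p₀, hp₀⟩ : ∃ p₀ : Fin t → Fin k, p₀ = Function.update (fun _ => s) l s' := ⟨_, rfl⟩
  have hp₀i : p₀ i = s := by rw [hp₀, Function.update_of_ne hil]
  have hp₀l : p₀ l = s' := by rw [hp₀, Function.update_self]
  have hblock : ∀ (j : Fin t) (x : Fin k),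
      Function.update p₀ j x i = s ∨ Function.update p₀ j x l = s' := by
    intro j x
    rcases eq_or_ne j i with rfl | hj
    · exact Or.inr (by rw [Function.update_of_ne hil.symm, hp₀l])
    · exact Or.inl (by rw [Function.update_of_ne hj.symm, hp₀i])
  have h00 : ∀ j, (a j : Matrix (Fin k) (Fin k) F) (p₀ (σ j)) (p₀ j) ≠ 0 := by
    intro j
    have h1 : ∏ j, (a j : Matrix (Fin k) (Fin k) F) (p₀ (σ j)) (p₀ j) ≠ 0 := by
      rw [← hYe, h p₀ p₀ (Or.inl hp₀i), Matrix.one_apply_eq]; exact one_ne_zero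
    exact Finset.prod_ne_zero_iff.1 h1 j (Finset.mem_univ j)
  have hσ : σ = 1 := by
    refine Equiv.ext fun j => ?_
    by_contra hne
    haveI : Nontrivial (Fin k) := Fin.nontrivial_iff_two_le.2 hk2
    obtain ⟨x, hx⟩ := exists_ne (p₀ j)
    have e1 : (a j : Matrix (Fin k) (Fin k) F) (p₀ (σ j)) x = 0 := by
      have h1 := hYe p₀ (Function.update p₀ j x)
      rw [h _ _ (Or.inl hp₀i), Matrix.one_apply_ne fun e => hx (by rw [congrFun e j, Function.update_self])] at h1
      obtain ⟨m, -, hm⟩ := Finset.prod_eq_zero_iff.1 h1.symm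
      rcases eq_or_ne m j with rfl | hmj
      · rwa [Function.update_self] at hm
      · rw [Function.update_of_ne hmj] at hm; exact absurd hm (h00 m)
    have h1 := hYe (Function.update p₀ j x) (Function.update p₀ j x)
    rw [h _ _ (hblock j x), Matrix.one_apply_eq, Finset.prod_eq_zero (Finset.mem_univ j)
      (by rw [Function.update_of_ne (show σ j ≠ j from hne), Function.update_self, e1])] at h1
    exact one_ne_zero h1
  subst hσ
  simp only [Equiv.Perm.coe_one, id_eq] at hYe h00
  obtain ⟨R, hR⟩ : ∃ R : Fin t → F,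
      R = fun j => ∏ m ∈ Finset.univ.erase j, (a m : Matrix (Fin k) (Fin k) F) (p₀ m) (p₀ m) := ⟨_, rfl⟩
  have hR0 : ∀ j, R j ≠ 0 := fun j => by
    rw [hR]; exact Finset.prod_ne_zero_iff.2 fun m _ => h00 m
  have hj : ∀ j x y, (a j : Matrix (Fin k) (Fin k) F) x y * R j = if x = y then 1 else 0 := by
    intro j x y
    have h1 := hYe (Function.update p₀ j x) (Function.update p₀ j y)
    rw [← Finset.mul_prod_erase _ _ (Finset.mem_univ j), Function.update_self, Function.update_self,
      Finset.prod_congr rfl (g := fun m => (a m : Matrix (Fin k) (Fin k) F) (p₀ m) (p₀ m)) fun m hm => by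
        rw [Function.update_of_ne (Finset.ne_of_mem_erase hm), Function.update_of_ne (Finset.ne_of_mem_erase hm)],
      h _ _ (hblock j x), Matrix.one_apply] at h1
    rw [hR]
    refine h1.symm.trans (if_congr ?_ rfl rfl)
    exact ⟨fun e => by simpa using congrFun e j, fun e => by rw [e]⟩
  refine Units.ext (Matrix.ext fun p q => ?_)
  have hd : ∀ j x y, (a j : Matrix (Fin k) (Fin k) F) x y = if x = y then (R j)⁻¹ else 0 := fun j x y => by
    have h1 := hj j x y
    split_ifs at h1 ⊢
    · exact eq_inv_of_mul_eq_one_left h1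
    · exact (mul_eq_zero.1 h1).resolve_right (hR0 j)
  have h1 : ∏ j, (R j)⁻¹ = 1 := by
    have h1 := hYe p₀ p₀
    rw [h _ _ (Or.inl hp₀i), Matrix.one_apply_eq] at h1
    simpa [hd] using h1.symm
  rw [hYe, Units.val_one, Matrix.one_apply]
  split_ifs with e
  · subst e; simpa [hd] using h1
  · obtain ⟨j, hj'⟩ := Function.ne_iff.1 e
    exact Finset.prod_eq_zero (Finset.mem_univ j) (by rw [hd, if_neg hj'])

/-- rows of framed coordinates of two slots -/
def InBlock (S : Fin t → Finset (Fin k)) (i l : Fin t) (p : Fin t → Fin k) : Prop := p i ∈ S i ∨ p l ∈ S l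

theorem L_inBlock {g : GL (Fin t → Fin k) F} (hg : g ∈ L M S) {i l : Fin t} {p q : Fin t → Fin k}
    (hp : InBlock S i l p) (hpq : (g : Matrix (Fin t → Fin k) (Fin t → Fin k) F) p q ≠ 0) : InBlock S i l q := by
  rcases hp with hp | hp
  · exact Or.inl (L_block hg i hpq (Or.inl hp) ▸ hp)
  · exact Or.inr (L_block hg l hpq (Or.inl hp) ▸ hp)

theorem inBlock_of {i l : Fin t} {s s' : Fin k} (hs : s ∈ S i) (hs' : s' ∈ S l) {p : Fin t → Fin k}
    (h : p i = s ∨ p l = s') : InBlock S i l p :=
  h.elim (fun e => Or.inl (e ▸ hs)) (fun e => Or.inr (e ▸ hs'))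

/-- the elements of `L` that are the identity on the framed rows of two slots -/
def blockK (M : Subgroup (GL (Fin t → Fin k) F)) (S : Fin t → Finset (Fin k)) (i l : Fin t) :
    Subgroup (GL (Fin t → Fin k) F) where
  carrier := {Y | Y ∈ L M S ∧ ∀ p q, InBlock S i l p →
    (Y : Matrix (Fin t → Fin k) (Fin t → Fin k) F) p q = (1 : Matrix (Fin t → Fin k) (Fin t → Fin k) F) p q}
  one_mem' := ⟨one_mem _, fun p q _ => by rw [Units.val_one]⟩
  mul_mem' {X Y} hX hY := ⟨mul_mem hX.1 hY.1, fun p q hp => by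
    rw [Units.val_mul, Matrix.mul_apply, Finset.sum_eq_single p (fun r _ hr => by
      rw [hX.2 p r hp, Matrix.one_apply_ne hr.symm, zero_mul]) (by simp), hX.2 p p hp, Matrix.one_apply_eq, one_mul,
      hY.2 p q hp]⟩
  inv_mem' {X} hX := ⟨inv_mem hX.1, fun p q hp => by
    have h1 := congrArg (fun Z : GL (Fin t → Fin k) F => (Z : Matrix (Fin t → Fin k) (Fin t → Fin k) F) p q)
      (mul_inv_cancel X)
    simp only [Units.val_mul, Units.val_one] at h1
    rwa [Matrix.mul_apply, Finset.sum_eq_single p (fun r _ hr => by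
      rw [hX.2 p r hp, Matrix.one_apply_ne hr.symm, zero_mul]) (by simp), hX.2 p p hp, Matrix.one_apply_eq,
      one_mul] at h1⟩

theorem mem_blockK {i l : Fin t} {Y : GL (Fin t → Fin k) F} :
    Y ∈ blockK M S i l ↔ Y ∈ L M S ∧ ∀ p q, InBlock S i l p →
      (Y : Matrix (Fin t → Fin k) (Fin t → Fin k) F) p q = (1 : Matrix (Fin t → Fin k) (Fin t → Fin k) F) p q :=
  Iff.rfl

theorem blockK_conj {i l : Fin t} {n Y : GL (Fin t → Fin k) F} (hn : n ∈ L M S) (hY : Y ∈ blockK M S i l) :
    n * Y * n⁻¹ ∈ blockK M S i l := by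
  refine ⟨mul_mem (mul_mem hn hY.1) (inv_mem hn), fun p q hp => ?_⟩
  have h1 := congrArg (fun Z : GL (Fin t → Fin k) F => (Z : Matrix (Fin t → Fin k) (Fin t → Fin k) F) p q)
    (mul_inv_cancel n)
  simp only [Units.val_mul, Units.val_one] at h1
  rw [← h1, Units.val_mul, Units.val_mul, Matrix.mul_assoc, Matrix.mul_apply, Matrix.mul_apply]
  refine Finset.sum_congr rfl fun r _ => ?_
  by_cases h0 : (n : Matrix (Fin t → Fin k) (Fin t → Fin k) F) p r = 0
  · rw [h0, zero_mul, zero_mul]
  have hr := L_inBlock hn hp h0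
  rw [Matrix.mul_apply, Finset.sum_eq_single r (fun u _ hu => by
    rw [hY.2 r u hr, Matrix.one_apply_ne hu.symm, zero_mul]) (by simp), hY.2 r r hr, Matrix.one_apply_eq, one_mul]

/-- the group is abelian of odd order, inverted by an axial element with no fixed points on it -/
theorem blockK_fpf {i l : Fin t} {x : GL (Fin t → Fin k) F} (hx : x ∈ L M S) (hxx : x * x = 1)
    (hfix : ∀ Y ∈ blockK M S i l, Commute Y x → Y = 1) :
    (∀ Y ∈ blockK M S i l, x * Y * x = Y⁻¹) ∧ (∀ Y ∈ blockK M S i l, ∀ Z ∈ blockK M S i l, Commute Y Z) ∧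
      (∀ Y ∈ blockK M S i l, Y * Y = 1 → Y = 1) := by
  have hxi : x⁻¹ = x := inv_eq_of_mul_eq_one_right hxx
  obtain ⟨φ, hφ⟩ : ∃ φ : blockK M S i l →* blockK M S i l,
      ∀ Y, (φ Y : GL (Fin t → Fin k) F) = x * Y * x⁻¹ :=
    ⟨{ toFun := fun Y => ⟨x * Y * x⁻¹, blockK_conj hx Y.2⟩
       map_one' := Subtype.ext (by simp)
       map_mul' := fun Y Z => Subtype.ext (by simp [mul_assoc]) }, fun Y => rfl⟩
  have hinv : ∀ Y, φ (φ Y) = Y := fun Y => Subtype.ext (by
    rw [hφ, hφ, hxi, show x * (x * (Y : GL (Fin t → Fin k) F) * x) * x = x * x * Y * (x * x) by simp [mul_assoc],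
      hxx, one_mul, mul_one])
  have hf : ∀ Y, φ Y = Y → Y = 1 := fun Y e => Subtype.ext (hfix Y Y.2 (by
    have e' := congrArg Subtype.val e
    rw [hφ] at e'
    exact (mul_inv_eq_iff_eq_mul.1 e').symm))
  refine ⟨fun Y hY => ?_, fun Y hY Z hZ => ?_, fun Y hY e => ?_⟩
  · have := congrArg Subtype.val (map_eq_inv φ hinv hf ⟨Y, hY⟩)
    rwa [hφ, hxi] at this
  · exact congrArg Subtype.val (commute_of_fixedPointFree φ hinv hf ⟨Y, hY⟩ ⟨Z, hZ⟩).eq
  · exact congrArg Subtype.val (eq_one_of_sq φ hinv hf (g := ⟨Y, hY⟩) (Subtype.ext e))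

/-- the entries of a conjugate of an axial coordinate element on a framed row -/
theorem row_conj {g : GL (Fin t → Fin k) F} (hg : g ∈ L M S) {j : Fin t} {c : Fin k} (hc : c ∉ S j)
    {p q : Fin t → Fin k} (hp : p j ∈ S j) :
    ((g * A j (eC c) * g⁻¹ : GL (Fin t → Fin k) F) : Matrix (Fin t → Fin k) (Fin t → Fin k) F) p q =
      -(1 : Matrix (Fin t → Fin k) (Fin t → Fin k) F) p q := by
  have h1 := congrArg (fun Z : GL (Fin t → Fin k) F => (Z : Matrix (Fin t → Fin k) (Fin t → Fin k) F) p q)
    (mul_inv_cancel g)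
  simp only [Units.val_mul, Units.val_one] at h1
  rw [← h1, Units.val_mul, Units.val_mul, A_val j (eC_ne c), ax_single, slot_diag_apply, Matrix.mul_apply,
    Matrix.mul_apply, ← Finset.sum_neg_distrib]
  refine Finset.sum_congr rfl fun r _ => ?_
  rw [mul_diagonal]
  by_cases h0 : (g : Matrix (Fin t → Fin k) (Fin t → Fin k) F) p r = 0
  · simp [h0]
  · have e := L_block hg j h0 (Or.inl hp)
    rw [if_neg fun e' => hc (by rw [← e', ← e]; exact hp)]
    ring

/-- conjugation by an axial coordinate element -/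
theorem A_conj_apply (j : Fin t) (c : Fin k) (Y : GL (Fin t → Fin k) F) (p q : Fin t → Fin k) :
    ((A j (eC c) * Y * A j (eC c) : GL (Fin t → Fin k) F) : Matrix (Fin t → Fin k) (Fin t → Fin k) F) p q =
      (if p j = c then 1 else -1) * (Y : Matrix (Fin t → Fin k) (Fin t → Fin k) F) p q *
        (if q j = c then 1 else -1) := by
  rw [Units.val_mul, Units.val_mul, A_val j (eC_ne c), ax_single, slot_diag_apply, mul_diagonal, diagonal_mul]

/-- what the step needs to know about the entries of an element of the group -/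
theorem blockK_entries (hk : Odd k) (hk3 : 3 ≤ k) (hM : Good M) (IH : IHyp S F) (hne : ∀ m, (S m).Nonempty)
    {i l : Fin t} (hil : i ≠ l) (hi : Free S i)
    {Y : GL (Fin t → Fin k) F} (hY : Y ∈ blockK M S i l) :
    (∀ j, Free S j → ∀ p q, p j ∈ S j →
      (Y : Matrix (Fin t → Fin k) (Fin t → Fin k) F) p q = (1 : Matrix (Fin t → Fin k) (Fin t → Fin k) F) p q) ∧
    (∀ p q, p ≠ q → (Y : Matrix (Fin t → Fin k) (Fin t → Fin k) F) p q ≠ 0 →
      (Y : Matrix (Fin t → Fin k) (Fin t → Fin k) F) q p = -(Y : Matrix (Fin t → Fin k) (Fin t → Fin k) F) p q ∧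
      ∀ j, (Free S j → p j ∉ S j ∧ q j ∉ S j ∧ p j ≠ q j) ∧ (¬ Free S j → p j = q j)) := by
  classical
  have hh : (2 : F) ≠ 0 := h2.out
  have hsi := (hne i).choose_spec
  have hsl := (hne l).choose_spec
  have fix : ∀ j, Free S j → ∀ c, c ∉ S j → ∀ Z ∈ blockK M S i l, Commute Z (A j (eC c)) → Z = 1 :=
    fun j hj c hc Z hZ hcomm => eq_one_of_blocks (by omega) (child hk hM IH hj (isU_eC hc) hZ.1 hcomm) hil
      fun p q h => hZ.2 p q (inBlock_of hsi hsl h)
  have hK := fun j (hj : Free S j) c (hc : c ∉ S j) =>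
    blockK_fpf (A_mem_L hk hM (isU_eC hc)) (A_mul_self j _) (fix j hj c hc)
  have hYo := mem_orth.1 (mem_orth_of_L hM hY.1)
  have inv : ∀ j, Free S j → ∀ c, c ∉ S j → ∀ p q, (if p j = c then (1 : F) else -1) *
      (Y : Matrix (Fin t → Fin k) (Fin t → Fin k) F) p q * (if q j = c then 1 else -1) =
        (Y : Matrix (Fin t → Fin k) (Fin t → Fin k) F) q p := fun j hj c hc p q => by
    rw [← A_conj_apply, (hK j hj c hc).1 Y hY, inv_val_of_orth hYo, transpose_apply]
  obtain ⟨c₀, hc₀⟩ := exists_notMem hi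
  have hodd : Odd (orderOf Y) := by
    rcases Nat.even_or_odd (orderOf Y) with ⟨r, hr⟩ | h
    · exfalso
      have hpos : 0 < orderOf Y := orderOf_pos Y
      exact pow_ne_one_of_lt_orderOf (x := Y) (n := r) (by omega) (by omega)
        ((hK i hi c₀ hc₀).2.2 _ (pow_mem hY r) (by rw [← pow_add, ← hr, pow_orderOf_eq_one]))
    · exact h
  have hrow : ∀ j, Free S j → ∀ p q, p j ∈ S j →
      (Y : Matrix (Fin t → Fin k) (Fin t → Fin k) F) p q = (1 : Matrix (Fin t → Fin k) (Fin t → Fin k) F) p q := by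
    intro j hj p q hp
    obtain ⟨c, hc⟩ := exists_notMem hj
    have hYY : Y * Y ∈ blockK M S j j := ⟨mul_mem hY.1 hY.1, fun p q hp => by
      have hp' : p j ∈ S j := hp.elim id id
      have h1 := congrArg (fun Z : GL (Fin t → Fin k) F => (Z : Matrix (Fin t → Fin k) (Fin t → Fin k) F) p q)
        (mul_inv_cancel Y)
      simp only [Units.val_mul, Units.val_one] at h1
      rw [← h1, Units.val_mul, Matrix.mul_apply, Matrix.mul_apply]
      refine Finset.sum_congr rfl fun r _ => ?_
      by_cases h0 : (Y : Matrix (Fin t → Fin k) (Fin t → Fin k) F) p r = 0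
      · rw [h0, zero_mul, zero_mul]
      have hr : r j ∈ S j := L_block hY.1 j h0 (Or.inl hp') ▸ hp'
      congr 1
      rw [← (hK j hj c hc).1 Y hY, A_conj_apply, if_neg fun e : r j = c => hc (e ▸ hr)]
      by_cases h1 : (Y : Matrix (Fin t → Fin k) (Fin t → Fin k) F) r q = 0
      · rw [h1]; ring
      · rw [if_neg fun e : q j = c => hc (e ▸ (L_block hY.1 j h1 (Or.inl hr) ▸ hr))]
        ring⟩
    obtain ⟨r, hr⟩ := hodd
    have e : Y = (Y * Y) ^ (r + 1) := by
      rw [← pow_two, ← pow_mul, show 2 * (r + 1) = orderOf Y + 1 by omega, pow_succ, pow_orderOf_eq_one, one_mul]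
    rw [e]
    exact (pow_mem hYY (r + 1)).2 p q (Or.inl hp)
  refine ⟨hrow, fun p q hpq h0 => ?_⟩
  have hfree : ∀ j, ¬ Free S j → p j = q j := by
    intro j hj
    by_cases hs : p j ∈ S j ∨ q j ∈ S j
    · exact L_block hY.1 j h0 hs
    · rw [not_or] at hs
      refine Finset.card_le_one.1 ?_ _ (Finset.mem_compl.2 hs.1) _ (Finset.mem_compl.2 hs.2)
      rw [Finset.card_compl, Fintype.card_fin]
      unfold Free at hj
      omega
  have htop : ∀ j, Free S j → p j ∉ S j ∧ q j ∉ S j := fun j hj =>
    ⟨fun h => h0 (by rw [hrow j hj p q h, Matrix.one_apply_ne hpq]),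
      fun h => h0 (by
        obtain ⟨c, hc⟩ := exists_notMem hj
        have := inv j hj c hc p q
        rw [hrow j hj q p h, Matrix.one_apply_ne hpq.symm] at this
        by_cases h1 : p j = c <;> by_cases h3 : q j = c <;> simpa [h1, h3] using this)⟩
  obtain ⟨j₀, hj₀⟩ := Function.ne_iff.1 hpq
  have hj₀f : Free S j₀ := not_not.1 fun h => hj₀ (hfree j₀ h)
  have hanti : (Y : Matrix (Fin t → Fin k) (Fin t → Fin k) F) q p =
      -(Y : Matrix (Fin t → Fin k) (Fin t → Fin k) F) p q := by
    rw [← inv j₀ hj₀f _ (htop j₀ hj₀f).1 p q, if_pos rfl, if_neg (Ne.symm hj₀)]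
    ring
  refine ⟨hanti, fun j => ⟨fun hj => ⟨(htop j hj).1, (htop j hj).2, fun e => ?_⟩, hfree j⟩⟩
  have h1 := inv j hj _ (htop j hj).1 p q
  rw [if_pos rfl, if_pos e.symm, one_mul, mul_one, hanti] at h1
  exact h0 (by
    have : (2 : F) * (Y : Matrix (Fin t → Fin k) (Fin t → Fin k) F) p q = 0 := by linear_combination h1
    exact (mul_eq_zero.1 this).resolve_left hh)

/-- the group is trivial -/
theorem blockK_eq_bot (hk : Odd k) (hk3 : 3 ≤ k) (hM : Good M) (IH : IHyp S F) (hne : ∀ m, (S m).Nonempty)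
    (hplane : ∀ j, Free S j → (S j).card + 2 = k) {i l : Fin t} (hil : i ≠ l) (hi : Free S i) (hl : Free S l)
    {Y : GL (Fin t → Fin k) F} (hY : Y ∈ blockK M S i l) : Y = 1 := by
  classical
  have hh : (2 : F) ≠ 0 := h2.out
  obtain ⟨hrow, hN⟩ := blockK_entries hk hk3 hM IH hne hil hi hY
  obtain ⟨Ym, hYm⟩ : ∃ Ym, Ym = (Y : Matrix (Fin t → Fin k) (Fin t → Fin k) F) := ⟨_, rfl⟩
  rw [← hYm] at hrow hN
  have htwo : ∀ j, Free S j → ∀ a b c : Fin k, a ∉ S j → b ∉ S j → c ∉ S j → a ≠ b → c ≠ a → c = b := by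
    intro j hj a b c ha hb hc hab hca
    by_contra hcb
    have h3 : ({a, b, c} : Finset (Fin k)) ⊆ (S j)ᶜ := by
      intro x hx
      simp only [Finset.mem_insert, Finset.mem_singleton] at hx
      rcases hx with rfl | rfl | rfl <;> simpa
    have := Finset.card_le_card h3
    rw [Finset.card_compl, Fintype.card_fin, Finset.card_eq_three.2 ⟨a, b, c, hab, Ne.symm hca, Ne.symm hcb, rfl⟩] at this
    have := hplane j hj
    omega
  -- at most one entry off the diagonal in a row
  have hone : ∀ p q r, p ≠ q → p ≠ r → Ym p q ≠ 0 → Ym p r ≠ 0 → q = r := by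
    intro p q r hpq hpr hq hr
    funext j
    by_cases hj : Free S j
    · obtain ⟨h1, h2', h3⟩ := ((hN p q hpq hq).2 j).1 hj
      obtain ⟨-, h5, h6⟩ := ((hN p r hpr hr).2 j).1 hj
      exact (htwo j hj _ _ _ h1 h2' h5 h3 (Ne.symm h6)).symm
    · rw [← ((hN p q hpq hq).2 j).2 hj, ← ((hN p r hpr hr).2 j).2 hj]
  have hYo : Ymᵀ * Ym = 1 := hYm ▸ mem_orth.1 (mem_orth_of_L hM hY.1)
  have hYo' : Ym * Ymᵀ = 1 := mul_eq_one_comm.1 hYo
  have hsum : ∀ p q, p ≠ q → Ym p q ≠ 0 → Ym p p * Ym p p + Ym p q * Ym p q = 1 := by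
    intro p q hpq hq
    have h1 := congrFun (congrFun hYo' p) p
    rw [Matrix.mul_apply, Matrix.one_apply_eq] at h1
    simp only [transpose_apply] at h1
    rwa [Finset.sum_eq_add p q hpq (fun r _ hr => by
      by_contra h0
      exact hr.2 (hone p q r hpq (Ne.symm hr.1) hq fun e => h0 (by rw [e, zero_mul])).symm)
      (by simp) (by simp)] at h1
  have hsq : Y * Y = 1 → Y = 1 := fun e => by
    obtain ⟨c, hc⟩ := exists_notMem hi
    have hsi := (hne i).choose_spec
    have hsl := (hne l).choose_spec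
    exact (blockK_fpf (A_mem_L hk hM (isU_eC hc)) (A_mul_self i _) fun Z hZ hcomm =>
      eq_one_of_blocks (by omega) (child hk hM IH hi (isU_eC hc) hZ.1 hcomm) hil
        fun p q h => hZ.2 p q (inBlock_of hsi hsl h)).2.2 Y hY e
  by_cases hdiag : ∀ p q, p ≠ q → Ym p q = 0
  · refine hsq (Units.ext ?_)
    have e : Ymᵀ = Ym := Matrix.ext fun p q => by
      rcases eq_or_ne p q with rfl | hpq
      · rfl
      · rw [transpose_apply, hdiag p q hpq, hdiag q p hpq.symm]
    rw [e] at hYo
    rwa [Units.val_mul, Units.val_one, ← hYm]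
  push Not at hdiag
  obtain ⟨p, q, hpq, hβ⟩ := hdiag
  by_cases h7 : 7 ≤ Fintype.card F
  swap
  · -- monomial
    have hsmall : ∀ a b : F, a * a + b * b = 1 → b ≠ 0 → a = 0 := by
      have hodd := FiniteField.odd_card_of_char_ne_two (CfsgLib.Geom.ringChar_ne_two_of_ne hh)
      have hc := Fintype.one_lt_card (α := F)
      have h0 : ((Fintype.card F : ℕ) : F) = 0 := FiniteField.cast_card_eq_zero F
      have hpw : ∀ x : F, x ≠ 0 → x ^ (Fintype.card F - 1) = 1 := fun x hx => FiniteField.pow_card_sub_one_eq_one x hx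
      intro a b hab hb
      by_contra ha
      have ha' := hpw a ha
      have hb' := hpw b hb
      rcases (show Fintype.card F = 3 ∨ Fintype.card F = 5 by omega) with hq | hq <;>
        rw [hq] at h0 ha' hb' <;> simp only [Nat.reduceSub] at ha' hb'
      · exact one_ne_zero (α := F) (by linear_combination hab - ha' - hb')
      · push_cast at h0
        rcases mul_self_eq_one_iff.1 (show (a * a) * (a * a) = 1 by linear_combination ha') with ea | ea <;>
          rcases mul_self_eq_one_iff.1 (show (b * b) * (b * b) = 1 by linear_combination hb') with eb | eb <;>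
          rw [ea, eb] at hab
        · exact one_ne_zero (α := F) (by linear_combination hab)
        · exact one_ne_zero (α := F) (by linear_combination -hab)
        · exact one_ne_zero (α := F) (by linear_combination -hab)
        · exact hh (by linear_combination h0 + hab)
    have hmono : ∀ a b c, Ym a b ≠ 0 → Ym a c ≠ 0 → b = c := by
      intro a b c hb hc
      rcases eq_or_ne a b with hab | hab <;> rcases eq_or_ne a c with hac | hac
      · rw [← hab, ← hac]
      · exact absurd (hsmall _ _ (hsum a c hac hc) hc) (by rwa [← hab] at hb)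
      · exact absurd (hsmall _ _ (hsum a b hab hb) hb) (by rwa [← hac] at hc)
      · exact hone a b c hab hac hb hc
    have hrev : ∀ a b, Ym a b ≠ 0 → Ym b a ≠ 0 := fun a b hb => by
      rcases eq_or_ne a b with rfl | hab
      · exact hb
      · rw [(hN a b hab hb).1]; exact neg_ne_zero.2 hb
    have hD : ∀ a b, a ≠ b → (Ym * Ym) a b = 0 := fun a b hab => by
      rw [Matrix.mul_apply]
      refine Finset.sum_eq_zero fun r _ => ?_
      by_contra h0
      obtain ⟨h1, h3⟩ := mul_ne_zero_iff.1 h0
      exact hab (hmono r a b (hrev a r h1) h3)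
    have h4 : (Y * Y) * (Y * Y) = 1 := by
      refine Units.ext ?_
      rw [Units.val_mul, Units.val_mul, Units.val_one, ← hYm]
      have e : (Ym * Ym)ᵀ = Ym * Ym := Matrix.ext fun a b => by
        rcases eq_or_ne a b with rfl | hab
        · rfl
        · rw [transpose_apply, hD a b hab, hD b a hab.symm]
      have h1 : (Ym * Ym)ᵀ * (Ym * Ym) = 1 := by
        rw [transpose_mul, Matrix.mul_assoc, ← Matrix.mul_assoc Ymᵀ Ym, hYo, Matrix.one_mul, hYo]
      rwa [e] at h1
    obtain ⟨c, hc⟩ := exists_notMem hi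
    have hsi := (hne i).choose_spec
    have hsl := (hne l).choose_spec
    exact hsq ((blockK_fpf (A_mem_L hk hM (isU_eC hc)) (A_mul_self i _) fun Z hZ hcomm =>
      eq_one_of_blocks (by omega) (child hk hM IH hi (isU_eC hc) hZ.1 hcomm) hil
        fun p q h => hZ.2 p q (inBlock_of hsi hsl h)).2.2 _ (mul_mem hY hY) h4)
  exfalso
  obtain ⟨r, s, hrs, hr, hs⟩ := exists_unit_off hh h7
  by_cases hthree : ∃ j, Free S j ∧ j ≠ i ∧ j ≠ l
  swap
  · -- two free slots
    simp only [not_exists, not_and, not_not] at hthree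
    have hflip : ∀ j, Free S j → ∀ m, m ≠ j → Free S m →
        Ym (Function.update q j (p j)) (Function.update p j (q j)) = Ym p q := by
      intro j hj m hmj hm
      obtain ⟨hpj, hqj, hne'⟩ := ((hN p q hpq hβ).2 j).1 hj
      obtain ⟨-, -, hnem⟩ := ((hN p q hpq hβ).2 m).1 hm
      obtain ⟨h, hh'⟩ : ∃ h : Fin k → F, h = Pi.single (p j) r + Pi.single (q j) s := ⟨_, rfl⟩
      have hU : IsU S j h := ⟨by rw [hh']; simp [dotProduct_add, hne', hne'.symm, hrs], fun x hx => by
        have h1 : x ≠ p j := fun e => hpj (e ▸ hx)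
        have h3 : x ≠ q j := fun e => hqj (e ▸ hx)
        simp [hh', h1, h3]⟩
      have hsi := (hne i).choose_spec
      have hsl := (hne l).choose_spec
      have hinv := (blockK_fpf (A_mem_L hk hM hU) (A_mul_self j _) fun Z hZ hcomm =>
        eq_one_of_blocks (by omega) (child hk hM IH hj hU hZ.1 hcomm) hil
          fun p q h => hZ.2 p q (inBlock_of hsi hsl h)).1 Y hY
      have hX : Ym * slot j (ax h) = slot j (ax h) * Ymᵀ := by
        have e : Y * A j h = A j h * Y⁻¹ := by
          rw [← hinv, ← mul_assoc, ← mul_assoc, A_mul_self, one_mul]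
        have := congrArg Units.val e
        rwa [Units.val_mul, Units.val_mul, A_val j hU.ne, inv_val_of_orth (hYm ▸ hYo), ← hYm] at this
      have h1 := congrFun (congrFun hX p) (Function.update q j (p j))
      rw [mul_slot_apply, slot_mul_apply] at h1
      simp only [Function.update_idem, Function.update_self, transpose_apply] at h1
      have hA : ∀ a b, ax h a b = 2 * (h a * h b) - if a = b then 1 else 0 := fun a b => by
        simp [ax, hU.1, vecMulVec_apply, Matrix.one_apply]
      have hh0 : ∀ a, a ≠ p j → a ≠ q j → h a = 0 := fun a h1 h3 => by simp [hh', h1, h3]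
      rw [Finset.sum_eq_single (q j) (fun u _ hu => by
          refine mul_eq_zero_of_left ?_ _
          by_contra h0
          have hne2 : p ≠ Function.update q j u := fun e => hnem (by rw [e, Function.update_of_ne hmj])
          exact hu (by
            have := congrFun (hone p q _ hpq hne2 hβ h0) j
            rw [Function.update_self] at this
            exact this.symm)) (by simp), Function.update_eq_self,
        Finset.sum_eq_single (q j) (fun u _ hu => by
          rcases eq_or_ne u (p j) with rfl | hup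
          · refine mul_eq_zero_of_right _ ?_
            rw [Function.update_eq_self]
            by_contra h0
            have hne2 : Function.update q j (p j) ≠ p := fun e => hnem (by rw [← e, Function.update_of_ne hmj])
            exact (((hN _ _ hne2 h0).2 j).1 hj).2.2 (Function.update_self _ _ _)
          · refine mul_eq_zero_of_left ?_ _
            rw [hA, hh0 u hup hu, if_neg (Ne.symm hup)]
            ring) (by simp)] at h1
      rw [hA, hA, if_neg hne', if_neg hne'.symm, sub_zero, sub_zero, hh'] at h1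
      simp [hne', hne'.symm] at h1
      refine mul_left_cancel₀ (mul_ne_zero hh (mul_ne_zero hr hs)) ?_
      linear_combination -h1
    have hi' := hflip i hi l hil.symm hl
    have hl' := hflip l hl i hil hi
    have hswap : ∀ p q : Fin t → Fin k, (∀ m, ¬ Free S m → p m = q m) →
        Function.update q i (p i) = Function.update p l (q l) := by
      intro p q h
      funext m
      rcases eq_or_ne m i with rfl | hmi
      · simp [hil]
      rcases eq_or_ne m l with rfl | hml
      · simp [hmi]
      rw [Function.update_of_ne hmi, Function.update_of_ne hml]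
      exact (h m fun hm => hml (hthree m hm hmi)).symm
    have hnf : ∀ m, ¬ Free S m → p m = q m := fun m hm => ((hN p q hpq hβ).2 m).2 hm
    rw [hswap p q hnf] at hi'
    rw [← hswap q p fun m hm => (hnf m hm).symm] at hl'
    have hne2 : Function.update p l (q l) ≠ Function.update p i (q i) := fun e => by
      have := congrFun e i
      rw [Function.update_of_ne hil, Function.update_self] at this
      exact (((hN p q hpq hβ).2 i).1 hi).2.2 this
    have := (hN _ _ hne2 (by rw [hi']; exact hβ)).1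
    rw [hi', hl'] at this
    exact hβ ((mul_eq_zero.1 (show (2 : F) * Ym p q = 0 by linear_combination this)).resolve_left hh)
  -- a third free slot
  obtain ⟨j, hj, hji, hjl⟩ := hthree
  obtain ⟨hpi, hqi, hne'⟩ := ((hN p q hpq hβ).2 i).1 hi
  obtain ⟨e, he⟩ := hne i
  obtain ⟨S', hS'⟩ : ∃ S', S' = Function.update S i ((S i).erase e) := ⟨_, rfl⟩
  have hS'i : S' i = (S i).erase e := by rw [hS', Function.update_self]
  have hS'ne : ∀ m, m ≠ i → S' m = S m := fun m hm => by rw [hS', Function.update_of_ne hm]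
  obtain ⟨c, hc⟩ := exists_notMem hl
  have hS'l : S' l = S l := hS'ne l hil.symm
  have hS'j : S' j = S j := hS'ne j hji
  have hcl : IsU S' l (eC c : Fin k → F) := isU_eC (by rw [hS'l]; exact hc)
  have hmeas : meas (addPt S' l c) < meas S := by
    have hi0 : (S i).card + 2 = k := hplane i hi
    have hl0 : (S l).card + 2 = k := hplane l hl
    have hi1 : 1 ≤ (S i).card := Finset.card_pos.2 (hne i)
    obtain ⟨f, hf⟩ : ∃ f : (Fin t → Finset (Fin k)) → Fin t → ℕ,
        f = fun T m => if Free T m then k - (T m).card else 0 := ⟨_, rfl⟩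
    have hm : ∀ T, meas T = f T i + (f T l + ∑ m ∈ (Finset.univ.erase i).erase l, f T m) := fun T => by
      rw [Finset.add_sum_erase _ _ (Finset.mem_erase.2 ⟨hil.symm, Finset.mem_univ l⟩),
        Finset.add_sum_erase _ _ (Finset.mem_univ i), hf]
      rfl
    have ei : addPt S' l c i = (S i).erase e := by rw [addPt, Function.update_of_ne hil, hS'i]
    have el : addPt S' l c l = insert c (S l) := by rw [addPt, Function.update_self, hS'l]
    have v1 : f (addPt S' l c) i = 3 := by
      have hF : Free (addPt S' l c) i := by unfold Free; rw [ei, Finset.card_erase_of_mem he]; omega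
      rw [hf]; simp only; rw [if_pos hF, ei, Finset.card_erase_of_mem he]; omega
    have v2 : f (addPt S' l c) l = 0 := by
      have hF : ¬ Free (addPt S' l c) l := by unfold Free; rw [el, Finset.card_insert_of_notMem hc]; omega
      rw [hf]; simp only; rw [if_neg hF]
    have v3 : f S i = 2 := by rw [hf]; simp only; rw [if_pos hi]; omega
    have v4 : f S l = 2 := by rw [hf]; simp only; rw [if_pos hl]; omega
    have v5 : ∀ m ∈ (Finset.univ.erase i).erase l, f (addPt S' l c) m = f S m := fun m hm => by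
      simp only [Finset.mem_erase] at hm
      have em : addPt S' l c m = S m := by rw [addPt, Function.update_of_ne hm.1, hS'ne m hm.2.1]
      have hF : Free (addPt S' l c) m ↔ Free S m := by unfold Free; rw [em]
      rw [hf]; exact if_congr hF (by rw [em]) rfl
    have v6 : ∑ m ∈ (Finset.univ.erase i).erase l, f (addPt S' l c) m =
        ∑ m ∈ (Finset.univ.erase i).erase l, f S m := Finset.sum_congr rfl v5
    rw [hm, hm S, v1, v2, v3, v4, v6]
    omega
  have hsub : ∀ g ∈ L M S, g ∈ L M S' := fun g hg => mem_L.2 ⟨L_le hg, fun m x hx => (mem_L.1 hg).2 m x (by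
    rcases eq_or_ne m i with rfl | hm
    · rw [hS'i] at hx; exact Finset.mem_of_mem_erase hx
    · rw [hS'ne m hm] at hx; exact hx)⟩
  obtain ⟨sl, hsl⟩ := hne l
  obtain ⟨sj, hsj⟩ := hne j
  have hY' : Y ∈ blockK M S' l j := ⟨hsub Y hY.1, fun a b h => by
    rw [← hYm]
    rcases h with h | h
    · exact hrow l hl a b (hS'l ▸ h)
    · exact hrow j hj a b (hS'j ▸ h)⟩
  have hab := (blockK_fpf (i := l) (l := j) (A_mem_L hk hM hcl) (A_mul_self l _) fun Z hZ hcomm => by
    refine eq_one_of_blocks (by omega) (IH M (addPt S' l c) hM hmeas (mem_L.2 ⟨L_le hZ.1, fun m x hx => ?_⟩))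
      (Ne.symm hjl) fun a b h => hZ.2 a b (inBlock_of (show sl ∈ S' l by rw [hS'l]; exact hsl) (show sj ∈ S' j by rw [hS'j]; exact hsj) h)
    rcases eq_or_ne m l with rfl | hm
    · rw [addPt, Function.update_self, Finset.mem_insert] at hx
      rcases hx with rfl | hx
      exacts [hcomm, (mem_L.1 hZ.1).2 m x hx]
    · rw [addPt, Function.update_of_ne hm] at hx
      exact (mem_L.1 hZ.1).2 m x hx).2.1
  have hei : e ≠ p i ∧ e ≠ q i := ⟨fun h => hpi (h ▸ he), fun h => hqi (h ▸ he)⟩
  have main : ∀ a b : F, a * a + b * b = 1 → a ≠ 0 → b ≠ 0 →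
      (Ym p p - 1) * ((2 * (a * a) - 1) * Ym p p + (2 * (b * b) - 1)) + Ym p q * Ym p q = 0 := by
    intro a b hab' ha hb
    obtain ⟨h, hh'⟩ : ∃ h : Fin k → F, h = Pi.single (p i) a + Pi.single e b := ⟨_, rfl⟩
    have hp_ne : p i ≠ e := Ne.symm hei.1
    have hU : IsU S' i h := ⟨by rw [hh']; simp [dotProduct_add, hp_ne, hp_ne.symm, hab'], fun x hx => by
      rw [hS'i] at hx
      have h1 : x ≠ p i := fun e => hpi (e ▸ Finset.mem_of_mem_erase hx)
      have h3 : x ≠ e := Finset.ne_of_mem_erase hx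
      simp [hh', h1, h3]⟩
    have hZ : A i h * Y * A i h ∈ blockK M S' l j := by
      have := blockK_conj (A_mem_L hk hM hU) hY'
      rwa [A_inv] at this
    obtain ⟨X, hX⟩ : ∃ X, X = ax h := ⟨_, rfl⟩
    have hA : ∀ a b, X a b = 2 * (h a * h b) - if a = b then 1 else 0 := fun a b => by
      simp [hX, ax, hU.1, vecMulVec_apply, Matrix.one_apply]
    have hcm := congrArg Units.val (hab Y hY' _ hZ).eq
    simp only [Units.val_mul, A_val i hU.ne, ← hX, ← hYm] at hcm
    obtain ⟨Z, hZd⟩ : ∃ Z, Z = slot i X * Ym * slot i X := ⟨_, rfl⟩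
    rw [← hZd] at hcm
    obtain ⟨p', hp'⟩ : ∃ p', p' = Function.update p i e := ⟨_, rfl⟩
    have hp'i : p' i = e := by rw [hp', Function.update_self]
    have hp'S : p' i ∈ S i := hp'i ▸ he
    have hpp' : p ≠ p' := fun e' => hp_ne (by have := congrFun e' i; rwa [hp'i] at this)
    have hqp' : q ≠ p' := fun e' => hei.2 (by have := congrFun e' i; rw [hp'i] at this; exact this.symm)
    have h00 : ∀ a, Ym a p' = if a = p' then 1 else 0 := by
      intro a
      split_ifs with ha'
      · rw [ha', hrow i hi _ _ hp'S, Matrix.one_apply_eq]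
      · by_contra h0
        exact (((hN a p' ha' h0).2 i).1 hi).2.1 hp'S
    have hXp : ∀ u, u ≠ p i → u ≠ e → X (p i) u = 0 ∧ X u e = 0 := by
      intro u h1 h3
      rw [hA, hA, if_neg (Ne.symm h1), if_neg h3]
      simp [hh', h1, h3]
    have hpp : Z p p' = X (p i) (p i) * Ym p p * X (p i) e + X (p i) e * X e e := by
      rw [hZd, mul_slot_apply]
      simp only [slot_mul_apply]
      rw [Finset.sum_eq_add (p i) e hp_ne (fun u _ hu => by rw [hp'i, (hXp u hu.1 hu.2).2, mul_zero]) (by simp)
        (by simp)]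
      rw [hp'i]
      have hu1 : Function.update p' i (p i) = p := by rw [hp', Function.update_idem, Function.update_eq_self]
      have hu2 : Function.update p' i e = p' := by rw [hp', Function.update_idem]
      rw [hu1, hu2, Finset.sum_eq_add (p i) e hp_ne (fun u _ hu => by rw [(hXp u hu.1 hu.2).1, zero_mul]) (by simp)
        (by simp), Finset.sum_eq_add (p i) e hp_ne (fun u _ hu => by rw [(hXp u hu.1 hu.2).1, zero_mul]) (by simp)
        (by simp), Function.update_eq_self, ← hp', hrow i hi p' p hp'S, Matrix.one_apply_ne hpp'.symm, h00, h00,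
        if_neg hpp', if_pos rfl]
      ring
    have hqp : Z q p' = Ym p q * X (p i) e := by
      rw [hZd, mul_slot_apply]
      simp only [slot_mul_apply]
      have hXq : ∀ u, u ≠ q i → X (q i) u = 0 := fun u hu => by
        rw [hA, if_neg (Ne.symm hu)]
        simp [hh', Ne.symm hne', Ne.symm hei.2]
      have hqq : X (q i) (q i) = -1 := by
        rw [hA, if_pos rfl]; simp [hh', Ne.symm hne', Ne.symm hei.2]
      rw [Finset.sum_eq_add (p i) e hp_ne (fun u _ hu => by rw [hp'i, (hXp u hu.1 hu.2).2, mul_zero]) (by simp)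
        (by simp)]
      have hu1 : Function.update p' i (p i) = p := by rw [hp', Function.update_idem, Function.update_eq_self]
      have hu2 : Function.update p' i e = p' := by rw [hp', Function.update_idem]
      rw [hp'i, hu1, hu2, Finset.sum_eq_single (q i) (fun u _ hu => by rw [hXq u hu, zero_mul]) (by simp),
        Finset.sum_eq_single (q i) (fun u _ hu => by rw [hXq u hu, zero_mul]) (by simp), Function.update_eq_self,
        (hN p q hpq hβ).1, h00, if_neg hqp', hqq]
      ring
    have h1 := congrFun (congrFun hcm p) p'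
    rw [Matrix.mul_apply, Matrix.mul_apply, Finset.sum_eq_add p q hpq (fun u _ hu => by
        refine mul_eq_zero_of_left ?_ _
        by_contra h0
        exact hu.2 (hone p q u hpq (Ne.symm hu.1) hβ h0).symm) (by simp) (by simp),
      Finset.sum_eq_single p' (fun u _ hu => by rw [h00, if_neg hu, mul_zero]) (by simp), h00, if_pos rfl, hpp,
      hqp, hA, hA, hA, if_pos rfl, if_pos rfl, if_neg hp_ne, hh'] at h1
    simp [hp_ne, hp_ne.symm] at h1
    refine mul_left_cancel₀ (mul_ne_zero hh (mul_ne_zero ha hb)) ?_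
    linear_combination h1
  have m1 := main r s hrs hr hs
  have m2 := main s r (by rw [add_comm]; exact hrs) hs hr
  refine hβ (mul_self_eq_zero.1 ((mul_eq_zero.1 (show (2 : F) * (Ym p q * Ym p q) = 0 by
    linear_combination m1 + m2 - 2 * (Ym p p * Ym p p - 1) * hrs)).resolve_left hh))

/-- the centraliser of a pair of axial elements of two slots -/
theorem cross (hk : Odd k) (hk3 : 3 ≤ k) (hM : Good M) (IH : IHyp S F) (hne : ∀ m, (S m).Nonempty)
    (hplane : ∀ j, Free S j → (S j).card + 2 = k) {i l : Fin t} (hil : i ≠ l) (hi : Free S i) (hl : Free S l)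
    {a c : Fin k} (ha : a ∉ S i) (hc : c ∉ S l) :
    CL M S (A i (eC a) * A l (eC c)) ≤ Cfsg.Geo.tensorWreathStandard k t F := by
  classical
  intro g hg
  obtain ⟨hgL, hgc⟩ := mem_CL.1 hg
  have haL := A_mem_L hk hM (isU_eC (F := F) ha)
  refine child hk hM IH hi (isU_eC ha) hgL ?_
  have hb : blockK M S i l ≤ ⊥ := fun Y hY => blockK_eq_bot hk hk3 hM IH hne hplane hil hi hl hY
  have hv : g * A i (eC a) * g⁻¹ * A i (eC a) ∈ blockK M S i l := by
    refine ⟨mul_mem (mul_mem (mul_mem hgL haL) (inv_mem hgL)) haL, fun p q hp => ?_⟩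
    rw [Units.val_mul, A_val i (eC_ne a), ax_single, slot_diag_apply, mul_diagonal]
    rcases hp with hp | hp
    · rw [row_conj hgL ha hp]
      rcases eq_or_ne p q with rfl | hpq
      · rw [Matrix.one_apply_eq, if_neg fun e : p i = a => ha (e ▸ hp)]; ring
      · rw [Matrix.one_apply_ne hpq]; ring
    · have e : g * A i (eC a) * g⁻¹ = (A i (eC a) * A l (eC c)) * (g * A l (eC c) * g⁻¹) := by
        calc g * A i (eC a) * g⁻¹ = g * (A i (eC a) * A l (eC c)) * A l (eC c) * g⁻¹ := by
              rw [mul_assoc g (A i (eC a) * A l (eC c)), mul_assoc (A i (eC a)), A_mul_self, mul_one]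
          _ = A i (eC a) * A l (eC c) * g * A l (eC c) * g⁻¹ := by rw [hgc.eq]
          _ = _ := by simp only [mul_assoc]
      rw [e, Units.val_mul, Units.val_mul, A_val i (eC_ne a), A_val l (eC_ne c), ax_single, ax_single,
        slot_diag_apply, slot_diag_apply, diagonal_mul_diagonal, diagonal_mul, row_conj hgL hc hp,
        if_neg fun e : p l = c => hc (e ▸ hp)]
      rcases eq_or_ne p q with rfl | hpq
      · rw [Matrix.one_apply_eq]
        split_ifs <;> ring
      · rw [Matrix.one_apply_ne hpq]; ring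
  have h1 : g * A i (eC a) * g⁻¹ * A i (eC a) = 1 := Subgroup.mem_bot.1 (hb hv)
  have h3 : g * A i (eC a) * g⁻¹ = A i (eC a) := (eq_inv_of_mul_eq_one_left h1).trans (A_inv i (eC a))
  exact mul_inv_eq_iff_eq_mul.1 h3

end Planes

/-- all free slots are planes with frames -/
theorem planes (hk : Odd k) (hk3 : 3 ≤ k) (ht : 0 < t) (hM : Good M) (IH : IHyp S F) (h2f : TwoFree S)
    (hplane : ∀ i, Free S i → (S i).card + 2 = k) : L M S ≤ Cfsg.Geo.tensorWreathStandard k t F := by
  classical
  have hh : (2 : F) ≠ 0 := h2.out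
  have hne : ∀ m, (S m).Nonempty := fun m => by
    by_cases hm : Free S m
    · rw [← Finset.card_pos]; have := hplane m hm; omega
    · exact nonempty_of_not_free hk3 hm
  obtain ⟨i, -, hi⟩ := h2f ⟨0, ht⟩
  obtain ⟨l, hil, hl⟩ := h2f i
  obtain ⟨a, b, hab, ha, hb⟩ := exists_two hi
  obtain ⟨c, hc⟩ := exists_notMem hl
  have haL := A_mem_L hk hM (isU_eC (F := F) ha)
  have hcL := A_mem_L hk hM (isU_eC (F := F) hc)
  have hnc : ¬ ConjIn (L M S) (A i (eC a)) (A l (eC c)) :=
    not_conj hk hk3 hM hil hi (isU_eC ha) (isU_eC hc) (Or.inl (hne i).ne_empty)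
  intro g hg
  have hW := engine haL hcL (A_mul_self i _) (A_mul_self l _) hnc (A_mem_wreath i _)
    (fun g' hg' hc' => child hk hM IH hi (isU_eC ha) hg' hc') ?_ hg
  · obtain ⟨v, hv, e⟩ := Planes.conj_axial hk hk3 hM hne hl (isU_eC hc) ⟨g, hg, rfl⟩ hW
    exact conc hk hk3 hM IH h2f hl (isU_eC hc) hg hv.1 e
  intro y' n hyy' hnG hnW hn2 hnx hcx hcy hcase
  rcases hcase with ⟨h1, h3⟩ | ⟨h1, -⟩
  · exfalso
    obtain ⟨v, hv, rfl⟩ := Planes.conj_axial hk hk3 hM hne hi (isU_eC ha) h1 hnW
    have hva : v a = 0 := by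
      rcases Planes.comm_A_cases hk (by omega) (eC_ne a) hv.ne hcx with e | e
      · exact absurd e hnx
      · simpa using e
    have e : v = v b • eC b := funext fun x => by
      rcases eq_or_ne x b with rfl | hxb
      · simp
      rcases eq_or_ne x a with rfl | hxa
      · simp [hva, hab]
      have hx : x ∈ S i := by
        by_contra hx
        have h3 : ({a, b, x} : Finset (Fin k)) ⊆ (S i)ᶜ := by
          intro y hy
          simp only [Finset.mem_insert, Finset.mem_singleton] at hy
          rcases hy with rfl | rfl | rfl <;> simpa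
        have := Finset.card_le_card h3
        rw [Finset.card_compl, Fintype.card_fin,
          Finset.card_eq_three.2 ⟨a, b, x, hab, Ne.symm hxa, Ne.symm hxb, rfl⟩] at this
        have := hplane i hi
        omega
      simp [hxb, hv.2 x hx]
    have hvb : v b ≠ 0 := fun e0 => hv.ne (by rw [e, e0, zero_smul, zero_dotProduct])
    rw [e, A_smul i _ hvb] at h1 h3 hcy
    obtain ⟨P, hP⟩ : ∃ P : GL (Fin t → Fin k) F, P = A i (eC a) * A i (eC b) := ⟨_, rfl⟩
    have hPc : ∀ g ∈ L M S, Commute g P := fun g hg => by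
      refine L_comm_diag hg (i := i)
        (d := fun x => (if x = a then (1 : F) else -1) * if x = b then 1 else -1) (fun x y hx hy => ?_) ?_
      · have key : ∀ x, x ∉ S i → x = a ∨ x = b := fun x hx => by
          by_contra h
          rw [not_or] at h
          have h3 : ({a, b, x} : Finset (Fin k)) ⊆ (S i)ᶜ := by
            intro y hy
            simp only [Finset.mem_insert, Finset.mem_singleton] at hy
            rcases hy with rfl | rfl | rfl <;> simpa
          have := Finset.card_le_card h3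
          rw [Finset.card_compl, Fintype.card_fin,
            Finset.card_eq_three.2 ⟨a, b, x, hab, Ne.symm h.1, Ne.symm h.2, rfl⟩] at this
          have := hplane i hi
          omega
        rcases key x hx with rfl | rfl <;> rcases key y hy with rfl | rfl <;> simp [hab, hab.symm]
      · rw [hP, Units.val_mul, A_val i (eC_ne a), A_val i (eC_ne b), ← map_mul, ax_single, ax_single,
          diagonal_mul_diagonal]
    rw [← hP] at h3
    have d1 : dval ((A l (eC c) * P : GL (Fin t → Fin k) F) : Matrix (Fin t → Fin k) (Fin t → Fin k) F) =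
        dval ((A l (eC c) : GL (Fin t → Fin k) F) : Matrix (Fin t → Fin k) (Fin t → Fin k) F) := by
      rw [← hyy'.dval_eq hPc, h3.dval_eq', hyy'.dval_eq']
    have hPS : InSlot P i (ax (eC a : Fin k → F) * ax (eC b)) :=
      hP ▸ (inSlot_A hk i (eC_ne a)).mul (inSlot_A hk i (eC_ne b))
    have hP2 : P * P = 1 := by
      rw [hP, (A_comm_orth i (eC_ne b) (eC_ne a) (eC_orth hab.symm)).mul_mul_mul_comm, A_mul_self, A_mul_self,
        one_mul]
    have hd := (inSlot_A hk l (eC_ne (F := F) c)).dval_two hk (by omega) hil.symm hPS (by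
      rw [(hPc _ hcL).symm.mul_mul_mul_comm, A_mul_self, hP2, one_mul])
    rw [d1, dval_ax hh (eC_ne c), Fintype.card_fin, dval_ax_pair hab] at hd
    have e' := int_cancel (pow_ne_zero t (show (k : ℤ) ≠ 0 by omega)) (dval_A hk (by omega) l (eC_ne c)) hd
    have : (k : ℤ) - 4 = (k : ℤ) := mul_left_cancel₀ (show (2 : ℤ) - k ≠ 0 by omega) e'
    omega
  · obtain ⟨v, hv, rfl⟩ := Planes.conj_axial hk hk3 hM hne hl (isU_eC hc) h1 hnW
    obtain ⟨gm, hgm, hgc, hgS⟩ := exists_map_coord hh (S := S l) (eC_ne c)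
      (show (eC c : Fin k → F) ⬝ᵥ eC c = v ⬝ᵥ v by rw [eC_self, hv.1]) (isU_eC (F := F) hc).2 hv.2
    obtain ⟨n, hn⟩ : ∃ n, n = slotGL l (unitOfOrth gm hgm) := ⟨_, rfl⟩
    have hmap : n * (A i (eC a) * A l (eC c)) * n⁻¹ = A i (eC a) * A l v := by
      calc n * (A i (eC a) * A l (eC c)) * n⁻¹ = (n * A i (eC a) * n⁻¹) * (n * A l (eC c) * n⁻¹) := by group
        _ = _ := by
          rw [hn, slotGL_conj_A_ne hil.symm, slotGL_conj_A l hgm (eC_ne c)]
          exact congrArg (_ * A l ·) hgc
    refine transfer hM (hn ▸ slotGL_mem_wreath l _) (hn ▸ slotGL_mem_orth l hgm) (fun m s hs => ?_)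
      (fun M' hM' => Planes.cross hk hk3 hM' IH hne hplane hil hi hl ha hc)
      (mem_CL.2 ⟨hyy'.mem hcL, hmap.symm ▸ hcy⟩)
    have : n * A m (eC s) * n⁻¹ = A m (eC s) := by
      rcases eq_or_ne l m with rfl | hlm
      · rw [hn, slotGL_conj_A l hgm (eC_ne s)]; exact congrArg (A l) (hgS s hs)
      · rw [hn]; exact slotGL_conj_A_ne hlm _ _
    exact mul_inv_eq_iff_eq_mul.1 this

end CfsgLib.MaxSub.TPow
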