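import Cfsg.Agent.Lib.MaxSub.TPow.Single

/-!
The terminal configurations: all slots but one are framed.
-/

set_option autoImplicit false
set_option linter.unusedSectionVars false
set_option linter.style.haveILetI false

namespace CfsgLib.MaxSub.TPow

open Matrix CfsgLib.Aschbacher
open CfsgLib.Aschbacher.Orth (pureMat_transpose permMat_mul_permMat permMat_one permMat_transpose)
open scoped MatrixGroups

variable {t k : ℕ} {F : Type*} [Field F] [Fintype F] [h2 : Fact ((2 : F) ≠ 0)]

theorem tup_apply (i : Fin t) (u : (Fin t → Fin k) → Matrix (Fin k) (Fin k) F) (p q : Fin t → Fin k) :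
    tup i u p q = if ∀ j, j ≠ i → p j = q j then u p (p i) (q i) else 0 := rfl

theorem tup_apply_line {i : Fin t} {u : (Fin t → Fin k) → Matrix (Fin k) (Fin k) F} (hu : Indep i u)
    (p : Fin t → Fin k) (a b : Fin k) :
    tup i u (Function.update p i a) (Function.update p i b) = u p a b := by
  rw [tup_apply, if_pos fun j hj => by rw [Function.update_of_ne hj, Function.update_of_ne hj],
    Function.update_self, Function.update_self, hu]

theorem tup_mul {i : Fin t} {u v : (Fin t → Fin k) → Matrix (Fin k) (Fin k) F} (hv : Indep i v) :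
    tup i u * tup i v = tup i fun p => u p * v p := by
  ext p q
  rw [Matrix.mul_apply]
  have h1 : ∀ r, (¬∀ j, j ≠ i → p j = r j) → tup i u p r * tup i v r q = 0 := fun r h => by
    rw [tup_apply, if_neg h, zero_mul]
  have hinj : Function.Injective fun a => Function.update p i a := fun a b e => by simpa using congrFun e i
  rw [← Fintype.sum_of_injective _ hinj (fun a => u p (p i) a * tup i v (Function.update p i a) q)
    (fun r => tup i u p r * tup i v r q) (fun r hr => h1 r fun h => hr ⟨r i, funext fun j => by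
      rcases eq_or_ne j i with rfl | hj
      · simp
      · simp [hj, h j hj]⟩) (fun a => by
      rw [tup_apply i u p, if_pos fun j hj => by simp [hj], Function.update_self])]
  by_cases hc : ∀ j, j ≠ i → p j = q j
  · rw [tup_apply i _ p q, if_pos hc, Matrix.mul_apply]
    refine Finset.sum_congr rfl fun a _ => ?_
    rw [tup_apply, if_pos fun j hj => by rw [Function.update_of_ne hj]; exact hc j hj, Function.update_self, hv]
  · rw [tup_apply i _ p q, if_neg hc]
    refine Finset.sum_eq_zero fun a _ => ?_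
    rw [tup_apply, if_neg fun h => hc fun j hj => by simpa [hj] using h j hj, mul_zero]

theorem tup_transpose {i : Fin t} {u : (Fin t → Fin k) → Matrix (Fin k) (Fin k) F} (hu : Indep i u) :
    (tup i u)ᵀ = tup i fun p => (u p)ᵀ := by
  ext p q
  rw [transpose_apply, tup_apply, tup_apply]
  by_cases hc : ∀ j, j ≠ i → p j = q j
  · rw [if_pos fun j hj => (hc j hj).symm, if_pos hc, transpose_apply]
    have e : q = Function.update p i (q i) := funext fun j => by
      rcases eq_or_ne j i with rfl | hj
      · simp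
      · simp [hj, hc j hj]
    nth_rewrite 1 [e]
    rw [hu]
  · rw [if_neg fun h => hc fun j hj => (h j hj).symm, if_neg hc]

theorem tup_inj {i : Fin t} {u v : (Fin t → Fin k) → Matrix (Fin k) (Fin k) F} (hu : Indep i u) (hv : Indep i v)
    (h : tup i u = tup i v) (p : Fin t → Fin k) : u p = v p := by
  ext a b
  rw [← tup_apply_line hu, h, tup_apply_line hv]

theorem indep_const (i : Fin t) (x : Matrix (Fin k) (Fin k) F) : Indep i (fun _ => x) := fun _ _ => rfl

/-- a unit vector with two given non-zero coordinates -/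
theorem exists_unit_two (hk : Odd k) (hk3 : 3 ≤ k) (hex : ¬ (Fintype.card F = 3 ∧ k = 3)) {a b : Fin k}
    (hab : a ≠ b) : ∃ h : Fin k → F, h ⬝ᵥ h = 1 ∧ h a ≠ 0 ∧ h b ≠ 0 := by
  have hh : (2 : F) ≠ 0 := h2.out
  by_cases h7 : 7 ≤ Fintype.card F
  · obtain ⟨r, s, hrs, hr, hs⟩ := exists_unit_off hh h7
    refine ⟨Pi.single a r + Pi.single b s, ?_, by simp [hab, hr], by simp [Ne.symm hab, hs]⟩
    simp [dotProduct_add, hab, Ne.symm hab, hrs]
  have hodd := FiniteField.odd_card_of_char_ne_two (CfsgLib.Geom.ringChar_ne_two_of_ne hh)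
  have hc := Fintype.one_lt_card (α := F)
  have h0 : ((Fintype.card F : ℕ) : F) = 0 := FiniteField.cast_card_eq_zero F
  obtain ⟨c, hc'⟩ : ∃ c, c ∈ ({a, b} : Finset (Fin k))ᶜ := Finset.card_pos.1 (by
    rw [Finset.card_compl, Fintype.card_fin, Finset.card_pair hab]; omega)
  simp only [Finset.mem_compl, Finset.mem_insert, Finset.mem_singleton, not_or] at hc'
  obtain ⟨hca, hcb⟩ : c ≠ a ∧ c ≠ b := hc'
  rcases (show Fintype.card F = 3 ∨ Fintype.card F = 5 by omega) with hq | hq
  · rw [hq] at h0
    have hk5 : 5 ≤ k := by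
      by_contra h
      obtain ⟨m, hm⟩ := hk
      exact hex ⟨hq, by omega⟩
    obtain ⟨d, hd⟩ : ∃ d, d ∈ ({a, b, c} : Finset (Fin k))ᶜ := Finset.card_pos.1 (by
      rw [Finset.card_compl, Fintype.card_fin]
      have := Finset.card_le_three (a := a) (b := b) (c := c)
      omega)
    simp only [Finset.mem_compl, Finset.mem_insert, Finset.mem_singleton, not_or] at hd
    obtain ⟨hda, hdb, hdc⟩ : d ≠ a ∧ d ≠ b ∧ d ≠ c := hd
    refine ⟨Pi.single a 1 + Pi.single b 1 + Pi.single c 1 + Pi.single d 1, ?_,
      by simp [hab, hca.symm, hda.symm], by simp [hab.symm, hcb.symm, hdb.symm]⟩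
    simp [dotProduct_add, hab, hab.symm, hca, hca.symm, hcb, hcb.symm, hda, hda.symm, hdb, hdb.symm,
      hdc, hdc.symm]
    push_cast at h0
    linear_combination h0
  · rw [hq] at h0
    refine ⟨Pi.single a 1 + Pi.single b 1 + Pi.single c 2, ?_, by simp [hab, hca.symm],
      by simp [hab.symm, hcb.symm]⟩
    simp [dotProduct_add, hab, hab.symm, hca, hca.symm, hcb, hcb.symm]
    push_cast at h0
    linear_combination h0

/-- a matrix commuting with the axial matrices of all unit vectors is a sign -/
theorem sign_of_comm_ax (hk : Odd k) (hk3 : 3 ≤ k) (hex : ¬ (Fintype.card F = 3 ∧ k = 3))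
    {T : Matrix (Fin k) (Fin k) F} (hT : Tᵀ * T = 1)
    (hc : ∀ h : Fin k → F, h ⬝ᵥ h = 1 → T * ax h = ax h * T) : ∃ s : F, (s = 1 ∨ s = -1) ∧ T = s • 1 := by
  have key : ∀ h : Fin k → F, h ⬝ᵥ h = 1 → ∃ l : F, (l = 1 ∨ l = -1) ∧ T *ᵥ h = l • h := by
    intro h hh
    have h0 : h ⬝ᵥ h ≠ 0 := by rw [hh]; exact one_ne_zero
    have e : ax (T *ᵥ h) = ax h := by
      rw [← ax_conj hT h, hc h hh, Matrix.mul_assoc, mul_eq_one_comm.1 hT, Matrix.mul_one]
    obtain ⟨l, _, hl⟩ := ax_inj h2.out (by rwa [dot_orth hT]) e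
    refine ⟨l, mul_self_eq_one_iff.1 ?_, hl⟩
    have h1 := dot_orth hT h h
    rw [hl, smul_dotProduct, dotProduct_smul, hh, smul_eq_mul, smul_eq_mul, mul_one] at h1
    exact h1
  choose d hd hde using fun a : Fin k => key (eC a) (eC_self a)
  have hdiag : T = diagonal d := ext_of_mulVec_single fun a => by
    rw [hde a, diagonal_mulVec_single, mul_one]
    ext b
    simp [Pi.single_apply]
  haveI : NeZero k := ⟨by omega⟩
  refine ⟨d 0, hd 0, ?_⟩
  rw [hdiag, smul_one_eq_diagonal]
  congr 1
  funext a
  rcases eq_or_ne a 0 with rfl | ha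
  · rfl
  obtain ⟨h, hh, hha, hh0⟩ := exists_unit_two (F := F) hk hk3 hex ha
  obtain ⟨l, -, hl⟩ := key h hh
  rw [hdiag] at hl
  have e1 := congrFun hl a
  have e2 := congrFun hl 0
  rw [mulVec_diagonal, Pi.smul_apply, smul_eq_mul] at e1 e2
  rw [mul_right_cancel₀ hha e1, mul_right_cancel₀ hh0 e2]

theorem conjM_one (M : Subgroup (GL (Fin t → Fin k) F)) : conjM 1 M = M := by
  ext g
  simp [mem_conjM]

theorem Good.noBoot_self {M : Subgroup (GL (Fin t → Fin k) F)} (hM : Good M) : NoBoot M :=
  conjM_one M ▸ hM.noBoot 1 (one_mem _) (one_mem _)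

/-- conjugates of axial elements of one slot by an element acting diagonally in the others -/
theorem tup_conj (hk : Odd k) (hk3 : 3 ≤ k) (hex : ¬ (Fintype.card F = 3 ∧ k = 3))
    {M : Subgroup (GL (Fin t → Fin k) F)} (hM : Good M) {i : Fin t}
    {u : (Fin t → Fin k) → Matrix (Fin k) (Fin k) F} (hu : Indep i u) (huo : ∀ p, (u p)ᵀ * u p = 1)
    {g : GL (Fin t → Fin k) F} (hgM : g ∈ M)
    (hconj : ∀ h : Fin k → F, h ⬝ᵥ h = 1 →
      ((g * A i h * g⁻¹ : GL (Fin t → Fin k) F) : Matrix (Fin t → Fin k) (Fin t → Fin k) F) =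
        tup i fun p => ax (u p *ᵥ h))
    (p₀ p : Fin t → Fin k) : ∃ s : F, (s = 1 ∨ s = -1) ∧ u p = s • u p₀ := by
  have hT : ((u p₀)ᵀ * u p)ᵀ * ((u p₀)ᵀ * u p) = 1 := by
    rw [transpose_mul, transpose_transpose, Matrix.mul_assoc, ← Matrix.mul_assoc (u p₀),
      mul_eq_one_comm.1 (huo p₀), Matrix.one_mul, huo]
  obtain ⟨s, hs, e⟩ := sign_of_comm_ax hk hk3 hex hT fun h hh => by
    have h0 : h ⬝ᵥ h ≠ 0 := by rw [hh]; exact one_ne_zero
    have hv : ∀ q, (u q *ᵥ h) ⬝ᵥ (u q *ᵥ h) = 1 := fun q => by rw [dot_orth (huo q), hh]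
    have hv0 : ∀ q, (u q *ᵥ h) ⬝ᵥ (u q *ᵥ h) ≠ 0 := fun q => by rw [hv]; exact one_ne_zero
    set w := g * A i h * g⁻¹ * A i (u p₀ *ᵥ h)
    have hwM : w ∈ M := mul_mem (mul_mem (mul_mem hgM (hM.base_le (A_mem_base hk i hh))) (inv_mem hgM))
      (hM.base_le (A_mem_base hk i (hv p₀)))
    have hw : (w : Matrix (Fin t → Fin k) (Fin t → Fin k) F) = tup i fun q => ax (u q *ᵥ h) * ax (u p₀ *ᵥ h) := by
      rw [Units.val_mul, hconj h hh, A_val i (hv0 p₀), ← tup_const, tup_mul (indep_const i _)]
    have hind : Indep i fun q => ax (u q *ᵥ h) * ax (u p₀ *ᵥ h) := fun q a => by simp only [hu q a]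
    obtain ⟨c, hc⟩ := hM.noBoot_self i _ w hwM hind hw ⟨p₀, ax_mul_self (hv0 p₀)⟩ p
    have hso := (isSO_ax hk (hv0 p)).mul (isSO_ax hk (hv0 p₀))
    have h1 := eq_one_of_scalar hk hso.1 hso.2 hc
    have heq : ax (u p *ᵥ h) = ax (u p₀ *ᵥ h) :=
      calc ax (u p *ᵥ h) = ax (u p *ᵥ h) * (ax (u p₀ *ᵥ h) * ax (u p₀ *ᵥ h)) := by
            rw [ax_mul_self (hv0 p₀), Matrix.mul_one]
        _ = ax (u p₀ *ᵥ h) := by rw [← Matrix.mul_assoc, h1, Matrix.one_mul]
    rw [← ax_conj (huo p), ← ax_conj (huo p₀)] at heq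
    calc (u p₀)ᵀ * u p * ax h = (u p₀)ᵀ * (u p * ax h * (u p)ᵀ) * u p := by
          rw [Matrix.mul_assoc (u p₀)ᵀ (u p * ax h * (u p)ᵀ), Matrix.mul_assoc (u p * ax h) _ _, huo,
            Matrix.mul_one, Matrix.mul_assoc]
      _ = (u p₀)ᵀ * (u p₀ * ax h * (u p₀)ᵀ) * u p := by rw [heq]
      _ = ax h * ((u p₀)ᵀ * u p) := by
          simp only [← Matrix.mul_assoc, huo, Matrix.one_mul]
  refine ⟨s, hs, ?_⟩
  calc u p = u p₀ * ((u p₀)ᵀ * u p) := by rw [← Matrix.mul_assoc, mul_eq_one_comm.1 (huo p₀), Matrix.one_mul]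
    _ = s • u p₀ := by rw [e, Matrix.mul_smul, Matrix.mul_one]

/-- the centraliser of frames of all slots but one lies in the wreath subgroup -/
theorem one_free (hk : Odd k) (hk3 : 3 ≤ k) (hex : ¬ (Fintype.card F = 3 ∧ k = 3))
    {M : Subgroup (GL (Fin t → Fin k) F)} (hM : Good M) {S : Fin t → Finset (Fin k)} {i : Fin t}
    (hfull : ∀ j, j ≠ i → ¬ Free S j) : L M S ≤ Cfsg.Geo.tensorWreathStandard k t F := by
  classical
  intro g hg
  haveI : NeZero k := ⟨by omega⟩
  have hgo := mem_orth.1 (mem_orth_of_L hM hg)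
  have hdiag : ∀ p q, (g : Matrix (Fin t → Fin k) (Fin t → Fin k) F) p q ≠ 0 → ∀ j, j ≠ i → p j = q j := by
    intro p q hpq j hj
    by_cases hs : p j ∈ S j ∨ q j ∈ S j
    · exact L_block hg j hpq hs
    · rw [not_or] at hs
      have hcard : ((S j)ᶜ).card ≤ 1 := by
        have := hfull j hj
        rw [Finset.card_compl, Fintype.card_fin]
        unfold Free at this
        omega
      exact Finset.card_le_one.1 hcard _ (Finset.mem_compl.2 hs.1) _ (Finset.mem_compl.2 hs.2)
  set u : (Fin t → Fin k) → Matrix (Fin k) (Fin k) F := fun p => Matrix.of fun a b =>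
    (g : Matrix (Fin t → Fin k) (Fin t → Fin k) F) (Function.update p i a) (Function.update p i b) with hudef
  have hu : Indep i u := fun p a => by simp only [hudef, Function.update_idem]
  have hg' : (g : Matrix (Fin t → Fin k) (Fin t → Fin k) F) = tup i u := by
    ext p q
    rw [tup_apply]
    split
    · next h =>
      have e : Function.update p i (q i) = q := funext fun j => by
        rcases eq_or_ne j i with rfl | hj
        · simp
        · simp [hj, h j hj]
      simp only [hudef, Matrix.of_apply, Function.update_eq_self, e]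
    · next h => exact not_not.1 fun hne => h (hdiag p q hne)
  have huo : ∀ p, (u p)ᵀ * u p = 1 := fun p => by
    have h1 : tup i (fun q => (u q)ᵀ * u q) = tup i fun _ => (1 : Matrix (Fin k) (Fin k) F) := by
      rw [← tup_mul hu, ← tup_transpose hu, ← hg', hgo, tup_const, map_one]
    exact tup_inj (fun q a => by simp only [hu q a]) (indep_const i _) h1 p
  have hinv : ((g⁻¹ : GL (Fin t → Fin k) F) : Matrix (Fin t → Fin k) (Fin t → Fin k) F) = tup i fun p => (u p)ᵀ := by
    rw [inv_val_of_orth hgo, hg', tup_transpose hu]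
  have hgM := L_le hg
  set p₀ : Fin t → Fin k := fun _ => 0
  choose s hs hsu using fun p => tup_conj hk hk3 hex hM hu huo hgM (fun h hh => by
    rw [Units.val_mul, Units.val_mul, hg', hinv, A_val i (by rw [hh]; exact one_ne_zero), ← tup_const,
      tup_mul (indep_const i _), tup_mul (fun q a => by simp only [hu q a])]
    congr 1
    funext q
    exact ax_conj (huo q) h) p₀ p
  have hU0 : (u p₀)ᵀ * u p₀ = 1 := huo p₀
  have hsi : ∀ p a, s (Function.update p i a) = s p := fun p a => by
    have h1 := hsu (Function.update p i a)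
    rw [hu, hsu p] at h1
    have h2' := congrArg (fun M => ((u p₀)ᵀ * M) 0 0) h1
    simpa [Matrix.mul_smul, hU0] using h2'.symm
  have hs0 : s p₀ = 1 := by
    have h2' := congrArg (fun M => ((u p₀)ᵀ * M) 0 0) (hsu p₀)
    simpa [Matrix.mul_smul, hU0] using h2'.symm
  -- remove the factor of slot `i`
  obtain ⟨h, hns, -⟩ := exists_ns (F := F) (show (0 : Fin k) ≠ ⟨1, by omega⟩ by simp [Fin.ext_iff])
  have h0 : h ⬝ᵥ h ≠ 0 := fun e => hns (e ▸ IsSquare.zero)
  set x0 : GL (Fin t → Fin k) F := slotGL i (unitOfOrth (u p₀) hU0)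
  obtain ⟨η, hη, hOm⟩ := exists_adjust hk (slotGL_mem_orth i (x := unitOfOrth (u p₀) hU0) hU0) (j := i) hns
  obtain ⟨X, hX, hXo, hXinv⟩ : ∃ X : Matrix (Fin k) (Fin k) F,
      (η : Matrix (Fin t → Fin k) (Fin t → Fin k) F) = slot i X ∧ X * Xᵀ = 1 ∧ η⁻¹ = η := by
    rcases hη with rfl | rfl | rfl | rfl
    · exact ⟨1, by simp, by simp, inv_one⟩
    · exact ⟨-1, by rw [Units.val_neg, Units.val_one, slot_neg, map_one], by simp,
        inv_eq_of_mul_eq_one_right (by simp)⟩
    · exact ⟨ax h, A_val i h0, by rw [ax_transpose, ax_mul_self h0], A_inv i h⟩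
    · exact ⟨-ax h, by rw [Units.val_neg, A_val i h0, slot_neg], by
        rw [transpose_neg, neg_mul_neg, ax_transpose, ax_mul_self h0],
        inv_eq_of_mul_eq_one_right (by rw [neg_mul_neg, A_mul_self])⟩
  have hnb : x0 * η ∈ base t k F := by
    refine Subgroup.mem_inf.2 ⟨mul_mem (slotGL_mem_wreath i _) ?_, hOm⟩
    exact eta_mem_wreath (Fin.pos i) hη
  set d' := (x0 * η)⁻¹ * g with hd'
  have hd'M : d' ∈ M := mul_mem (inv_mem (hM.base_le hnb)) hgM
  set D : Matrix (Fin t → Fin k) (Fin t → Fin k) F := diagonal s with hD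
  have hDtup : D = tup i fun p => s p • (1 : Matrix (Fin k) (Fin k) F) := by
    ext p q
    rw [hD, tup_apply]
    rcases eq_or_ne p q with rfl | hpq
    · simp
    · rw [diagonal_apply_ne _ hpq]
      split
      · next hc =>
        have : p i ≠ q i := fun e => hpq (funext fun j => by
          rcases eq_or_ne j i with rfl | hj
          exacts [e, hc j hj])
        simp [this]
      · rfl
  have hgD : (g : Matrix (Fin t → Fin k) (Fin t → Fin k) F) = slot i (u p₀) * D := by
    rw [hg', hDtup, ← tup_const, tup_mul (fun q a => by simp only [hsi q a])]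
    congr 1
    funext q
    rw [Matrix.mul_smul, Matrix.mul_one, ← hsu]
  have hd'v : (d' : Matrix (Fin t → Fin k) (Fin t → Fin k) F) = slot i X * D := by
    rw [hd', _root_.mul_inv_rev, hXinv, Units.val_mul, Units.val_mul, hgD, hX, show ((x0⁻¹ : GL (Fin t → Fin k) F) :
        Matrix (Fin t → Fin k) (Fin t → Fin k) F) = slot i (u p₀)ᵀ from by
      rw [inv_val_of_orth (slotGL_mem_orth i (x := unitOfOrth (u p₀) hU0) hU0)]
      exact slot_transpose i (u p₀), Matrix.mul_assoc, ← Matrix.mul_assoc (slot i (u p₀)ᵀ), ← map_mul, hU0,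
      map_one, Matrix.one_mul]
  have hss : ∀ p, s p * s p = 1 := fun p => by rcases hs p with e | e <;> rw [e] <;> ring
  have hDD : D * D = 1 := by
    rw [hD, diagonal_mul_diagonal, show (fun p => s p * s p) = fun _ => (1 : F) from funext hss, diagonal_one]
  -- the signs are multiplicative in the slots
  set sl : Fin t → (Fin t → Fin k) → Fin k → F := fun j p a => s (Function.update p j a) with hsl
  have hstep : ∀ j, j ≠ i → ∀ p, ∃ c : F, (c = 1 ∨ c = -1) ∧ ∀ a, sl j p a = c * sl j p₀ a := by
    intro j hj p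
    have hul : Indep j fun q => diagonal (sl j q) := fun q a => by simp only [hsl, Function.update_idem]
    have hDj : D = tup j fun q => diagonal (sl j q) := by
      ext q r
      rw [hD, tup_apply]
      rcases eq_or_ne q r with rfl | hqr
      · simp [hsl]
      · rw [diagonal_apply_ne _ hqr]
        split
        · next hc =>
          have : q j ≠ r j := fun e => hqr (funext fun l => by
            rcases eq_or_ne l j with rfl | hl
            exacts [e, hc l hl])
          simp [this]
        · rfl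
    have huo' : ∀ q, (diagonal (sl j q))ᵀ * diagonal (sl j q) = (1 : Matrix (Fin k) (Fin k) F) := fun q => by
      rw [diagonal_transpose, diagonal_mul_diagonal, show (fun a => sl j q a * sl j q a) = fun _ => (1 : F) from
        funext fun a => hss _, diagonal_one]
    obtain ⟨c, hc, e⟩ := tup_conj hk hk3 hex hM hul huo' hd'M (fun v hv => by
      have hv0 : v ⬝ᵥ v ≠ 0 := by rw [hv]; exact one_ne_zero
      have hd'i : ((d'⁻¹ : GL (Fin t → Fin k) F) : Matrix (Fin t → Fin k) (Fin t → Fin k) F) = D * slot i Xᵀ := by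
        refine Units.inv_eq_of_mul_eq_one_right ?_
        rw [hd'v, Matrix.mul_assoc, ← Matrix.mul_assoc D, hDD, Matrix.one_mul, ← map_mul, hXo, map_one]
      have hcm : slot i X * (D * slot j (ax v) * D) = D * slot j (ax v) * D * slot i X := by
        have hc1 : slot i X * D = D * slot i X := by
          rw [hDtup, ← tup_const, tup_mul (fun q a => by simp only [hsi q a]), tup_mul (indep_const i _)]
          congr 1
          funext q
          rw [Matrix.mul_smul, Matrix.mul_one, Matrix.smul_mul, Matrix.one_mul]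
        calc slot i X * (D * slot j (ax v) * D) = (slot i X * D) * slot j (ax v) * D := by
              simp only [Matrix.mul_assoc]
          _ = D * (slot i X * slot j (ax v)) * D := by rw [hc1]; simp only [Matrix.mul_assoc]
          _ = D * (slot j (ax v) * slot i X) * D := by rw [slot_comm hj.symm]
          _ = D * slot j (ax v) * (slot i X * D) := by simp only [Matrix.mul_assoc]
          _ = D * slot j (ax v) * D * slot i X := by rw [hc1]; simp only [Matrix.mul_assoc]
      calc ((d' * A j v * d'⁻¹ : GL (Fin t → Fin k) F) : Matrix (Fin t → Fin k) (Fin t → Fin k) F)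
          = slot i X * (D * slot j (ax v) * D) * slot i Xᵀ := by
            rw [Units.val_mul, Units.val_mul, hd'v, A_val j hv0, hd'i]; simp only [Matrix.mul_assoc]
        _ = D * slot j (ax v) * D := by
            rw [hcm, Matrix.mul_assoc, ← map_mul, hXo, map_one, Matrix.mul_one]
        _ = tup j fun q => ax (diagonal (sl j q) *ᵥ v) := by
            rw [hDj, ← tup_const, tup_mul (indep_const j _), tup_mul hul]
            congr 1
            funext q
            rw [← ax_conj (huo' q), diagonal_transpose]) p₀ p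
    refine ⟨c, hc, fun a => ?_⟩
    have := congrFun (congrFun e a) a
    simpa using this
  set d : Fin t → Fin k → F := fun j a => if j = i then 1 else sl j p₀ a with hd
  have hprod : ∀ p, s p = ∏ j, d j (p j) := by
    intro p
    suffices ∀ J : Finset (Fin t), s (J.piecewise p p₀) = ∏ j ∈ J, d j (p j) by
      simpa using this Finset.univ
    intro J
    induction J using Finset.induction_on with
    | empty => simpa using hs0
    | insert j J hjJ ih =>
        rw [Finset.piecewise_insert, Finset.prod_insert hjJ, ← ih]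
        set r := J.piecewise p p₀ with hr
        by_cases hji : j = i
        · subst hji
          rw [hd, hsi]
          simp
        · obtain ⟨c, hc, e⟩ := hstep j hji r
          have e1 := e (p j)
          have e2 := e (p₀ j)
          have hrj : r j = p₀ j := Finset.piecewise_eq_of_notMem _ _ _ hjJ
          simp only [hsl, Function.update_eq_self] at e1 e2
          rw [← hrj, Function.update_eq_self, hs0, mul_one] at e2
          rw [hd]
          simp only [hji, if_false, hsl]
          rw [e1, e2]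
          ring
  have hdd : ∀ j a, d j a * d j a = 1 := fun j a => by
    simp only [hd]
    split
    · exact one_mul 1
    · exact hss _
  let bu : Fin t → GL (Fin k) F := fun j => ⟨diagonal (d j), diagonal (d j),
    by rw [diagonal_mul_diagonal, show (fun a => d j a * d j a) = fun _ => (1 : F) from funext (hdd j), diagonal_one],
    by rw [diagonal_mul_diagonal, show (fun a => d j a * d j a) = fun _ => (1 : F) from funext (hdd j), diagonal_one]⟩
  have heq : g = x0 * pureGL bu := by
    refine Units.ext ?_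
    rw [Units.val_mul, hgD]
    congr 1
    show D = pureMat fun j => diagonal (d j)
    rw [pureMat_diagonal, hD, show s = fun p => ∏ j, d j (p j) from funext hprod]
  rw [heq]
  exact mul_mem (slotGL_mem_wreath i _) (Subgroup.subset_closure (Or.inl ⟨bu, fun p q => rfl⟩))

end CfsgLib.MaxSub.TPow
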