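import Cfsg.Agent.Lib.MaxSub.TPow.Boot
import Cfsg.Agent.Lib.MaxSub.TPow.Framed
import Cfsg.Agent.Lib.MaxSub.TPow.GlobalBig
import Cfsg.Agent.Lib.MaxSub.TPow.GlobalThree
import Cfsg.Agent.Lib.MaxSub.TPow.Planes
import Cfsg.Agent.Lib.MaxSub.TPow.Tuple

/-!
The induction over configurations: the base is maximal in the commutator of the isometry group.
-/

set_option autoImplicit false
set_option linter.unusedSectionVars false

namespace CfsgLib.MaxSub.TPow

open Matrix CfsgLib.Aschbacher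
open scoped MatrixGroups

variable {F : Type*} [Field F] [Fintype F]

theorem L_le_wreath [Fact ((2 : F) ≠ 0)] {t k : ℕ} (hk : Odd k) (hk3 : 3 ≤ k) (ht : 2 ≤ t)
    (hex : ¬ (Fintype.card F = 3 ∧ k = 3)) (N : ℕ) :
    ∀ (M : Subgroup (GL (Fin t → Fin k) F)) (S : Fin t → Finset (Fin k)), Good M → meas S = N →
      L M S ≤ Cfsg.Geo.tensorWreathStandard k t F := by
  induction N using Nat.strong_induction_on with
  | _ N ih =>
    intro M S hM hN
    have IH : IHyp S F := fun M' S' hM' hlt => ih (meas S') (hN ▸ hlt) M' S' hM' rfl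
    by_cases hone : ∃ i : Fin t, ∀ j, j ≠ i → ¬ Free S j
    · obtain ⟨i, hi⟩ := hone
      exact one_free hk hk3 hex hM hi
    have h2f : TwoFree S := fun i => by
      by_contra h
      exact hone ⟨i, fun j hj hf => h ⟨j, hj.symm, hf⟩⟩
    by_cases hbig : ∃ i, (S i).card + 3 ≤ k
    · obtain ⟨i, hi⟩ := hbig
      by_cases hp : ∃ j, Free S j ∧ S j ≠ ∅
      · exact framed hk hk3 hM IH h2f hi hp
      have hwh : ∀ j, Free S j → S j = ∅ := fun j hj => by
        by_contra h
        exact hp ⟨j, hj, h⟩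
      have hfi : Free S i := by unfold Free; omega
      by_cases h3 : k = 3
      · exact global_three hk h3 hM IH h2f hwh hfi
      · exact global_big hk h3 hk3 hM IH h2f hwh hfi
    · refine planes hk hk3 (by omega) hM IH h2f fun i hi => ?_
      by_contra hne
      refine hbig ⟨i, ?_⟩
      unfold Free at hi
      omega

/-- the wreath stabiliser is maximal -/
theorem main (t k : ℕ) (hk : Odd k) (hk3 : 3 ≤ k) (ht : 2 ≤ t) [h2 : Fact ((2 : F) ≠ 0)]
    (hex : ¬ (Fintype.card F = 3 ∧ k = 3)) {M : Subgroup (GL (Fin t → Fin k) F)} (hb : base t k F ≤ M)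
    (hM : M ≤ Om t k F) : M = base t k F ∨ M = Om t k F := by
  by_cases hnb : ∀ n ∈ Cfsg.Geo.tensorWreathStandard k t F, n ∈ orth t k F → NoBoot (conjM n M)
  · left
    refine le_antisymm (fun g hg => ?_) hb
    refine Subgroup.mem_inf.2 ⟨L_le_wreath hk hk3 ht hex _ M (fun _ => ∅) ⟨hb, hM, hnb⟩ rfl ?_, hM hg⟩
    exact mem_L.2 ⟨hg, fun i s hs => absurd hs (Finset.notMem_empty s)⟩
  · right
    simp only [not_forall] at hnb
    obtain ⟨n, hn, hno, hnot⟩ := hnb
    have hb' : base t k F ≤ conjM n M := fun b hb' => mem_conjM.2 ⟨n⁻¹ * b * n, hb (Subgroup.mem_inf.2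
      ⟨(Cfsg.Geo.tensorWreathStandard k t F).mul_mem ((Cfsg.Geo.tensorWreathStandard k t F).mul_mem
        ((Cfsg.Geo.tensorWreathStandard k t F).inv_mem hn) hb'.1) hn,
        by simpa using Om_conj ((orth t k F).inv_mem hno) hb'.2⟩), by group⟩
    have hM' : conjM n M ≤ Om t k F := fun g hg => by
      obtain ⟨m, hm, rfl⟩ := mem_conjM.1 hg
      exact Om_conj hno (hM hm)
    have e := boot hk hk3 ht h2.out hex hb' hM' hnot
    refine le_antisymm hM fun g hg => ?_
    obtain ⟨m, hm, hme⟩ := mem_conjM.1 (e.symm ▸ Om_conj hno hg : n * g * n⁻¹ ∈ conjM n M)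
    rwa [show m = g from mul_left_cancel (mul_right_cancel hme)] at hm

end CfsgLib.MaxSub.TPow
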