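import Cfsg.Agent.Lib.MaxSub.TPow.Engine

/-!
The centraliser of a pair of axial elements in one slot with at least three free coordinates.
-/

set_option autoImplicit false
set_option linter.unusedSectionVars false
set_option linter.style.haveILetI false

namespace CfsgLib.MaxSub.TPow

open Matrix CfsgLib.Aschbacher
open scoped MatrixGroups

variable {t k : ℕ} {F : Type*} [Field F] [Fintype F] [h2 : Fact ((2 : F) ≠ 0)]
variable {M : Subgroup (GL (Fin t → Fin k) F)} {S : Fin t → Finset (Fin k)}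

/-- the centraliser of an element in `L` -/
def CL (M : Subgroup (GL (Fin t → Fin k) F)) (S : Fin t → Finset (Fin k)) (z : GL (Fin t → Fin k) F) :
    Subgroup (GL (Fin t → Fin k) F) :=
  L M S ⊓ Subgroup.centralizer {z}

theorem mem_CL {z g : GL (Fin t → Fin k) F} : g ∈ CL M S z ↔ g ∈ L M S ∧ Commute g z := by
  rw [CL, Subgroup.mem_inf, Subgroup.mem_centralizer_singleton_iff]
  rfl

theorem CL_le {z : GL (Fin t → Fin k) F} : CL M S z ≤ L M S := inf_le_left

/-- transfer by an element of the wreath subgroup fixing the frames -/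
theorem transfer (hM : Good M) {n : GL (Fin t → Fin k) F} (hnW : n ∈ Cfsg.Geo.tensorWreathStandard k t F)
    (hno : n ∈ orth t k F) (hnS : ∀ j, ∀ s ∈ S j, Commute n (A j (eC s))) {z : GL (Fin t → Fin k) F}
    (h : ∀ M', Good M' → CL M' S z ≤ Cfsg.Geo.tensorWreathStandard k t F) :
    CL M S (n * z * n⁻¹) ≤ Cfsg.Geo.tensorWreathStandard k t F := by
  intro g hg
  obtain ⟨hgL, hgc⟩ := mem_CL.1 hg
  have h1 := L_conj (n := n⁻¹) (fun j s hs => (hnS j s hs).inv_left) hgL
  rw [inv_inv] at h1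
  have h2' : Commute (n⁻¹ * g * n) z := by
    have := hgc.eq
    show n⁻¹ * g * n * z = z * (n⁻¹ * g * n)
    calc n⁻¹ * g * n * z = n⁻¹ * (g * (n * z * n⁻¹)) * n := by group
      _ = n⁻¹ * (n * z * n⁻¹ * g) * n := by rw [this]
      _ = _ := by group
  have := mul_mem (mul_mem hnW (h _ (hM.conj (inv_mem hnW) (inv_mem hno)) (mem_CL.2 ⟨h1, h2'⟩))) (inv_mem hnW)
  simpa [mul_assoc] using this

/-- a conjugate of an axial element lying in the wreath subgroup -/
theorem conj_single (hk : Odd k) (hk3 : 3 ≤ k) (hM : Good M) {i : Fin t} {a : Fin k → F} (ha : IsU S i a)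
    {n : GL (Fin t → Fin k) F} (hc : ConjIn (L M S) (A i a) n) (hW : n ∈ Cfsg.Geo.tensorWreathStandard k t F) :
    (∃ j v, v ⬝ᵥ v = 1 ∧ n = A j v) ∨
      (k = 3 ∧ ∃ b u v, u ≠ v ∧ Shape n (-1) (Equiv.swap u v) b ∧ ∀ l, l ≠ u → l ≠ v → b l = 1) :=
  single_or_negP hk hk3 (Fin.pos i) hW (hM.le_Om (L_le (hc.mem (A_mem_L hk hM ha)))) (hc.sq (A_mul_self i a))
    (by rw [hc.dval_eq']; exact dval_A hk (by omega) i ha.ne)

theorem int_cancel {d K X Y : ℤ} {T : ℤ} (hT : T ≠ 0) (h1 : d * K = T * X) (h2' : d * (K * K) = T * Y) :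
    Y = X * K :=
  mul_left_cancel₀ hT (by linear_combination K * h1 - h2')

theorem pairA_coord (hk : Odd k) (hk5 : k ≠ 3) (hk3 : 3 ≤ k) (hM : Good M) (IH : IHyp S F) (h2f : TwoFree S)
    {i : Fin t} (hi : (S i).card + 3 ≤ k) {x y : Fin k} (hxy : x ≠ y) (hx : x ∉ S i) (hy : y ∉ S i) :
    CL M S (A i (eC x) * A i (eC y)) ≤ Cfsg.Geo.tensorWreathStandard k t F := by
  classical
  have hh : (2 : F) ≠ 0 := h2.out
  have hkz : (k : ℤ) ≠ 0 := by omega
  have hT : (k : ℤ) ^ t ≠ 0 := pow_ne_zero t hkz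
  have hk5' : 5 ≤ k := by obtain ⟨m, hm⟩ := hk; omega
  have hfree : Free S i := by unfold Free; omega
  obtain ⟨w, hw⟩ : ∃ w, w ∈ (insert x (insert y (S i)))ᶜ := Finset.card_pos.1 (by
    rw [Finset.card_compl, Fintype.card_fin]
    have := Finset.card_insert_le x (insert y (S i))
    have := Finset.card_insert_le y (S i)
    omega)
  simp only [Finset.mem_compl, Finset.mem_insert, not_or] at hw
  obtain ⟨hwx, hwy, hwS⟩ : w ≠ x ∧ w ≠ y ∧ w ∉ S i := hw
  set p : GL (Fin t → Fin k) F := A i (eC x) * A i (eC y) with hp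
  set G := CL M S p
  have hax := A_mem_L hk hM (isU_eC (F := F) hx)
  have haw := A_mem_L hk hM (isU_eC (F := F) hwS)
  have hxp : Commute (A i (eC x) : GL (Fin t → Fin k) F) p :=
    (Commute.refl _).mul_right (A_comm_orth i (eC_ne x) (eC_ne y) (eC_orth hxy))
  have hwp : Commute (A i (eC w) : GL (Fin t → Fin k) F) p :=
    (A_comm_orth i (eC_ne w) (eC_ne x) (eC_orth hwx)).mul_right (A_comm_orth i (eC_ne w) (eC_ne y) (eC_orth hwy))
  have hxG : A i (eC x) ∈ G := mem_CL.2 ⟨hax, hxp⟩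
  have hwG : A i (eC w) ∈ G := mem_CL.2 ⟨haw, hwp⟩
  have hGp : ∀ g ∈ G, Commute g p := fun g hg => (mem_CL.1 hg).2
  have hp2 : p * p = 1 := by
    rw [hp, (A_comm_orth i (eC_ne y) (eC_ne x) (eC_orth hxy.symm)).mul_mul_mul_comm, A_mul_self, A_mul_self, one_mul]
  have hpS : InSlot p i (ax (eC x : Fin k → F) * ax (eC y)) :=
    (inSlot_A hk i (eC_ne x)).mul (inSlot_A hk i (eC_ne y))
  have dxp : dval ((A i (eC x) * p : GL (Fin t → Fin k) F) : Matrix (Fin t → Fin k) (Fin t → Fin k) F) * (k : ℤ) =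
      (k : ℤ) ^ t * (2 - (k : ℤ)) := by
    rw [hp, ← mul_assoc, A_mul_self, one_mul]
    exact dval_A hk (by omega) i (eC_ne y)
  have dwp : dval ((A i (eC w) * p : GL (Fin t → Fin k) F) : Matrix (Fin t → Fin k) (Fin t → Fin k) F) * (k : ℤ) =
      (k : ℤ) ^ t * (6 - (k : ℤ)) := by
    have h := ((inSlot_A hk i (eC_ne w)).mul hpS).dval hk (by omega)
      (by rw [hwp.symm.mul_mul_mul_comm, A_mul_self, hp2, one_mul])
    rwa [dval_ax_triple hxy hwx.symm hwy.symm] at h
  have hne : ¬ ConjIn G (A i (eC x)) (A i (eC w)) := by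
    intro h
    rw [h.dval_eq hGp, dxp] at dwp
    have := mul_left_cancel₀ hT dwp
    omega
  intro g hg
  have hW := engine hxG hwG (A_mul_self i _) (A_mul_self i _) hne (A_mem_wreath i _)
    (fun g' hg' hc => child hk hM IH hfree (isU_eC hx) (CL_le hg') hc) ?_ hg
  · rcases conj_single hk hk3 hM (isU_eC hwS) ⟨g, CL_le hg, rfl⟩ hW with ⟨j, v, hv, e⟩ | ⟨h3, -⟩
    · exact conc hk hk3 hM IH h2f hfree (isU_eC hwS) (CL_le hg) hv e
    · exact absurd h3 hk5
  intro y' n hyy' hnG hnW hn2 hnx hcx hcy hcase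
  -- the classes of `n`
  obtain ⟨a, haU, hconj⟩ : ∃ a : Fin k → F, IsU S i a ∧ ConjIn G (A i a) n := by
    rcases hcase with h | h
    exacts [⟨_, isU_eC hx, h.1⟩, ⟨_, isU_eC hwS, h.1⟩]
  obtain ⟨j, v, hv, rfl⟩ : ∃ j v, v ⬝ᵥ v = 1 ∧ n = A j v :=
    (conj_single hk hk3 hM haU (hconj.mono CL_le) hnW).resolve_right fun h => hk5 h.1
  obtain ⟨g0, hg0, e0⟩ := hconj.mono (H := L M S) CL_le
  obtain ⟨-, hvU, -⟩ := single_slot hk hk3 hM hfree haU hg0 hv e0
  have hnp : Commute (A j v) p := hGp _ hnG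
  have hnp2 : A j v * p * (A j v * p) = 1 := by rw [hnp.symm.mul_mul_mul_comm, A_mul_self, hp2, one_mul]
  rcases eq_or_ne j i with rfl | hji
  swap
  · -- another slot
    have hd := (inSlot_A hk j hvU.ne).dval_two hk (by omega) hji hpS hnp2
    rw [dval_ax hh hvU.ne, Fintype.card_fin, dval_ax_pair hxy] at hd
    rcases hcase with h | h <;> rw [h.1.dval_eq hGp] at hd
    · exact (absurd (int_cancel hT dxp hd) fun e => by
        have h4 : (k : ℤ) - 4 = (k : ℤ) := mul_left_cancel₀ (show (2 : ℤ) - k ≠ 0 by omega) e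
        omega)
    · exact (absurd (int_cancel hT dwp hd) fun e => by ring_nf at e; omega)
  -- the same slot
  have horth : ∀ {z : Fin k}, Commute (A j v : GL (Fin t → Fin k) F) (A j (eC z)) →
      A j v = A j (eC z) ∨ v ⬝ᵥ eC z = 0 := by
    intro z hz
    have h' := (shape_A hk j hvU.ne).comm hk (by omega) (shape_A hk j (eC_ne (F := F) z)) hz j
    simp only [Function.update_self, Equiv.Perm.coe_one, id_eq] at h'
    rcases eq_or_orth_of_comm hh hvU.ne (eC_ne z) h' with ⟨l, hl, hlv⟩ | ho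
    · exact Or.inl (by rw [hlv, A_smul j v hl])
    · exact Or.inr ho
  have hny : Commute (A j v) (A j (eC y)) := by
    have h := hcx.mul_right hnp
    rwa [hp, ← mul_assoc, A_mul_self, one_mul] at h
  rcases horth hcx with e | hvx
  · exact absurd e hnx
  rcases horth hny with e | hvy
  · rw [e, ← hp] at hcase
    rcases hcase with h | h
    · -- then `y' p` would be conjugate to `y'`
      have e1 := h.2.dval_eq hGp
      rw [mul_assoc, hp2, mul_one, hyy'.dval_eq hGp, hyy'.dval_eq'] at e1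
      have := mul_left_cancel₀ hT ((dval_A hk (by omega) j (eC_ne w)).symm.trans
        ((congrArg (· * (k : ℤ)) e1).trans dwp))
      omega
    · have h1 := dwp
      rw [← h.1.dval_eq hGp, hp, (A_comm_orth j (eC_ne x) (eC_ne y) (eC_orth hxy)).eq, ← mul_assoc, A_mul_self,
        one_mul, dval_A hk (by omega) j (eC_ne x)] at h1
      have := mul_left_cancel₀ hT h1
      omega
  · rcases hcase with h | h
    · exfalso
      -- `n p` would be a single axial element
      have hd := ((inSlot_A hk j hvU.ne).mul hpS).dval hk (by omega) hnp2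
      rw [h.1.dval_eq hGp, dxp] at hd
      set X := ax v * (ax (eC x : Fin k → F) * ax (eC y)) with hX
      have hXX : X * X = 1 := by
        have := (((inSlot_A hk j hvU.ne).mul hpS).invol hk (by omega) hnp2).2 j
        simpa using this
      obtain ⟨c, hc, hcX⟩ := axial_of_dval hh hk hk3
        ((isSO_ax hk hvU.ne).mul ((isSO_ax hk (eC_ne x)).mul (isSO_ax hk (eC_ne y)))) hXX
        (by rw [← mul_left_cancel₀ hT hd]; omega)
      have hfix : X *ᵥ (eC x) = eC x := by
        rw [hX, ← mulVec_mulVec, ← mulVec_mulVec, ax_perp (eC_orth hxy.symm), mulVec_neg, ax_self (eC_ne x),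
          mulVec_neg, ax_perp hvx, neg_neg]
      rw [hX, hcX] at hfix
      obtain ⟨l, hl⟩ := ax_fix hh hfix
      have hl0 : l ≠ 0 := fun e => eC_ne (F := F) x (by rw [hl, e, zero_smul, zero_dotProduct])
      have hXx : X = ax (eC x) := by rw [hX, hcX, hl, ax_smul c hl0]
      refine ne_of_orth hh hvU.ne hvy ?_
      have := congrArg (fun T => T * ax (eC x : Fin k → F) * ax (eC y)) hXx
      simp only [hX] at this
      rw [ax_mul_self (eC_ne x), Matrix.one_mul, Matrix.mul_assoc (ax v), Matrix.mul_assoc _ (ax (eC y)) (ax (eC x)),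
        ← ax_comm_orth (eC_orth hxy), ← Matrix.mul_assoc (ax (eC x)) (ax (eC x)), ax_mul_self (eC_ne x),
        Matrix.one_mul, Matrix.mul_assoc, ax_mul_self (eC_ne y), Matrix.mul_one] at this
      exact this
    · -- two pairs through the axis of `x`
      refine child hk hM IH hfree (isU_eC hx) (CL_le (hyy'.mem hwG)) ?_
      exact comm_of_pairs j (eC_ne x) (eC_ne y) hvU.ne (eC_orth hxy) (by rw [dotProduct_comm]; exact hvx)
        (by rw [dotProduct_comm]; exact hvy) (hGp _ (hyy'.mem hwG)) hcy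

/-- pairs in a slot with at least three free coordinates -/
theorem pairA (hk : Odd k) (hk3 : 3 ≤ k) (hM : Good M) (IH : IHyp S F) (h2f : TwoFree S) {i : Fin t}
    (hi : (S i).card + 3 ≤ k) {a b : Fin k → F} (ha : IsU S i a) (hb : IsU S i b) (hab : a ⬝ᵥ b = 0) :
    CL M S (A i a * A i b) ≤ Cfsg.Geo.tensorWreathStandard k t F := by
  have hh : (2 : F) ≠ 0 := h2.out
  have hfree : Free S i := by unfold Free; omega
  by_cases h3 : k = 3
  · -- the pair is a third axial element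
    have hS : S i = ∅ := Finset.card_eq_zero.1 (by omega)
    have hne : ax a * ax b ≠ 1 := fun e => ne_of_orth hh ha.ne hab (by
      have := congrArg (· * ax b) e
      simpa [Matrix.mul_assoc, ax_mul_self hb.ne] using this)
    obtain ⟨c, hc, hcX⟩ := axial_three hh h3 ((isSO_ax hk ha.ne).mul (isSO_ax hk hb.ne)) (by
      rw [Matrix.mul_assoc, ← Matrix.mul_assoc (ax b), ← ax_comm_orth hab, Matrix.mul_assoc (ax a) (ax b),
        ax_mul_self hb.ne, Matrix.mul_one, ax_mul_self ha.ne]) hne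
    have hA : A i a * A i b = A i c := Units.ext (by
      rw [Units.val_mul, A_val i ha.ne, A_val i hb.ne, ← map_mul, hcX, A_val i hc])
    obtain ⟨r, hr⟩ := (A_mem_Om_iff hk i hc).1 (hA ▸ hM.le_Om (mul_mem (hM.base_le (A_mem_base hk i ha.1))
      (hM.base_le (A_mem_base hk i hb.1))))
    have hr0 : r ≠ 0 := fun e0 => hc (by rw [hr, e0, zero_mul])
    intro g hg
    obtain ⟨hgL, hgc⟩ := mem_CL.1 hg
    refine child hk hM IH hfree (a := r⁻¹ • c) ⟨?_, fun s hs => by rw [hS] at hs; simp at hs⟩ hgL ?_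
    · rw [smul_dotProduct, dotProduct_smul, smul_eq_mul, smul_eq_mul, hr]
      field_simp
    · rw [A_smul i c (inv_ne_zero hr0), ← hA]
      exact hgc
  obtain ⟨x, y, hxy, hx, hy⟩ := exists_two hfree
  obtain ⟨g1, hg1, hg1a, hg1S⟩ := exists_map_coord hh (S := S i) (eC_ne x)
    (show (eC x : Fin k → F) ⬝ᵥ eC x = a ⬝ᵥ a by rw [eC_self, ha.1]) (isU_eC (F := F) hx).2 ha.2
  have hgT : ∀ v : Fin k → F, g1 *ᵥ (g1ᵀ *ᵥ v) = v := fun v => by
    rw [mulVec_mulVec, mul_eq_one_comm.1 hg1, one_mulVec]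
  have hb'1 : (g1ᵀ *ᵥ b) ⬝ᵥ (g1ᵀ *ᵥ b) = 1 := by rw [← dot_orth hg1, hgT, hb.1]
  have hb'S : ∀ s ∈ insert x (S i), (g1ᵀ *ᵥ b) s = 0 := by
    intro s hs
    have e : (g1ᵀ *ᵥ b) s = (g1 *ᵥ Pi.single s 1) ⬝ᵥ b := by simp [mulVec, dotProduct, Pi.single_apply]
    rw [e]
    rcases Finset.mem_insert.1 hs with rfl | hs
    · rw [show g1 *ᵥ Pi.single s 1 = a from hg1a, hab]
    · rw [hg1S s hs]; simp [hb.2 s hs]
  obtain ⟨g2, hg2, hg2b, hg2S⟩ := exists_map_coord hh (S := insert x (S i)) (eC_ne y)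
    (show (eC y : Fin k → F) ⬝ᵥ eC y = _ by rw [eC_self, hb'1])
    (fun s hs => Pi.single_eq_of_ne (show s ≠ y from fun e => by
      subst e; rcases Finset.mem_insert.1 hs with e' | e'
      exacts [hxy e'.symm, hy e']) 1) hb'S
  have hgg : (g1 * g2)ᵀ * (g1 * g2) = 1 := by
    rw [transpose_mul, Matrix.mul_assoc, ← Matrix.mul_assoc g1ᵀ, hg1, Matrix.one_mul, hg2]
  set n := slotGL i (unitOfOrth (g1 * g2) hgg) with hn
  have hmap : n * (A i (eC x) * A i (eC y)) * n⁻¹ = A i a * A i b := by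
    calc n * (A i (eC x) * A i (eC y)) * n⁻¹
        = (n * A i (eC x) * n⁻¹) * (n * A i (eC y) * n⁻¹) := by group
      _ = A i a * A i b := by
          rw [hn, slotGL_conj_A i hgg (eC_ne x), slotGL_conj_A i hgg (eC_ne y)]
          congr 2 <;> rw [unitOfOrth_val, ← mulVec_mulVec]
          · rw [hg2S x (Finset.mem_insert_self _ _)]; exact hg1a
          · rw [show g2 *ᵥ eC y = _ from hg2b, hgT]
  rw [← hmap]
  refine transfer hM (slotGL_mem_wreath i _) (slotGL_mem_orth i hgg) (fun j s hs => ?_)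
    fun M' hM' => pairA_coord hk h3 hk3 hM' IH h2f hi hxy hx hy
  have : n * A j (eC s) * n⁻¹ = A j (eC s) := by
    rcases eq_or_ne i j with rfl | hij
    · rw [hn, slotGL_conj_A i hgg (eC_ne s), unitOfOrth_val, ← mulVec_mulVec,
        hg2S s (Finset.mem_insert_of_mem hs)]
      exact congrArg (A i) (hg1S s hs)
    · exact slotGL_conj_A_ne hij _ _
  exact mul_inv_eq_iff_eq_mul.1 this

end CfsgLib.MaxSub.TPow
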