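import Cfsg.Agent.Lib.MaxSub.TPow.Slot
import Cfsg.Agent.Lib.MaxSub.TPow.Fus

/-!
Calculus of the normal forms of wreath elements; involutions of one factor.
-/

set_option autoImplicit false
set_option linter.unusedSectionVars false
set_option linter.style.haveILetI false

namespace CfsgLib.MaxSub.TPow

open Matrix CfsgLib.Aschbacher
open CfsgLib.Aschbacher.Orth (pureMat_transpose permMat_mul_permMat permMat_one permMat_transpose
  scalar_of_pure_scalar)
open scoped MatrixGroups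

section Axes

variable {ι : Type*} [Fintype ι] [DecidableEq ι] {F : Type*} [Field F]

theorem ax_fix (h2 : (2 : F) ≠ 0) {h x : ι → F} (e : ax h *ᵥ x = x) : ∃ c : F, x = c • h := by
  refine ⟨2⁻¹ * (2 / (h ⬝ᵥ h) * (h ⬝ᵥ x)), ?_⟩
  rw [ax_mulVec, sub_eq_iff_eq_add, ← two_smul F] at e
  rw [mul_smul, e, smul_smul, inv_mul_cancel₀ h2, one_smul]

/-- equal axial matrices have proportional axes -/
theorem ax_inj (h2 : (2 : F) ≠ 0) {g h : ι → F} (hg : g ⬝ᵥ g ≠ 0) (e : ax g = ax h) :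
    ∃ c : F, c ≠ 0 ∧ g = c • h := by
  obtain ⟨c, hc⟩ := ax_fix h2 (h := h) (x := g) (by rw [← e, ax_self hg])
  refine ⟨c, fun e0 => hg ?_, hc⟩
  rw [hc, e0, zero_smul, zero_dotProduct]

theorem ne_of_orth (h2 : (2 : F) ≠ 0) {g h : ι → F} (hg : g ⬝ᵥ g ≠ 0) (o : g ⬝ᵥ h = 0) : ax g ≠ ax h := by
  intro e
  obtain ⟨c, _, hc⟩ := ax_inj h2 hg e
  refine hg ?_
  conv_lhs => rhs; rw [hc]
  rw [dotProduct_smul, o, smul_zero]

theorem ax_ne_one (h2 : (2 : F) ≠ 0) (hn : 2 ≤ Fintype.card ι) (h : ι → F) : ax h ≠ (1 : Matrix ι ι F) := by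
  classical
  intro e
  obtain ⟨a, b, hab⟩ := Fintype.one_lt_card_iff.1 (lt_of_lt_of_le one_lt_two hn)
  obtain ⟨c, hc⟩ := ax_fix h2 (h := h) (x := Pi.single a (1 : F)) (by rw [e, one_mulVec])
  obtain ⟨d, hd⟩ := ax_fix h2 (h := h) (x := Pi.single b (1 : F)) (by rw [e, one_mulVec])
  have h1 := congrFun hc a
  have h2' := congrFun hd a
  have h3 := congrFun hd b
  simp only [Pi.single_eq_same, Pi.single_eq_of_ne hab, Pi.smul_apply, smul_eq_mul] at h1 h2' h3
  rcases mul_eq_zero.1 h2'.symm with e0 | e0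
  · simp [e0] at h3
  · simp [e0] at h1

theorem dval_ax [Finite F] (h2 : (2 : F) ≠ 0) {h : ι → F} (hh : h ⬝ᵥ h ≠ 0) :
    dval (ax h) = 2 - (Fintype.card ι : ℤ) := by
  have hk : LinearMap.ker (ax h - 1).mulVecLin = Submodule.span F {h} := by
    ext x
    rw [LinearMap.mem_ker, mulVecLin_apply, sub_mulVec, one_mulVec, sub_eq_zero,
      Submodule.mem_span_singleton]
    constructor
    · intro e
      obtain ⟨c, hc⟩ := ax_fix h2 e
      exact ⟨c, hc.symm⟩
    · rintro ⟨c, rfl⟩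
      rw [mulVec_smul, ax_self hh]
  have h0 : h ≠ 0 := fun e => hh (by rw [e, dotProduct_zero])
  rw [dval, hk, finrank_span_singleton h0]
  norm_num

theorem det_ax (hodd : Odd (Fintype.card ι)) {h : ι → F} (hh : h ⬝ᵥ h ≠ 0) : (ax h).det = 1 := by
  set c : F := 2 / (h ⬝ᵥ h)
  have e : ax h = -(1 + replicateCol Unit ((-c) • h) * replicateRow Unit h) := by
    ext a b
    simp [ax, vecMulVec_apply, Matrix.mul_apply, c]
    ring
  rw [e, det_neg, det_one_add_replicateCol_mul_replicateRow, hodd.neg_one_pow, dotProduct_smul, smul_eq_mul,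
    show (-c) * (h ⬝ᵥ h) = -2 by rw [neg_mul, div_mul_cancel₀ _ hh]]
  ring

end Axes

variable {t k : ℕ} {F : Type*} [Field F] [Fintype F]

/-- special orthogonal matrices -/
def IsSO (b : Matrix (Fin k) (Fin k) F) : Prop := bᵀ * b = 1 ∧ b.det = 1

theorem isSO_one : IsSO (1 : Matrix (Fin k) (Fin k) F) := ⟨by simp, det_one⟩

theorem IsSO.mul {a b : Matrix (Fin k) (Fin k) F} (ha : IsSO a) (hb : IsSO b) : IsSO (a * b) := by
  refine ⟨?_, by rw [det_mul, ha.2, hb.2, one_mul]⟩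
  rw [transpose_mul, Matrix.mul_assoc, ← Matrix.mul_assoc aᵀ, ha.1, Matrix.one_mul, hb.1]

theorem IsSO.transpose {a : Matrix (Fin k) (Fin k) F} (ha : IsSO a) : IsSO aᵀ :=
  ⟨by rw [transpose_transpose]; exact mul_eq_one_comm.1 ha.1, by rw [det_transpose, ha.2]⟩

theorem isSO_ax (hk : Odd k) {h : Fin k → F} (hh : h ⬝ᵥ h ≠ 0) : IsSO (ax h) :=
  ⟨ax_orth hh, det_ax (by rwa [Fintype.card_fin]) hh⟩

theorem IsSO.commute_ax (h2 : (2 : F) ≠ 0) {b : Matrix (Fin k) (Fin k) F} (hb : IsSO b) {h : Fin k → F}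
    (hh : h ⬝ᵥ h ≠ 0) (c : b * ax h = ax h * b) : b *ᵥ h = h ∨ b *ᵥ h = -h := by
  have e : ax (b *ᵥ h) = ax h := by
    rw [← ax_conj hb.1 h, c, Matrix.mul_assoc, mul_eq_one_comm.1 hb.1, Matrix.mul_one]
  obtain ⟨l, _, hl⟩ := ax_inj h2 (by rwa [dot_orth hb.1]) e
  have : l * l = 1 := by
    have := dot_orth hb.1 h h
    rw [hl, smul_dotProduct, dotProduct_smul, smul_eq_mul, smul_eq_mul, ← mul_assoc] at this
    exact (mul_eq_right₀ hh).1 this
  rcases mul_self_eq_one_iff.1 this with rfl | rfl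
  · exact Or.inl (by rw [hl, one_smul])
  · exact Or.inr (by rw [hl, neg_one_smul])

/-- an involution of a factor: trivial, or its value is smaller; the extreme ones are axial -/
theorem so_invol (h2 : (2 : F) ≠ 0) (hk : Odd k) {b : Matrix (Fin k) (Fin k) F} (hb : IsSO b) (hbb : b * b = 1)
    (hne : b ≠ 1) :
    ∃ r : ℕ, 1 ≤ r ∧ 2 * r + 1 ≤ k ∧ dval b = (k : ℤ) - 4 * r ∧
      (2 * r + 1 = k → ∃ h, h ⬝ᵥ h ≠ 0 ∧ b = ax h) := by
  classical
  have hne1 : (-1 : F) ≠ 1 := fun e => h2 (by linear_combination -e)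
  obtain ⟨P, s, hs, e⟩ := exists_diag h2 hbb
  have hPP : ((P⁻¹ : GL (Fin k) F) : Matrix (Fin k) (Fin k) F) * (P : Matrix (Fin k) (Fin k) F) = 1 := by
    rw [← Units.val_mul, inv_mul_cancel, Units.val_one]
  set N := Finset.univ.filter fun c => s c = -1 with hN
  have hprod : ∏ c, s c = (-1 : F) ^ N.card := by
    rw [← Finset.prod_filter_mul_prod_filter_not Finset.univ (fun c => s c = -1) s,
      Finset.prod_congr rfl (g := fun _ => (-1 : F)) (fun c hc => (Finset.mem_filter.1 hc).2),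
      Finset.prod_eq_one (f := s) (s := Finset.univ.filter fun c => ¬ s c = -1)
        (fun c hc => (hs c).resolve_right (Finset.mem_filter.1 hc).2), Finset.prod_const, mul_one]
  have heven : Even N.card := by
    have h1 := hb.2
    rw [e, det_units_conj, det_diagonal, hprod] at h1
    exact (neg_one_pow_eq_one_iff_even hne1).1 h1
  have hsum : dval b = (k : ℤ) - 2 * N.card := by
    rw [e, dval_conj, dval_diag h2 hs,
      Finset.sum_congr rfl (g := fun c => 1 - 2 * (if s c = -1 then (1 : ℤ) else 0)) (fun c _ => by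
        rcases hs c with h | h <;> simp [sgnZ, h, hne1, hne1.symm]),
      Finset.sum_sub_distrib, ← Finset.mul_sum, Finset.sum_boole]
    simp [hN]
  have hNk : N.card ≤ k := by simpa using Finset.card_le_univ N
  have hN0 : N.card ≠ 0 := by
    intro h0
    refine hne ?_
    have : s = fun _ => 1 := funext fun c => (hs c).resolve_right fun h => by
      have : c ∈ N := Finset.mem_filter.2 ⟨Finset.mem_univ c, h⟩
      rw [Finset.card_eq_zero.1 h0] at this
      simp at this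
    rw [e, this, diagonal_one, Matrix.mul_one, ← Units.val_mul, mul_inv_cancel, Units.val_one]
  obtain ⟨r, hr⟩ := heven
  obtain ⟨m, hm⟩ := hk
  refine ⟨r, by omega, by omega, by rw [hsum, hr]; push_cast; ring, fun hext => ?_⟩
  have hc1 : (Finset.univ \ N).card = 1 := by
    rw [Finset.card_sdiff, Finset.inter_univ, Finset.card_univ, Fintype.card_fin]
    omega
  obtain ⟨x0, hx0⟩ := Finset.card_eq_one.1 hc1
  have hs0 : ∀ y, s y = if y = x0 then 1 else -1 := fun y => by
    have : y ∈ Finset.univ \ N ↔ y = x0 := by rw [hx0, Finset.mem_singleton]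
    simp only [Finset.mem_sdiff, Finset.mem_univ, true_and, hN, Finset.mem_filter] at this
    split
    · next h => exact (hs y).resolve_right (this.2 h)
    · next h => exact not_not.1 fun h' => h (this.1 h')
  let col : Fin k → Fin k → F := fun y => (P : Matrix (Fin k) (Fin k) F) *ᵥ Pi.single y 1
  have hbc : ∀ y, b *ᵥ col y = s y • col y := fun y => by
    show b *ᵥ ((P : Matrix (Fin k) (Fin k) F) *ᵥ _) = _
    rw [e, mulVec_mulVec, Matrix.mul_assoc, hPP, Matrix.mul_one, ← mulVec_mulVec, diagonal_mulVec_single,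
      ← mulVec_smul]
    congr 1
    ext a
    simp [Pi.single_apply]
  have ho : ∀ y, y ≠ x0 → col x0 ⬝ᵥ col y = 0 := fun y hy => by
    have h1 := dot_orth hb.1 (col x0) (col y)
    rw [hbc, hbc, hs0, hs0, if_pos rfl, if_neg hy, one_smul, neg_one_smul, dotProduct_neg] at h1
    exact (mul_eq_zero.1 (show (2 : F) * (col x0 ⬝ᵥ col y) = 0 by linear_combination -h1)).resolve_left h2
  have hh : col x0 ⬝ᵥ col x0 ≠ 0 := by
    intro h0
    have hall : (col x0) ᵥ* (P : Matrix (Fin k) (Fin k) F) = 0 := funext fun y => by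
      have : col x0 ⬝ᵥ col y = 0 := by
        rcases eq_or_ne y x0 with rfl | hy
        exacts [h0, ho y hy]
      simpa [col, mulVec_single, vecMul, dotProduct] using this
    have h1 : col x0 = 0 := by
      have := congrArg (fun v => v ᵥ* ((P⁻¹ : GL (Fin k) F) : Matrix (Fin k) (Fin k) F)) hall
      simpa [vecMul_vecMul, ← Units.val_mul] using this
    have h2' := congrArg (fun v => ((P⁻¹ : GL (Fin k) F) : Matrix (Fin k) (Fin k) F) *ᵥ v) h1
    simp only [col, mulVec_mulVec, hPP, one_mulVec, mulVec_zero] at h2'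
    simpa using congrFun h2' x0
  refine ⟨col x0, hh, ?_⟩
  have : b * (P : Matrix (Fin k) (Fin k) F) = ax (col x0) * (P : Matrix (Fin k) (Fin k) F) := by
    refine ext_of_mulVec_single fun y => ?_
    rw [← mulVec_mulVec, ← mulVec_mulVec]
    show b *ᵥ col y = ax (col x0) *ᵥ col y
    rw [hbc, hs0]
    rcases eq_or_ne y x0 with rfl | hy
    · rw [if_pos rfl, one_smul, ax_self hh]
    · rw [if_neg hy, neg_one_smul, ax_perp (ho y hy)]
  simpa [Matrix.mul_assoc, ← Units.val_mul] using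
    congrArg (fun M => M * ((P⁻¹ : GL (Fin k) F) : Matrix (Fin k) (Fin k) F)) this

/-- the value of a non-trivial involution of a factor is strictly smaller -/
theorem dval_so_lt (h2 : (2 : F) ≠ 0) (hk : Odd k) {b : Matrix (Fin k) (Fin k) F} (hb : IsSO b) (hbb : b * b = 1)
    (hne : b ≠ 1) : (dval b).natAbs + 2 ≤ k ∧ (dval b).natAbs % 2 = 1 := by
  obtain ⟨r, h1, h2', e, -⟩ := so_invol h2 hk hb hbb hne
  obtain ⟨m, hm⟩ := hk
  omega

theorem axial_of_dval (h2 : (2 : F) ≠ 0) (hk : Odd k) (hk3 : 3 ≤ k) {b : Matrix (Fin k) (Fin k) F} (hb : IsSO b)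
    (hbb : b * b = 1) (hd : (dval b).natAbs + 2 = k) : ∃ h, h ⬝ᵥ h ≠ 0 ∧ b = ax h := by
  have hne : b ≠ 1 := by
    rintro rfl
    rw [dval_one, Fintype.card_fin, Int.natAbs_natCast] at hd
    omega
  obtain ⟨r, h1, h2', e, hax⟩ := so_invol h2 hk hb hbb hne
  obtain ⟨m, hm⟩ := hk
  exact hax (by omega)

theorem axial_three (h2 : (2 : F) ≠ 0) {b : Matrix (Fin k) (Fin k) F} (hk : k = 3) (hb : IsSO b)
    (hbb : b * b = 1) (hne : b ≠ 1) : ∃ h, h ⬝ᵥ h ≠ 0 ∧ b = ax h := by
  obtain ⟨r, h1, h2', -, hax⟩ := so_invol h2 (by rw [hk]; decide) hb hbb hne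
  exact hax (by omega)

/-- pure tensors of invertible matrices -/
def pureGL : (Fin t → GL (Fin k) F) →* GL (Fin t → Fin k) F where
  toFun b := ⟨pureMat fun i => (b i : Matrix (Fin k) (Fin k) F),
    pureMat fun i => (((b i)⁻¹ : GL (Fin k) F) : Matrix (Fin k) (Fin k) F),
    by rw [pureMat_mul]; simp [pureMat_one], by rw [pureMat_mul]; simp [pureMat_one]⟩
  map_one' := Units.ext (by simp [pureMat_one])
  map_mul' a b := Units.ext (by simp [pureMat_mul])

theorem A_eq_pureGL (i : Fin t) (h : Fin k → F) : A i h = pureGL (Pi.mulSingle i (axU h)) := by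
  refine Units.ext ?_
  show slot i _ = pureMat fun j => ((Pi.mulSingle i (axU h) : Fin t → GL (Fin k) F) j : Matrix (Fin k) (Fin k) F)
  rw [slot_apply]
  congr 1
  funext j
  rcases eq_or_ne j i with rfl | hj
  · simp
  · simp [hj]

/-- the normal form -/
def Shape (n : GL (Fin t → Fin k) F) (ε : F) (σ : Equiv.Perm (Fin t)) (b : Fin t → Matrix (Fin k) (Fin k) F) :
    Prop :=
  (ε = 1 ∨ ε = -1) ∧ (∀ i, IsSO (b i)) ∧
    (n : Matrix (Fin t → Fin k) (Fin t → Fin k) F) = ε • (permMat σ * pureMat b)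

theorem shape_exists (hk : Odd k) (ht : 0 < t) {n : GL (Fin t → Fin k) F}
    (hn : n ∈ Cfsg.Geo.tensorWreathStandard k t F) (ho : n ∈ orth t k F) : ∃ ε σ b, Shape n ε σ b := by
  obtain ⟨ε, σ, b, h1, h2, h3⟩ := exists_repr hk ht hn ho
  exact ⟨ε, σ, b, h1, h2, h3⟩

theorem shape_one : Shape (1 : GL (Fin t → Fin k) F) 1 1 fun _ => 1 :=
  ⟨Or.inl rfl, fun _ => isSO_one, by rw [one_smul, permMat_one, Matrix.one_mul, pureMat_one, Units.val_one]⟩

theorem Shape.mul {n n' : GL (Fin t → Fin k) F} {ε ε' : F} {σ τ : Equiv.Perm (Fin t)}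
    {b c : Fin t → Matrix (Fin k) (Fin k) F} (h : Shape n ε σ b) (h' : Shape n' ε' τ c) :
    Shape (n * n') (ε * ε') (σ * τ) fun i => b (τ i) * c i := by
  refine ⟨?_, fun i => (h.2.1 _).mul (h'.2.1 i), ?_⟩
  · rcases h.1 with rfl | rfl <;> rcases h'.1 with rfl | rfl <;> simp
  · rw [Units.val_mul, h.2.2, h'.2.2, Matrix.smul_mul, Matrix.mul_smul, smul_smul]
    congr 1
    have e : pureMat b * permMat τ = permMat τ * pureMat fun i => b (τ i) := by
      rw [← pureMat_mul_permMat τ fun i => b (τ i)]; simp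
    rw [Matrix.mul_assoc, ← Matrix.mul_assoc (pureMat b), e, Matrix.mul_assoc, ← Matrix.mul_assoc,
      permMat_mul_permMat, pureMat_mul]

theorem Shape.unique (hk : Odd k) (hk2 : 2 ≤ k) {n : GL (Fin t → Fin k) F} {ε ε' : F} {σ τ : Equiv.Perm (Fin t)}
    {b c : Fin t → Matrix (Fin k) (Fin k) F} (h : Shape n ε σ b) (h' : Shape n ε' τ c) :
    σ = τ ∧ b = c ∧ ε = ε' := by
  haveI : NeZero k := ⟨by omega⟩
  have hε : ∀ {x : F}, (x = 1 ∨ x = -1) → x * x = 1 := fun hx => by rcases hx with e | e <;> rw [e] <;> ring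
  have e0 : ε • (permMat σ * pureMat b) = ε' • (permMat τ * pureMat c) := h.2.2.symm.trans h'.2.2
  have hcc : pureMat c * pureMat (fun i => (c i)ᵀ) = (1 : Matrix (Fin t → Fin k) (Fin t → Fin k) F) := by
    rw [pureMat_mul, show (fun i => c i * (c i)ᵀ) = fun _ => 1 from
      funext fun i => mul_eq_one_comm.1 (h'.2.1 i).1, pureMat_one]
  have hne : ε * ε' ≠ 0 := by
    intro e
    rcases mul_eq_zero.1 e with e | e
    · rcases h.1 with x | x <;> simp [e] at x
    · rcases h'.1 with x | x <;> simp [e] at x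
  have e1 : permMat (τ⁻¹ * σ) * pureMat (fun i => b i * (c i)ᵀ) =
      (ε * ε') • (1 : Matrix (Fin t → Fin k) (Fin t → Fin k) F) := by
    have := congrArg (fun M => ε • (permMat τ⁻¹ * M * pureMat (fun i => (c i)ᵀ))) e0
    simp only [Matrix.mul_smul, Matrix.smul_mul, smul_smul, hε h.1, one_smul] at this
    rw [← pureMat_mul, ← permMat_mul_permMat]
    simp only [Matrix.mul_assoc] at this ⊢
    rw [this, hcc, Matrix.mul_one, permMat_mul_permMat, inv_mul_cancel, permMat_one]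
  have hσ := perm_pure_scalar hk2 hne e1
  rw [hσ, permMat_one, Matrix.one_mul] at e1
  have hbc : b = c := funext fun i => by
    obtain ⟨l, hl⟩ := scalar_of_pure_scalar (b := fun i => b i * (c i)ᵀ) hne e1 i
    have hs := (h.2.1 i).mul (h'.2.1 i).transpose
    have := eq_one_of_scalar hk hs.1 hs.2 hl
    calc b i = b i * ((c i)ᵀ * c i) := by rw [(h'.2.1 i).1, Matrix.mul_one]
      _ = c i := by rw [← Matrix.mul_assoc, this, Matrix.one_mul]
  refine ⟨(inv_mul_eq_one.1 hσ).symm, hbc, ?_⟩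
  rw [hbc, show (fun i => c i * (c i)ᵀ) = fun _ => 1 from funext fun i => mul_eq_one_comm.1 (h'.2.1 i).1,
    pureMat_one] at e1
  have := congrFun (congrFun e1 fun _ => 0) fun _ => 0
  simp only [Matrix.smul_apply, Matrix.one_apply_eq, smul_eq_mul, mul_one] at this
  calc ε = ε * (ε' * ε') := by rw [hε h'.1, mul_one]
    _ = ε' := by rw [← mul_assoc, ← this, one_mul]

theorem shape_A (hk : Odd k) (i : Fin t) {h : Fin k → F} (hh : h ⬝ᵥ h ≠ 0) :
    Shape (A i h) 1 1 (Function.update (fun _ => 1) i (ax h)) := by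
  refine ⟨Or.inl rfl, fun j => ?_, ?_⟩
  · rcases eq_or_ne j i with rfl | hj
    · rw [Function.update_self]; exact isSO_ax hk hh
    · rw [Function.update_of_ne hj]; exact isSO_one
  · rw [one_smul, permMat_one, Matrix.one_mul, A_val i hh, slot_apply]

theorem Shape.invol (hk : Odd k) (hk2 : 2 ≤ k) {n : GL (Fin t → Fin k) F} {ε : F} {σ : Equiv.Perm (Fin t)}
    {b : Fin t → Matrix (Fin k) (Fin k) F} (h : Shape n ε σ b) (hn : n * n = 1) :
    (∀ i, σ (σ i) = i) ∧ ∀ i, b (σ i) * b i = 1 :=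
  repr_invol hk hk2 h.1 h.2.1 (by rw [← h.2.2, ← Units.val_mul, hn, Units.val_one])

theorem Shape.invol_iff (hk : Odd k) (hk2 : 2 ≤ k) {z : GL (Fin t → Fin k) F} {ε : F}
    {c : Fin t → Matrix (Fin k) (Fin k) F} (h : Shape z ε 1 c) :
    z * z = 1 ↔ ∀ i, c i * c i = 1 := by
  refine ⟨fun hz i => (h.invol hk hk2 hz).2 i, fun hc => Units.ext ?_⟩
  have h' := h.mul h
  rw [h'.2.2, one_mul, permMat_one, Matrix.one_mul, Units.val_one]
  have hεε : ε * ε = 1 := by rcases h.1 with e | e <;> rw [e] <;> ring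
  rw [hεε, one_smul, show (fun i => c ((1 : Equiv.Perm (Fin t)) i) * c i) = fun _ => 1 from funext hc,
    pureMat_one]

/-- commuting with a pure element -/
theorem Shape.comm (hk : Odd k) (hk2 : 2 ≤ k) {n z : GL (Fin t → Fin k) F} {ε ε' : F} {σ : Equiv.Perm (Fin t)}
    {b c : Fin t → Matrix (Fin k) (Fin k) F} (h : Shape n ε σ b) (h' : Shape z ε' 1 c) (hc : Commute n z)
    (i : Fin t) : b i * c i = c (σ i) * b i := by
  have h2 := h'.mul h
  rw [← hc.eq] at h2
  exact congrFun ((h.mul h').unique hk hk2 h2).2.1 i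

/-- commuting with one axial element -/
theorem Shape.comm_A (h2 : (2 : F) ≠ 0) (hk : Odd k) (hk2 : 2 ≤ k) {n : GL (Fin t → Fin k) F} {ε : F}
    {σ : Equiv.Perm (Fin t)} {b : Fin t → Matrix (Fin k) (Fin k) F} (h : Shape n ε σ b) {i : Fin t}
    {v : Fin k → F} (hv : v ⬝ᵥ v ≠ 0) (hc : Commute n (A i v)) :
    σ i = i ∧ (b i *ᵥ v = v ∨ b i *ᵥ v = -v) := by
  have e := h.comm hk hk2 (shape_A hk i hv) hc i
  have hσ : σ i = i := by
    by_contra hne
    rw [Function.update_self, Function.update_of_ne hne, Matrix.one_mul] at e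
    refine ax_ne_one h2 (by rwa [Fintype.card_fin]) v ?_
    have := congrArg ((b i)ᵀ * ·) e
    rwa [← Matrix.mul_assoc, (h.2.1 i).1, Matrix.one_mul] at this
  rw [hσ, Function.update_self] at e
  exact ⟨hσ, (h.2.1 i).commute_ax h2 hv e⟩

theorem dval_shape [DecidableEq F] (h2 : (2 : F) ≠ 0) (hk : Odd k) (hk2 : 2 ≤ k) {n : GL (Fin t → Fin k) F}
    {ε : F} {σ : Equiv.Perm (Fin t)} {b : Fin t → Matrix (Fin k) (Fin k) F} (h : Shape n ε σ b) (hn : n * n = 1) :
    dval (n : Matrix (Fin t → Fin k) (Fin t → Fin k) F) =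
      (if ε = 1 then 1 else -1) * (k : ℤ) ^ cyc σ *
        ∏ i ∈ Finset.univ.filter (fun i => σ i = i), dval (b i) := by
  rw [h.2.2]
  exact dval_repr h2 h.1 (h.invol hk hk2 hn).1 (h.invol hk hk2 hn).2

/-- the value of a pure involution -/
theorem dval_pure (h2 : (2 : F) ≠ 0) (hk : Odd k) (hk2 : 2 ≤ k) {n : GL (Fin t → Fin k) F}
    {b : Fin t → Matrix (Fin k) (Fin k) F} (h : Shape n 1 1 b) (hn : n * n = 1) :
    dval (n : Matrix (Fin t → Fin k) (Fin t → Fin k) F) = ∏ i, dval (b i) := by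
  classical
  rw [dval_shape h2 hk hk2 h hn, if_pos rfl, show cyc (1 : Equiv.Perm (Fin t)) = 0 by simp [cyc],
    pow_zero, one_mul, one_mul]
  exact Finset.prod_congr (by simp) fun _ _ => rfl

/-- the value of a pure involution, reading off its support -/
theorem dval_pure_on (h2 : (2 : F) ≠ 0) (hk : Odd k) (hk2 : 2 ≤ k) {n : GL (Fin t → Fin k) F}
    {b : Fin t → Matrix (Fin k) (Fin k) F} (h : Shape n 1 1 b) (hn : n * n = 1) (J : Finset (Fin t))
    (hJ : ∀ i, i ∉ J → b i = 1) :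
    dval (n : Matrix (Fin t → Fin k) (Fin t → Fin k) F) * (k : ℤ) ^ J.card = (k : ℤ) ^ t * ∏ i ∈ J, dval (b i) := by
  classical
  rw [dval_pure h2 hk hk2 h hn, ← Finset.prod_sdiff (Finset.subset_univ J),
    Finset.prod_congr rfl (g := fun _ => (k : ℤ)) (fun i hi => by
      rw [hJ i (Finset.mem_sdiff.1 hi).2, dval_one, Fintype.card_fin]), Finset.prod_const,
    Finset.card_sdiff, Finset.inter_univ, Finset.card_univ, Fintype.card_fin, mul_right_comm, ← pow_add,
    Nat.sub_add_cancel (by simpa using Finset.card_le_univ J)]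

end CfsgLib.MaxSub.TPow
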