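import Cfsg.Agent.Lib.MaxSub.TPow.Config

/-!
Conjugates of one axial element inside the centraliser of a configuration, and the elements of the base mapping
one to another.
-/

set_option autoImplicit false
set_option linter.unusedSectionVars false
set_option linter.style.haveILetI false

namespace CfsgLib.MaxSub.TPow

open Matrix CfsgLib.Aschbacher
open CfsgLib.Aschbacher.Orth (pureMat_transpose permMat_mul_permMat permMat_one permMat_transpose)
open scoped MatrixGroups

variable {t k : ℕ} {F : Type*} [Field F] [Fintype F] [h2 : Fact ((2 : F) ≠ 0)]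

/-- the value of one axial element -/
theorem dval_A (hk : Odd k) (hk2 : 2 ≤ k) (i : Fin t) {a : Fin k → F} (ha : a ⬝ᵥ a ≠ 0) :
    dval (A i a : Matrix (Fin t → Fin k) (Fin t → Fin k) F) * (k : ℤ) = (k : ℤ) ^ t * (2 - (k : ℤ)) := by
  have h := dval_pure_on h2.out hk hk2 (shape_A hk i ha) (A_mul_self i a) {i}
    fun j hj => Function.update_of_ne (fun e => hj (Finset.mem_singleton.2 e)) _ _
  rwa [Finset.card_singleton, pow_one, Finset.prod_singleton, Function.update_self, dval_ax h2.out ha,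
    Fintype.card_fin] at h

/-- two axial elements of different slots -/
theorem dval_A_ne (hk : Odd k) (hk2 : 2 ≤ k) {i j : Fin t} (hij : i ≠ j) {a v : Fin k → F} (ha : a ⬝ᵥ a ≠ 0)
    (hv : v ⬝ᵥ v ≠ 0) : dval ((A i a * A j v : GL (Fin t → Fin k) F) : Matrix (Fin t → Fin k) (Fin t → Fin k) F) *
      ((k : ℤ) * k) = (k : ℤ) ^ t * ((2 - (k : ℤ)) * (2 - (k : ℤ))) := by
  have hs := (shape_A hk i ha).mul (shape_A hk j hv)
  simp only [one_mul, Equiv.Perm.coe_one, id_eq] at hs
  have hn : A i a * A j v * (A i a * A j v) = 1 := by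
    rw [(A_comm_ne hij a v).symm.mul_mul_mul_comm, A_mul_self, A_mul_self, one_mul]
  have h := dval_pure_on h2.out hk hk2 hs hn {i, j} fun l hl => by
    simp only [Finset.mem_insert, Finset.mem_singleton, not_or] at hl
    rw [Function.update_of_ne hl.1, Function.update_of_ne hl.2, Matrix.one_mul]
  rwa [Finset.card_pair hij, sq, Finset.prod_pair hij, Function.update_self, Function.update_of_ne hij,
    Function.update_of_ne hij.symm, Function.update_self, Matrix.one_mul, Matrix.mul_one, dval_ax h2.out ha,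
    dval_ax h2.out hv, Fintype.card_fin] at h

/-- two axial elements of one slot -/
theorem dval_A_same (hk : Odd k) (hk2 : 2 ≤ k) (i : Fin t) {a v : Fin k → F} (ha : a ⬝ᵥ a ≠ 0)
    (hv : v ⬝ᵥ v ≠ 0) (o : a ⬝ᵥ v = 0) :
    dval ((A i a * A i v : GL (Fin t → Fin k) F) : Matrix (Fin t → Fin k) (Fin t → Fin k) F) * (k : ℤ) =
      (k : ℤ) ^ t * dval (ax a * ax v) := by
  have hs := (shape_A hk i ha).mul (shape_A hk i hv)
  simp only [one_mul, Equiv.Perm.coe_one, id_eq] at hs
  have hn : A i a * A i v * (A i a * A i v) = 1 := by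
    rw [(A_comm_orth i ha hv o).symm.mul_mul_mul_comm, A_mul_self, A_mul_self, one_mul]
  have h := dval_pure_on h2.out hk hk2 hs hn {i} fun l hl => by
    have hl' : l ≠ i := fun e => hl (Finset.mem_singleton.2 e)
    rw [Function.update_of_ne hl', Function.update_of_ne hl', Matrix.one_mul]
  rwa [Finset.card_singleton, pow_one, Finset.prod_singleton, Function.update_self, Function.update_self] at h

theorem no_mix (hk : Odd k) (hk3 : 3 ≤ k) (D : ℤ) : D * (k : ℤ) ≠ (2 - (k : ℤ)) * (2 - (k : ℤ)) := by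
  intro e
  have hd : (k : ℤ) ∣ 4 := ⟨D + 4 - (k : ℤ), by linear_combination -e⟩
  have hle : (k : ℤ) ≤ 4 := Int.le_of_dvd (by norm_num) hd
  obtain ⟨m, hm⟩ := hk
  have h3 : k = 3 := by omega
  subst h3
  norm_num at hd

/-- invariance of the values of products with commuting elements -/
theorem dval_conj_mul {g x c : GL (Fin t → Fin k) F} (hc : Commute g c) :
    dval ((g * x * g⁻¹ * c : GL (Fin t → Fin k) F) : Matrix (Fin t → Fin k) (Fin t → Fin k) F) =
      dval ((x * c : GL (Fin t → Fin k) F) : Matrix (Fin t → Fin k) (Fin t → Fin k) F) := by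
  have e : g * x * g⁻¹ * c = g * (x * c) * g⁻¹ := by
    have := hc.inv_left.eq
    calc g * x * g⁻¹ * c = g * x * (g⁻¹ * c) := by group
      _ = g * x * (c * g⁻¹) := by rw [this]
      _ = _ := by group
  rw [e, Units.val_mul, Units.val_mul, dval_conj]

theorem A_inj (hk : Odd k) (hk2 : 2 ≤ k) {i j : Fin t} {a v : Fin k → F} (ha : a ⬝ᵥ a ≠ 0) (hv : v ⬝ᵥ v ≠ 0)
    (e : A i a = A j v) : i = j ∧ ∃ c : F, c ≠ 0 ∧ a = c • v := by
  have h := ((shape_A hk i ha).unique hk hk2 (e ▸ shape_A hk j hv)).2.1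
  have hij : i = j := by
    by_contra hne
    have h1 := congrFun h i
    rw [Function.update_self, Function.update_of_ne hne] at h1
    exact ax_ne_one h2.out (by rwa [Fintype.card_fin]) a h1
  subst hij
  have h1 := congrFun h i
  rw [Function.update_self, Function.update_self] at h1
  exact ⟨rfl, ax_inj h2.out ha h1⟩

/-- a wreath involution with the value of one axial element -/
theorem single_or_negP (hk : Odd k) (hk3 : 3 ≤ k) (ht : 0 < t) {n : GL (Fin t → Fin k) F}
    (hW : n ∈ Cfsg.Geo.tensorWreathStandard k t F) (hO : n ∈ Om t k F) (hn : n * n = 1)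
    (hd : dval (n : Matrix (Fin t → Fin k) (Fin t → Fin k) F) * (k : ℤ) = (k : ℤ) ^ t * (2 - (k : ℤ))) :
    (∃ j v, v ⬝ᵥ v = 1 ∧ n = A j v) ∨
      (k = 3 ∧ ∃ b u v, u ≠ v ∧ Shape n (-1) (Equiv.swap u v) b ∧ ∀ i, i ≠ u → i ≠ v → b i = 1) := by
  classical
  obtain ⟨ε, σ, b, hs⟩ := shape_exists hk ht hW (Om_le_orth hO)
  obtain ⟨hcj, hc0, hax, hsgn⟩ := fus hk hk3 hs hn one_ne_zero (by rw [pow_one, pow_one]; exact hd)
  have hinv := hs.invol hk (by omega) hn
  rcases Nat.eq_zero_or_pos (cyc σ) with hc | hc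
  · left
    have hσ := perm_eq_one_of_cyc hinv.1 hc
    subst hσ
    rw [hc, zero_add] at hcj
    obtain ⟨j, hj⟩ := Finset.card_eq_one.1 hcj
    obtain ⟨v, hv, hbv⟩ := hax j (hj ▸ Finset.mem_singleton_self j)
    have hε : ε = 1 := hsgn.2 (by rw [hc]; exact ⟨0, rfl⟩)
    have e : n = A j v := by
      refine Units.ext ?_
      rw [hs.2.2, (shape_A hk j hv).2.2, hε]
      congr 2
      congr 1
      funext l
      rcases eq_or_ne l j with rfl | hl
      · rw [Function.update_self, hbv]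
      · rw [Function.update_of_ne hl]
        by_contra hne
        exact hl (Finset.mem_singleton.1 (hj ▸ mem_nt.2 ⟨rfl, hne⟩))
    obtain ⟨r, hr⟩ := (A_mem_Om_iff hk j hv).1 (e ▸ hO)
    have hr0 : r ≠ 0 := fun e0 => hv (by rw [hr, e0, zero_mul])
    refine ⟨j, r⁻¹ • v, ?_, e.trans (A_smul j v (inv_ne_zero hr0)).symm⟩
    rw [smul_dotProduct, dotProduct_smul, smul_eq_mul, smul_eq_mul, hr]
    field_simp
  · right
    have h3 : k = 3 := by by_contra hne; have := hc0 hne; omega
    refine ⟨h3, ?_⟩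
    have hc1 : cyc σ = 1 := by omega
    obtain ⟨u, v, huv, rfl⟩ := perm_swap_of_cyc hinv.1 hc1
    have hε : ε = -1 := hs.1.resolve_left fun e => by
      have := hsgn.1 e
      rw [hc1] at this
      exact Nat.not_even_one this
    refine ⟨b, u, v, huv, hε ▸ hs, fun i hiu hiv => ?_⟩
    by_contra hne
    have : i ∈ nt (Equiv.swap u v) b := mem_nt.2 ⟨Equiv.swap_apply_of_ne_of_ne hiu hiv, hne⟩
    have := Finset.card_pos.2 ⟨i, this⟩
    omega

variable {M : Subgroup (GL (Fin t → Fin k) F)} {S : Fin t → Finset (Fin k)}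

theorem conj_mem_L {g x : GL (Fin t → Fin k) F} (hg : g ∈ L M S) (hx : x ∈ L M S) : g * x * g⁻¹ ∈ L M S :=
  mul_mem (mul_mem hg hx) (inv_mem hg)

theorem nonempty_of_not_free (hk3 : 3 ≤ k) {j : Fin t} (hj : ¬ Free S j) : (S j).Nonempty := by
  rw [← Finset.card_pos]
  unfold Free at hj
  omega

/-- an axial element of a slot without two free coordinates commutes with `L` -/
theorem comm_A_of_not_free {j : Fin t} (hj : ¬ Free S j) {v : Fin k → F} (hv : v ⬝ᵥ v = 1)
    (hvS : ∀ s ∈ S j, v s = 0) {g : GL (Fin t → Fin k) F} (hg : g ∈ L M S) : Commute g (A j v) := by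
  classical
  have hcard : ((S j)ᶜ).card ≤ 1 := by
    rw [Finset.card_compl, Fintype.card_fin]
    unfold Free at hj
    omega
  obtain ⟨x, hx⟩ : ∃ x, v x ≠ 0 := by
    by_contra h
    simp only [not_exists, not_not] at h
    rw [show v = 0 from funext h, zero_dotProduct] at hv
    exact zero_ne_one hv
  have hxS : x ∈ (S j)ᶜ := Finset.mem_compl.2 fun h => hx (hvS x h)
  have hone : ∀ a, a ∉ S j → a = x := fun a ha => Finset.card_le_one.1 hcard a (Finset.mem_compl.2 ha) x hxS
  have e : v = v x • eC x := funext fun a => by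
    rcases eq_or_ne a x with rfl | ha
    · simp
    · have : a ∈ S j := by by_contra h; exact ha (hone a h)
      simp [ha, hvS a this]
  rw [e, A_smul j _ hx]
  refine L_comm_diag hg (i := j) (d := fun c => if c = x then (1 : F) else -1)
    (fun a b ha hb => by simp [hone a ha, hone b hb]) ?_
  rw [A_val j (eC_ne x), ax_single]

/-- the slot of a conjugate of an axial element -/
theorem single_slot (hk : Odd k) (hk3 : 3 ≤ k) (hM : Good M) {i : Fin t} (hi : Free S i) {a : Fin k → F}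
    (ha : IsU S i a) {g : GL (Fin t → Fin k) F} (hg : g ∈ L M S) {j : Fin t} {v : Fin k → F} (hv : v ⬝ᵥ v = 1)
    (e : g * A i a * g⁻¹ = A j v) : Free S j ∧ IsU S j v ∧ (j ≠ i → S i = ∅ ∧ S j = ∅) := by
  have hh : (2 : F) ≠ 0 := h2.out
  have hv0 : v ⬝ᵥ v ≠ 0 := by rw [hv]; exact one_ne_zero
  have hmem : A j v ∈ L M S := e ▸ conj_mem_L hg (A_mem_L hk hM ha)
  have central : ∀ {w : Fin k → F}, w ⬝ᵥ w ≠ 0 → A j v = A j w → Commute g (A j w) → A i a = A j w := by
    intro w _ he hc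
    have e' : A i a = g⁻¹ * A j w * g := by rw [← he, ← e]; group
    rw [e', mul_assoc, ← hc.eq, inv_mul_cancel_left]
  have hoff : ∀ s ∈ S j, v s = 0 := by
    intro s hs
    have h1 := Commute.eq ((mem_L.1 hmem).2 j s hs)
    have hc : ax v * ax (eC s : Fin k → F) = ax (eC s) * ax v := by
      have h' := ((shape_A hk j hv0).comm hk (by omega) (shape_A hk j (eC_ne s)) h1 j)
      simpa using h'
    rcases eq_or_orth_of_comm hh hv0 (eC_ne s) hc with ⟨l, hl, hlv⟩ | ho
    · exfalso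
      have he : A j v = A j (eC s) := by rw [hlv, A_smul j v hl]
      obtain ⟨rfl, c, hc0, hac⟩ := A_inj hk (by omega) ha.ne (eC_ne s)
        (central (eC_ne s) he ((mem_L.1 hg).2 j s hs))
      have := ha.2 s hs
      rw [hac] at this
      simp at this
      exact hc0 this
    · simpa using ho
  have hfree : Free S j := by
    by_contra hj
    obtain ⟨rfl, -⟩ := A_inj hk (by omega) ha.ne hv0 (central hv0 rfl (comm_A_of_not_free hj hv hoff hg))
    exact hj hi
  refine ⟨hfree, ⟨hv, hoff⟩, fun hne => ?_⟩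
  constructor <;> (refine Finset.eq_empty_iff_forall_notMem.2 fun s hs => ?_)
  · have e1 := dval_conj_mul (x := A i a) ((mem_L.1 hg).2 i s hs)
    rw [e] at e1
    have h1 := dval_A_ne (F := F) hk (by omega) hne hv0 (eC_ne s)
    have h2' := dval_A_same (F := F) hk (by omega) i ha.ne (eC_ne s) (by simp [ha.2 s hs])
    rw [e1] at h1
    refine no_mix hk hk3 (dval (ax a * ax (eC s : Fin k → F))) (mul_left_cancel₀
      (pow_ne_zero t (show (k : ℤ) ≠ 0 by omega)) ?_)
    linear_combination h1 - (k : ℤ) * h2'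
  · have e1 := dval_conj_mul (x := A i a) ((mem_L.1 hg).2 j s hs)
    rw [e] at e1
    have h1 := dval_A_ne (F := F) hk (by omega) hne.symm ha.ne (eC_ne s)
    have h2' := dval_A_same (F := F) hk (by omega) j hv0 (eC_ne s) (by simp [hoff s hs])
    rw [← e1] at h1
    refine no_mix hk hk3 (dval (ax v * ax (eC s : Fin k → F))) (mul_left_cancel₀
      (pow_ne_zero t (show (k : ℤ) ≠ 0 by omega)) ?_)
    linear_combination h1 - (k : ℤ) * h2'

/-- axial elements of different slots, one of them with frames, are not conjugate in `L` -/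
theorem not_conj (hk : Odd k) (hk3 : 3 ≤ k) (hM : Good M) {i l : Fin t} (hil : i ≠ l) (hi : Free S i)
    {a f : Fin k → F} (ha : IsU S i a) (hf : IsU S l f) (hne : S i ≠ ∅ ∨ S l ≠ ∅) :
    ¬ ∃ g ∈ L M S, g * A i a * g⁻¹ = A l f := by
  rintro ⟨g, hg, e⟩
  obtain ⟨h1, h2'⟩ := (single_slot hk hk3 hM hi ha hg hf.1 e).2.2 hil.symm
  exact hne.elim (· h1) (· h2')

/-- a vector of non-square value on two coordinates -/
theorem exists_ns {x y : Fin k} (hxy : x ≠ y) :
    ∃ h : Fin k → F, ¬ IsSquare (h ⬝ᵥ h) ∧ ∀ s, s ≠ x → s ≠ y → h s = 0 := by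
  have hh : (2 : F) ≠ 0 := h2.out
  obtain ⟨c, hc⟩ := FiniteField.exists_nonsquare (CfsgLib.Geom.ringChar_ne_two_of_ne hh)
  obtain ⟨α, β, hαβ⟩ := CfsgLib.Geom.exists_binary_eq hh (one_ne_zero : (1 : F) ≠ 0) one_ne_zero c
  refine ⟨Pi.single x α + Pi.single y β, ?_, fun s hsx hsy => by simp [hsx, hsy]⟩
  have e : (Pi.single x α + Pi.single y β : Fin k → F) ⬝ᵥ (Pi.single x α + Pi.single y β) = c := by
    rw [← hαβ]; simp [dotProduct_add, hxy, Ne.symm hxy]
  rwa [e]

theorem eta_mem_wreath (ht : 0 < t) {η : GL (Fin t → Fin k) F} {l : Fin t} {h : Fin k → F}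
    (hη : η = 1 ∨ η = -1 ∨ η = A l h ∨ η = -A l h) : η ∈ Cfsg.Geo.tensorWreathStandard k t F := by
  rcases hη with rfl | rfl | rfl | rfl
  · exact one_mem _
  · exact neg_one_mem_wreath ht
  · exact A_mem_wreath l h
  · rw [← neg_one_mul]; exact mul_mem (neg_one_mem_wreath ht) (A_mem_wreath l h)

theorem eta_commute {η z : GL (Fin t → Fin k) F} {l : Fin t} {h : Fin k → F}
    (hη : η = 1 ∨ η = -1 ∨ η = A l h ∨ η = -A l h) (hz : Commute (A l h) z) : Commute η z := by
  rcases hη with rfl | rfl | rfl | rfl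
  · exact Commute.one_left z
  · exact Commute.neg_one_left z
  · exact hz
  · exact hz.neg_left

/-- an element of the base mapping one axial element of a slot to another, fixing the frames -/
theorem exists_map_single (hk : Odd k) (hM : Good M) {i l : Fin t} (hil : i ≠ l) (hl : Free S l)
    {a v : Fin k → F} (ha : IsU S i a) (hv : IsU S i v) :
    ∃ n ∈ L M S, n ∈ Cfsg.Geo.tensorWreathStandard k t F ∧ n * A i a * n⁻¹ = A i v := by
  have hh : (2 : F) ≠ 0 := h2.out
  have ht : 0 < t := Fin.pos i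
  obtain ⟨gm, hgm, hga, hgS⟩ := exists_map_coord hh (S := S i) ha.ne (by rw [ha.1, hv.1]) ha.2 hv.2
  obtain ⟨x, y, hxy, hx, hy⟩ := exists_two hl
  obtain ⟨h, hns, hsupp⟩ := exists_ns (F := F) hxy
  have h0 : h ⬝ᵥ h ≠ 0 := fun e => hns (e ▸ IsSquare.zero)
  set g0 := slotGL i (unitOfOrth gm hgm)
  obtain ⟨η, hη, hOm⟩ := exists_adjust hk (slotGL_mem_orth i (x := unitOfOrth gm hgm) hgm) hns
  have hW : g0 * η ∈ Cfsg.Geo.tensorWreathStandard k t F := mul_mem (slotGL_mem_wreath i _) (eta_mem_wreath ht hη)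
  have hfix : ∀ j, ∀ s ∈ S j, Commute (g0 * η) (A j (eC s)) := by
    intro j s hs
    refine Commute.mul_left ?_ (eta_commute hη (A_comm_frame l h0 j s ?_))
    · have : g0 * A j (eC s) * g0⁻¹ = A j (eC s) := by
        rcases eq_or_ne i j with rfl | hij
        · rw [slotGL_conj_A i hgm (eC_ne s)]; exact congrArg (A i) (hgS s hs)
        · exact slotGL_conj_A_ne hij _ _
      exact mul_inv_eq_iff_eq_mul.1 this
    · rintro rfl
      exact hsupp s (fun e => hx (e ▸ hs)) (fun e => hy (e ▸ hs))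
  refine ⟨g0 * η, mem_L.2 ⟨hM.base_le (Subgroup.mem_inf.2 ⟨hW, hOm⟩), hfix⟩, hW, ?_⟩
  have hc : η * A i a * η⁻¹ = A i a :=
    mul_inv_eq_iff_eq_mul.2 (eta_commute hη (A_comm_ne hil.symm h a)).eq
  calc g0 * η * A i a * (g0 * η)⁻¹ = g0 * (η * A i a * η⁻¹) * g0⁻¹ := by group
    _ = A i v := by rw [hc, slotGL_conj_A i hgm ha.ne]; exact congrArg (A i) hga

/-- a permutation of the factors -/
def permGL (σ : Equiv.Perm (Fin t)) : GL (Fin t → Fin k) F :=
  ⟨permMat σ, permMat σ.symm, permMat_mul_inv σ, by simpa using permMat_mul_inv (κ := Fin k) (F := F) σ.symm⟩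

theorem permGL_mem_wreath (σ : Equiv.Perm (Fin t)) :
    (permGL σ : GL (Fin t → Fin k) F) ∈ Cfsg.Geo.tensorWreathStandard k t F :=
  Subgroup.subset_closure (Or.inr ⟨σ, fun _ _ => rfl⟩)

theorem permGL_mem_orth (σ : Equiv.Perm (Fin t)) : (permGL σ : GL (Fin t → Fin k) F) ∈ orth t k F := by
  rw [mem_orth]
  show (permMat σ)ᵀ * permMat σ = 1
  rw [permMat_transpose]
  simpa using permMat_mul_inv (κ := Fin k) (F := F) σ.symm

theorem permGL_conj_A (σ : Equiv.Perm (Fin t)) (i : Fin t) (a : Fin k → F) :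
    permGL σ * A i a * (permGL σ)⁻¹ = (A (σ i) a : GL (Fin t → Fin k) F) := by
  rw [mul_inv_eq_iff_eq_mul]
  refine Units.ext ?_
  rw [Units.val_mul, Units.val_mul]
  show permMat σ * slot i _ = slot (σ i) _ * permMat σ
  rw [slot_apply, slot_apply, ← pureMat_mul_permMat]
  congr 2
  funext j
  rcases eq_or_ne j (σ i) with rfl | hj
  · simp
  · rw [Function.update_of_ne hj, Function.update_of_ne fun e => hj (by rw [← e, Equiv.apply_symm_apply])]

/-- an element of the base mapping one axial element to another of the same type -/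
theorem exists_map_base (hk : Odd k) (hk3 : 3 ≤ k) (hM : Good M) {i l : Fin t} (hil : i ≠ l) (hl : Free S l)
    {a : Fin k → F} (ha : IsU S i a) {j : Fin t} {v : Fin k → F} (hv : IsU S j v)
    (hty : j ≠ i → S i = ∅ ∧ S j = ∅) :
    ∃ n ∈ L M S, n ∈ Cfsg.Geo.tensorWreathStandard k t F ∧ n * A i a * n⁻¹ = A j v := by
  rcases eq_or_ne j i with rfl | hji
  · exact exists_map_single hk hM hil hl ha hv
  obtain ⟨hSi, hSj⟩ := hty hji
  have ht : 0 < t := Fin.pos i
  have hh : (2 : F) ≠ 0 := h2.out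
  obtain ⟨h, hns, -⟩ := exists_ns (F := F) (show (⟨0, by omega⟩ : Fin k) ≠ ⟨1, by omega⟩ by simp [Fin.ext_iff])
  have h0 : h ⬝ᵥ h ≠ 0 := fun e => hns (e ▸ IsSquare.zero)
  obtain ⟨η, hη, hOm⟩ := exists_adjust hk (permGL_mem_orth (k := k) (F := F) (Equiv.swap i j)) (j := j) hns
  set P : GL (Fin t → Fin k) F := permGL (Equiv.swap i j)
  have hW : P * η ∈ Cfsg.Geo.tensorWreathStandard k t F :=
    mul_mem (permGL_mem_wreath _) (eta_mem_wreath ht hη)
  have hfix : ∀ m, ∀ s ∈ S m, Commute (P * η) (A m (eC s)) := by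
    intro m s hs
    have hmi : m ≠ i := fun e => by rw [e, hSi] at hs; simp at hs
    have hmj : m ≠ j := fun e => by rw [e, hSj] at hs; simp at hs
    refine Commute.mul_left ?_ (eta_commute hη (A_comm_ne hmj.symm h _))
    have := permGL_conj_A (F := F) (Equiv.swap i j) m (eC s : Fin k → F)
    rw [Equiv.swap_apply_of_ne_of_ne hmi hmj] at this
    exact mul_inv_eq_iff_eq_mul.1 this
  have hc : η * A i a * η⁻¹ = A i a :=
    mul_inv_eq_iff_eq_mul.2 (eta_commute hη (A_comm_ne hji h a)).eq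
  have h1 : P * η * A i a * (P * η)⁻¹ = A j a := by
    calc P * η * A i a * (P * η)⁻¹ = P * (η * A i a * η⁻¹) * P⁻¹ := by group
      _ = A j a := by rw [hc, permGL_conj_A, Equiv.swap_apply_left]
  obtain ⟨n1, hn1, hn1W, hn1a⟩ := exists_map_single hk hM hji
    (show Free S i by unfold Free; rw [hSi, Finset.card_empty]; omega)
    (a := a) ⟨ha.1, fun s hs => by rw [hSj] at hs; simp at hs⟩ hv
  refine ⟨n1 * (P * η), mul_mem hn1 (mem_L.2 ⟨hM.base_le (Subgroup.mem_inf.2 ⟨hW, hOm⟩), hfix⟩),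
    mul_mem hn1W hW, ?_⟩
  calc n1 * (P * η) * A i a * (n1 * (P * η))⁻¹ = n1 * (P * η * A i a * (P * η)⁻¹) * n1⁻¹ := by group
    _ = A j v := by rw [h1, hn1a]

/-- every slot has another free one -/
def TwoFree (S : Fin t → Finset (Fin k)) : Prop := ∀ i, ∃ l, i ≠ l ∧ Free S l

/-- an element of `L` conjugating an axial element to an axial element lies in the wreath subgroup -/
theorem conc (hk : Odd k) (hk3 : 3 ≤ k) (hM : Good M)
    (IH : ∀ M' S', Good M' → meas S' < meas S → L M' S' ≤ Cfsg.Geo.tensorWreathStandard k t F)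
    (h2f : TwoFree S) {i : Fin t} (hi : Free S i) {a : Fin k → F} (ha : IsU S i a) {g : GL (Fin t → Fin k) F}
    (hg : g ∈ L M S) {j : Fin t} {v : Fin k → F} (hv : v ⬝ᵥ v = 1) (e : g * A i a * g⁻¹ = A j v) :
    g ∈ Cfsg.Geo.tensorWreathStandard k t F := by
  obtain ⟨-, hvU, hty⟩ := single_slot hk hk3 hM hi ha hg hv e
  obtain ⟨l, hil, hl⟩ := h2f i
  obtain ⟨n, hn, hnW, hna⟩ := exists_map_base hk hk3 hM hil hl ha hvU hty
  have hc : Commute (n⁻¹ * g) (A i a) := by
    refine mul_inv_eq_iff_eq_mul.1 ?_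
    calc n⁻¹ * g * A i a * (n⁻¹ * g)⁻¹ = n⁻¹ * (g * A i a * g⁻¹) * n := by group
      _ = n⁻¹ * (n * A i a * n⁻¹) * n := by rw [e, hna]
      _ = A i a := by group
  have := mul_mem hnW (child hk hM IH hi ha (mul_mem (inv_mem hn) hg) hc)
  rwa [mul_inv_cancel_left] at this

end CfsgLib.MaxSub.TPow
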