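import Cfsg.Agent.Lib.Aschbacher.OrthWreath
import Cfsg.Agent.Lib.MaxSub.TPow.Basic
import Cfsg.Agent.Lib.MaxSub.TPow.Axial

/-!
Elements of one slot of the tensor power, the normal form of the isometries in the wreath subgroup.
-/

set_option autoImplicit false
set_option linter.unusedSectionVars false

namespace CfsgLib.MaxSub.TPow

open Matrix CfsgLib.Aschbacher
open CfsgLib.Aschbacher.Orth (pureMat_transpose pureMat_smul_each scalar_of_pure_scalar exists_factorisation
  permMat_mul_permMat permMat_one permMat_transpose)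
open scoped MatrixGroups

variable {t k : ℕ} {F : Type*} [Field F] [Fintype F]

/-- the invertible axial matrix -/
noncomputable def axU (h : Fin k → F) : GL (Fin k) F :=
  haveI : Decidable (h ⬝ᵥ h ≠ 0) := Classical.dec _
  if hh : h ⬝ᵥ h ≠ 0 then ⟨ax h, ax h, ax_mul_self hh, ax_mul_self hh⟩ else 1

/-- the axial element of slot `i` at `h` -/
noncomputable def A (i : Fin t) (h : Fin k → F) : GL (Fin t → Fin k) F :=
  slotGL i (axU h)

theorem slotGL_val (i : Fin t) (x : GL (Fin k) F) :
    ((slotGL i x : GL (Fin t → Fin k) F) : Matrix (Fin t → Fin k) (Fin t → Fin k) F) = slot i (x : Matrix (Fin k) (Fin k) F) :=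
  rfl

theorem A_val (i : Fin t) {h : Fin k → F} (hh : h ⬝ᵥ h ≠ 0) :
    (A i h : Matrix (Fin t → Fin k) (Fin t → Fin k) F) = slot i (ax h) := by
  rw [A, slotGL_val, axU, dif_pos hh]

theorem A_mul_self (i : Fin t) (h : Fin k → F) : A i h * A i h = 1 := by
  by_cases hh : h ⬝ᵥ h ≠ 0
  · refine Units.ext ?_
    rw [Units.val_mul, A_val i hh, ← map_mul, ax_mul_self hh, map_one, Units.val_one]
  · rw [A, axU, dif_neg hh, map_one, one_mul]

theorem A_inv (i : Fin t) (h : Fin k → F) : (A i h)⁻¹ = A i h := inv_eq_of_mul_eq_one_right (A_mul_self i h)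

theorem slot_comm {i j : Fin t} (hij : i ≠ j) (x y : Matrix (Fin k) (Fin k) F) :
    slot i x * slot j y = slot j y * slot i x := by
  simp only [slot_apply, pureMat_mul]
  congr 1
  funext l
  rcases eq_or_ne l i with rfl | hi
  · simp [hij]
  · rcases eq_or_ne l j with rfl | hj
    · simp [hi]
    · simp [hi, hj]

theorem slot_transpose (i : Fin t) (x : Matrix (Fin k) (Fin k) F) : (slot i x)ᵀ = slot i xᵀ := by
  rw [slot_apply, slot_apply, pureMat_transpose]
  congr 1
  funext l
  rcases eq_or_ne l i with rfl | hi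
  · simp
  · simp [hi]

theorem A_comm_ne {i j : Fin t} (hij : i ≠ j) (h h' : Fin k → F) : Commute (A i h) (A j h') := by
  refine Units.ext ?_
  rw [Units.val_mul, Units.val_mul]
  show slot i _ * slot j _ = slot j _ * slot i _
  exact slot_comm hij _ _

theorem A_comm_orth (i : Fin t) {h h' : Fin k → F} (hh : h ⬝ᵥ h ≠ 0) (hh' : h' ⬝ᵥ h' ≠ 0) (o : h ⬝ᵥ h' = 0) :
    Commute (A i h) (A i h') := by
  refine Units.ext ?_
  rw [Units.val_mul, Units.val_mul, A_val i hh, A_val i hh', ← map_mul, ← map_mul, ax_comm_orth o]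

theorem A_smul (i : Fin t) (h : Fin k → F) {c : F} (hc : c ≠ 0) : A i (c • h) = A i h := by
  have e : (c • h) ⬝ᵥ (c • h) = c * c * (h ⬝ᵥ h) := by
    rw [smul_dotProduct, dotProduct_smul, smul_eq_mul, smul_eq_mul, mul_assoc]
  rcases eq_or_ne (h ⬝ᵥ h) 0 with hh | hh
  · rw [A, A, axU, axU, dif_neg (not_not.2 (by rw [e, hh, mul_zero])), dif_neg (not_not.2 hh)]
  · refine Units.ext ?_
    rw [A_val i (by rw [e]; exact mul_ne_zero (mul_ne_zero hc hc) hh), A_val i hh, ax_smul h hc]

theorem slot_orth (i : Fin t) {x : Matrix (Fin k) (Fin k) F} (hx : xᵀ * x = 1) : (slot i x)ᵀ * slot i x = 1 := by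
  rw [slot_transpose, ← map_mul, hx, map_one]

theorem slotGL_mem_orth (i : Fin t) {x : GL (Fin k) F} (hx : (x : Matrix (Fin k) (Fin k) F)ᵀ * x = 1) :
    slotGL i x ∈ orth t k F := slot_orth i hx

theorem slotGL_mem_wreath (i : Fin t) (x : GL (Fin k) F) :
    slotGL i x ∈ Cfsg.Geo.tensorWreathStandard k t F := by
  classical
  refine Subgroup.subset_closure (Or.inl ⟨Function.update (fun _ => 1) i x, fun p q => ?_⟩)
  rw [slotGL_val, slot_apply, pureMat, Matrix.of_apply]
  refine Finset.prod_congr rfl fun j _ => ?_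
  rcases eq_or_ne j i with rfl | hj
  · simp
  · simp [hj]

theorem A_mem_orth (i : Fin t) {h : Fin k → F} (hh : h ⬝ᵥ h ≠ 0) : A i h ∈ orth t k F := by
  rw [mem_orth, A_val i hh]; exact slot_orth (F := F) i (ax_orth hh)

theorem A_mem_wreath (i : Fin t) (h : Fin k → F) : A i h ∈ Cfsg.Geo.tensorWreathStandard k t F :=
  slotGL_mem_wreath i _

/-- an orthogonal matrix as an invertible one -/
def unitOfOrth {n : Type*} [Fintype n] [DecidableEq n] (g : Matrix n n F) (hg : gᵀ * g = 1) : GL n F :=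
  ⟨g, gᵀ, mul_eq_one_comm.1 hg, hg⟩

theorem unitOfOrth_val {n : Type*} [Fintype n] [DecidableEq n] (g : Matrix n n F) (hg : gᵀ * g = 1) :
    (unitOfOrth g hg : Matrix n n F) = g := rfl

theorem inv_val_of_orth {n : Type*} [Fintype n] [DecidableEq n] {g : GL n F}
    (hg : (g : Matrix n n F)ᵀ * g = 1) : ((g⁻¹ : GL n F) : Matrix n n F) = (g : Matrix n n F)ᵀ :=
  Units.inv_eq_of_mul_eq_one_left hg

theorem slotGL_conj_A (i : Fin t) {x : GL (Fin k) F} (hx : (x : Matrix (Fin k) (Fin k) F)ᵀ * x = 1)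
    {h : Fin k → F} (hh : h ⬝ᵥ h ≠ 0) :
    slotGL i x * A i h * (slotGL i x)⁻¹ = A i ((x : Matrix (Fin k) (Fin k) F) *ᵥ h) := by
  refine Units.ext ?_
  rw [← map_inv, Units.val_mul, Units.val_mul, slotGL_val, slotGL_val, A_val i hh,
    A_val i (by rwa [dot_orth hx]), inv_val_of_orth hx, ← map_mul, ← map_mul, ax_conj hx]

theorem slotGL_conj_A_ne {i j : Fin t} (hij : i ≠ j) (x : GL (Fin k) F) (h : Fin k → F) :
    slotGL i x * A j h * (slotGL i x)⁻¹ = A j h := by
  rw [mul_inv_eq_iff_eq_mul]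
  refine Units.ext ?_
  rw [Units.val_mul, Units.val_mul]
  show slot i _ * slot j _ = slot j _ * slot i _
  exact slot_comm hij _ _

/-- a permutation of the factors times a pure tensor is scalar only for the trivial permutation -/
theorem perm_pure_scalar (hk : 2 ≤ k) {σ : Equiv.Perm (Fin t)} {b : Fin t → Matrix (Fin k) (Fin k) F} {c : F}
    (hc : c ≠ 0) (h : permMat σ * pureMat b = c • (1 : Matrix (Fin t → Fin k) (Fin t → Fin k) F)) : σ = 1 := by
  have e : ∀ p, ∏ j, b j (p j) (p j) = if p = p ∘ σ.symm then c else 0 := by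
    intro p
    have h1 := congrFun (congrFun h (p ∘ σ.symm)) p
    rw [permMat_mul_apply, Function.comp_assoc, Equiv.symm_comp_self, Function.comp_id] at h1
    simpa [pureMat, Matrix.one_apply, eq_comm] using h1
  have hd : ∀ j a, b j a a ≠ 0 := fun j a => by
    have h1 := e fun _ => a
    rw [if_pos (by funext; rfl)] at h1
    exact (Finset.prod_ne_zero_iff.1 (h1 ▸ hc)) j (Finset.mem_univ j)
  refine Equiv.ext fun i => ?_
  by_contra hne
  let p : Fin t → Fin k := fun l => if l = i then ⟨1, by omega⟩ else ⟨0, by omega⟩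
  have h1 := e p
  rw [if_neg fun hp => ?_] at h1
  · exact Finset.prod_ne_zero_iff.2 (fun j _ => hd j (p j)) h1
  · have := congrFun hp (σ i)
    simp only [Function.comp_apply, Equiv.symm_apply_apply, p] at this
    rw [if_neg (fun e : σ i = i => hne (by simpa using e))] at this
    simp [Fin.ext_iff] at this

theorem pureMat_smul_eq {c : F} (b : Fin t → Matrix (Fin k) (Fin k) F) (i : Fin t) :
    c • pureMat b = pureMat (Function.update b i (c • b i)) := (pureMat_smul_update b i c).symm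

theorem neg_sq_one {c : F} (h : c * c = 1) : c = 1 ∨ c = -1 := mul_self_eq_one_iff.1 h

/-- a scalar orthogonal matrix of determinant one in odd degree is trivial -/
theorem eq_one_of_scalar (hk : Odd k) {b : Matrix (Fin k) (Fin k) F} {c : F} (ho : bᵀ * b = 1)
    (hd : b.det = 1) (hb : b = c • 1) : b = 1 := by
  haveI : NeZero k := ⟨fun e => Nat.not_odd_zero (e ▸ hk)⟩
  subst hb
  have hcc : c * c = 1 := by
    have := congrFun (congrFun ho 0) 0
    simpa [Matrix.transpose_smul] using this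
  rcases neg_sq_one hcc with rfl | rfl
  · rw [one_smul]
  · rw [det_smul, det_one, mul_one, Fintype.card_fin, hk.neg_one_pow] at hd
    rw [hd, one_smul]

/-- normal form: a sign, a permutation and factors in the special orthogonal group -/
theorem exists_repr (hk : Odd k) (ht : 0 < t) {g : GL (Fin t → Fin k) F}
    (hg : g ∈ Cfsg.Geo.tensorWreathStandard k t F) (ho : g ∈ orth t k F) :
    ∃ (ε : F) (σ : Equiv.Perm (Fin t)) (b : Fin t → Matrix (Fin k) (Fin k) F), (ε = 1 ∨ ε = -1) ∧
      (∀ i, (b i)ᵀ * b i = 1 ∧ (b i).det = 1) ∧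
      (g : Matrix (Fin t → Fin k) (Fin t → Fin k) F) = ε • (permMat σ * pureMat b) := by
  classical
  haveI : NeZero k := ⟨fun e => Nat.not_odd_zero (e ▸ hk)⟩
  obtain ⟨σ, a, ha⟩ := exists_factorisation hg
  have hpo : pureMat (fun i => (a i : Matrix (Fin k) (Fin k) F)ᵀ * (a i : Matrix (Fin k) (Fin k) F)) = 1 := by
    rw [mem_orth, ha, transpose_mul, Matrix.mul_assoc, permMat_transpose,
      ← Matrix.mul_assoc (permMat σ.symm)] at ho
    rw [show permMat σ.symm * permMat σ = (1 : Matrix (Fin t → Fin k) (Fin t → Fin k) F) by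
      simpa using permMat_mul_inv (κ := Fin k) (F := F) σ.symm, Matrix.one_mul, pureMat_transpose,
      pureMat_mul] at ho
    exact ho
  choose μ hμ using fun i => scalar_of_pure_scalar (b := fun i => (a i : Matrix (Fin k) (Fin k) F)ᵀ *
    (a i : Matrix (Fin k) (Fin k) F)) one_ne_zero (by rw [hpo, one_smul]) i
  have hdet : ∀ i, (a i : Matrix (Fin k) (Fin k) F).det ≠ 0 := fun i =>
    ((Matrix.isUnit_iff_isUnit_det _).1 (a i).isUnit).ne_zero
  have hμd : ∀ i, (a i : Matrix (Fin k) (Fin k) F).det * (a i : Matrix (Fin k) (Fin k) F).det = μ i ^ k :=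
    fun i => by
      have := congrArg Matrix.det (hμ i)
      simpa [det_mul, det_smul, Fintype.card_fin] using this
  have hμ0 : ∀ i, μ i ≠ 0 := fun i e => by
    have := hμd i
    rw [e, zero_pow (NeZero.ne k)] at this
    exact mul_ne_zero (hdet i) (hdet i) this
  obtain ⟨m, hm⟩ := hk
  -- the square root of the multiplier
  set r : Fin t → F := fun i => (a i : Matrix (Fin k) (Fin k) F).det / μ i ^ m with hr
  have hr0 : ∀ i, r i ≠ 0 := fun i => div_ne_zero (hdet i) (pow_ne_zero _ (hμ0 i))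
  have hr2 : ∀ i, r i * r i = μ i := fun i => by
    rw [hr]
    show _ / _ * (_ / _) = _
    have := pow_ne_zero m (hμ0 i)
    rw [div_mul_div_comm, hμd, hm, div_eq_iff (mul_ne_zero this this), pow_succ, two_mul, pow_add]
    ring
  set b0 : Fin t → Matrix (Fin k) (Fin k) F := fun i => (r i)⁻¹ • (a i : Matrix (Fin k) (Fin k) F) with hb0
  have hb0o : ∀ i, (b0 i)ᵀ * b0 i = 1 := fun i => by
    rw [hb0]
    simp only [transpose_smul, Matrix.smul_mul, Matrix.mul_smul, smul_smul, hμ]
    rw [← hr2, show (r i)⁻¹ * ((r i)⁻¹ * (r i * r i)) = ((r i)⁻¹ * r i) * ((r i)⁻¹ * r i) by ring,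
      inv_mul_cancel₀ (hr0 i), one_mul, one_smul]
  have hd1 : ∀ i, (b0 i).det = 1 ∨ (b0 i).det = -1 := fun i => neg_sq_one (by
    have := congrArg Matrix.det (hb0o i)
    simpa [det_mul] using this)
  set b : Fin t → Matrix (Fin k) (Fin k) F := fun i => (b0 i).det • b0 i with hb
  have hbo : ∀ i, (b i)ᵀ * b i = 1 ∧ (b i).det = 1 := fun i => by
    have h2 : (b0 i).det * (b0 i).det = 1 := by rcases hd1 i with e | e <;> rw [e] <;> ring
    refine ⟨?_, ?_⟩
    · rw [hb]
      simp only [transpose_smul, Matrix.smul_mul, Matrix.mul_smul, smul_smul, hb0o, h2, one_smul]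
    · rw [hb]
      simp only [det_smul, Fintype.card_fin, ← pow_succ]
      rw [show k + 1 = 2 * (m + 1) by omega, pow_mul, sq, h2, one_pow]
  have hab : (fun i => (a i : Matrix (Fin k) (Fin k) F)) = fun i => (r i * (b0 i).det) • b i := by
    funext i
    have h2 : (b0 i).det * (b0 i).det = 1 := by rcases hd1 i with e | e <;> rw [e] <;> ring
    rw [hb, hb0]
    simp only [smul_smul]
    rw [show r i * (b0 i).det * ((b0 i).det * (r i)⁻¹) = r i * (r i)⁻¹ * ((b0 i).det * (b0 i).det) by ring,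
      mul_inv_cancel₀ (hr0 i), h2, one_mul, one_smul]
  refine ⟨∏ i, (r i * (b0 i).det), σ, b, ?_, hbo, ?_⟩
  · have hg1 : (g : Matrix (Fin t → Fin k) (Fin t → Fin k) F) = (∏ i, (r i * (b0 i).det)) • (permMat σ * pureMat b) := by
      rw [ha, hab, pureMat_smul_each, Matrix.mul_smul]
    rw [mem_orth, hg1, transpose_smul, Matrix.smul_mul, Matrix.mul_smul, smul_smul, transpose_mul,
      Matrix.mul_assoc, permMat_transpose, ← Matrix.mul_assoc (permMat σ.symm),
      show permMat σ.symm * permMat σ = (1 : Matrix (Fin t → Fin k) (Fin t → Fin k) F) by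
        simpa using permMat_mul_inv (κ := Fin k) (F := F) σ.symm, Matrix.one_mul, pureMat_transpose,
      pureMat_mul, show (fun i => (b i)ᵀ * b i) = fun _ => 1 from funext fun i => (hbo i).1, pureMat_one] at ho
    refine neg_sq_one ?_
    have := congrFun (congrFun ho (fun _ => 0)) (fun _ => 0)
    simpa using this
  · rw [ha, hab, pureMat_smul_each, Matrix.mul_smul]

/-- an involution of the wreath subgroup -/
theorem repr_invol (hk : Odd k) (hk2 : 2 ≤ k) {ε : F} (hε : ε = 1 ∨ ε = -1) {σ : Equiv.Perm (Fin t)}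
    {b : Fin t → Matrix (Fin k) (Fin k) F} (hb : ∀ i, (b i)ᵀ * b i = 1 ∧ (b i).det = 1)
    (h : (ε • (permMat σ * pureMat b)) * (ε • (permMat σ * pureMat b)) =
      (1 : Matrix (Fin t → Fin k) (Fin t → Fin k) F)) :
    (∀ i, σ (σ i) = i) ∧ ∀ i, b (σ i) * b i = 1 := by
  haveI : NeZero k := ⟨by omega⟩
  have hε2 : ε * ε = 1 := by rcases hε with e | e <;> rw [e] <;> ring
  rw [Matrix.smul_mul, Matrix.mul_smul, smul_smul, hε2, one_smul, Matrix.mul_assoc,
    ← Matrix.mul_assoc (pureMat b)] at h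
  have e : pureMat b * permMat σ = permMat σ * pureMat fun i => b (σ i) := by
    rw [← pureMat_mul_permMat σ fun i => b (σ i)]; simp
  rw [e, Matrix.mul_assoc, ← Matrix.mul_assoc, permMat_mul_permMat, pureMat_mul] at h
  have hσ := perm_pure_scalar hk2 one_ne_zero (h.trans (one_smul F _).symm)
  refine ⟨fun i => Equiv.ext_iff.1 hσ i, fun i => ?_⟩
  rw [hσ, permMat_one, Matrix.one_mul] at h
  obtain ⟨c, hc⟩ := scalar_of_pure_scalar (b := fun i => b (σ i) * b i) one_ne_zero (h.trans (one_smul F _).symm) i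
  refine eq_one_of_scalar hk ?_ ?_ hc
  · rw [transpose_mul, Matrix.mul_assoc, ← Matrix.mul_assoc (b (σ i))ᵀ, (hb _).1, Matrix.one_mul, (hb _).1]
  · rw [det_mul, (hb _).2, (hb _).2, one_mul]

end CfsgLib.MaxSub.TPow
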