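import Cfsg.Agent.Lib.MaxSub.TPow.Exchange

/-!
Pure involutions of three-dimensional factors and their supports: centralisers, and the step from a conjugate
of such an element back to an axial element.
-/

set_option autoImplicit false
set_option linter.unusedSectionVars false
set_option linter.style.haveILetI false

namespace CfsgLib.MaxSub.TPow

open Matrix CfsgLib.Aschbacher
open CfsgLib.Aschbacher.Orth (permMat_one)
open scoped MatrixGroups

variable {t k : ℕ} {F : Type*} [Field F] [Fintype F] [h2 : Fact ((2 : F) ≠ 0)]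
variable {M : Subgroup (GL (Fin t → Fin k) F)} {S : Fin t → Finset (Fin k)}

theorem mul_upd (c : Fin t → Matrix (Fin k) (Fin k) F) (i : Fin t) (X : Matrix (Fin k) (Fin k) F) (m : Fin t) :
    c m * Function.update (fun _ => (1 : Matrix (Fin k) (Fin k) F)) i X m = if m = i then c m * X else c m := by
  rcases eq_or_ne m i with rfl | hm
  · simp
  · simp [hm]

theorem upd_mul (c : Fin t → Matrix (Fin k) (Fin k) F) (i : Fin t) (X : Matrix (Fin k) (Fin k) F) (m : Fin t) :
    Function.update (fun _ => (1 : Matrix (Fin k) (Fin k) F)) i X m * c m = if m = i then X * c m else c m := by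
  rcases eq_or_ne m i with rfl | hm
  · simp
  · simp [hm]

/-- an axial element commutes with a pure element if it does in its slot -/
theorem comm_A_shape (hk : Odd k) {z : GL (Fin t → Fin k) F} {ε : F} {c : Fin t → Matrix (Fin k) (Fin k) F}
    (hz : Shape z ε 1 c) (l : Fin t) {w : Fin k → F} (hw : w ⬝ᵥ w ≠ 0) (hc : ax w * c l = c l * ax w) :
    Commute (A l w) z := by
  refine Units.ext ?_
  have h1 := (shape_A hk l hw).mul hz
  have h2' := hz.mul (shape_A hk l hw)
  rw [h1.2.2, h2'.2.2]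
  simp only [mul_one, one_mul, Equiv.Perm.coe_one, id_eq]
  congr 2
  congr 1
  funext m
  rw [upd_mul, mul_upd]
  split
  · next hm => rw [hm, hc]
  · rfl

theorem shape_mul_one (hk : Odd k) {z : GL (Fin t → Fin k) F} {ε : F} {c : Fin t → Matrix (Fin k) (Fin k) F}
    (hz : Shape z ε 1 c) (l : Fin t) {w : Fin k → F} (hw : w ⬝ᵥ w ≠ 0) :
    Shape (A l w * z) ε 1 fun m => if m = l then ax w * c m else c m := by
  have h := (shape_A hk l hw).mul hz
  simp only [mul_one, one_mul, Equiv.Perm.coe_one, id_eq] at h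
  convert h using 1
  funext m
  rw [upd_mul]

theorem orth_mul_ne_one {a b : Fin k → F} (ha : a ⬝ᵥ a ≠ 0) (hb : b ⬝ᵥ b ≠ 0) (o : a ⬝ᵥ b = 0) :
    ax a * ax b ≠ (1 : Matrix (Fin k) (Fin k) F) := fun e => ne_of_orth h2.out ha o (by
  have := congrArg (· * ax b) e
  simpa [Matrix.mul_assoc, ax_mul_self hb] using this)

theorem pair_sq {a b : Fin k → F} (ha : a ⬝ᵥ a ≠ 0) (hb : b ⬝ᵥ b ≠ 0) (o : a ⬝ᵥ b = 0) :
    ax a * ax b * (ax a * ax b) = (1 : Matrix (Fin k) (Fin k) F) := by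
  rw [Matrix.mul_assoc, ← Matrix.mul_assoc (ax b), ← ax_comm_orth o, Matrix.mul_assoc (ax a) (ax b),
    ax_mul_self hb, Matrix.mul_one, ax_mul_self ha]

/-- three orthogonal axes in dimension three -/
theorem triple_three (hk : Odd k) (h3 : k = 3) {a b c : Fin k → F} (ha : a ⬝ᵥ a ≠ 0) (hb : b ⬝ᵥ b ≠ 0)
    (hc : c ⬝ᵥ c ≠ 0) (hab : a ⬝ᵥ b = 0) (hac : a ⬝ᵥ c = 0) (hbc : b ⬝ᵥ c = 0) :
    ax a * ax b * ax c = (1 : Matrix (Fin k) (Fin k) F) := by
  by_contra hne
  have hcomm : ax c * (ax a * ax b) = ax a * ax b * ax c := by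
    rw [← Matrix.mul_assoc, ← ax_comm_orth hac, Matrix.mul_assoc, ← ax_comm_orth hbc, Matrix.mul_assoc]
  have hsq : ax a * ax b * ax c * (ax a * ax b * ax c) = 1 := by
    rw [Matrix.mul_assoc (ax a * ax b) (ax c), ← Matrix.mul_assoc (ax c), hcomm,
      Matrix.mul_assoc (ax a * ax b) (ax c) (ax c), ax_mul_self hc, Matrix.mul_one, pair_sq ha hb hab]
  obtain ⟨w, hw, e⟩ := axial_three h2.out h3 (((isSO_ax hk ha).mul (isSO_ax hk hb)).mul (isSO_ax hk hc)) hsq hne
  have hfa : ax w *ᵥ a = a := by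
    rw [← e, ← mulVec_mulVec, ← mulVec_mulVec, ax_perp (show c ⬝ᵥ a = 0 by rw [dotProduct_comm]; exact hac),
      mulVec_neg, ax_perp (show b ⬝ᵥ a = 0 by rw [dotProduct_comm]; exact hab), neg_neg, ax_self ha]
  have hfb : ax w *ᵥ b = b := by
    rw [← e, ← mulVec_mulVec, ← mulVec_mulVec, ax_perp (show c ⬝ᵥ b = 0 by rw [dotProduct_comm]; exact hbc),
      mulVec_neg, ax_self hb, mulVec_neg, ax_perp hab, neg_neg]
  obtain ⟨p, hp⟩ := ax_fix h2.out hfa
  obtain ⟨q, hq⟩ := ax_fix h2.out hfb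
  rw [hp, hq, smul_dotProduct, dotProduct_smul, smul_eq_mul, smul_eq_mul] at hab
  rcases mul_eq_zero.1 hab with e0 | e0
  · exact ha (by rw [hp, e0, zero_smul, zero_dotProduct])
  · rcases mul_eq_zero.1 e0 with e0 | e0
    · exact hb (by rw [hq, e0, zero_smul, zero_dotProduct])
    · exact hw e0

/-- no exchange has the weight of the support when multiplied with a pure element commuting with it -/
theorem negP_weight (hk : Odd k) (h3 : k = 3) {n z : GL (Fin t → Fin k) F} {u v : Fin t} (huv : u ≠ v) {ε : F}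
    {b c : Fin t → Matrix (Fin k) (Fin k) F} (hn : Shape n (-1) (Equiv.swap u v) b)
    (hfix : ∀ l, l ≠ u → l ≠ v → b l = 1) (hz : Shape z ε 1 c) (hn2 : n * n = 1) (hz2 : z * z = 1)
    (hc : Commute n z) {J : Finset (Fin t)} (hJ : ∀ i, c i ≠ 1 ↔ i ∈ J)
    (hd : (dval ((n * z : GL (Fin t → Fin k) F) : Matrix (Fin t → Fin k) (Fin t → Fin k) F)).natAbs *
      k ^ J.card = k ^ t) : False := by
  classical
  obtain ⟨hiff, hd'⟩ := wt_negP_mul hk h3 huv hn hfix hz hn2 hz2 hc hJ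
  have h := wt_unique (by omega) hd' hd
  by_cases hu : u ∈ J
  · have hv := hiff.1 hu
    have : (J \ {u, v}).card + 2 = J.card := by
      rw [← Finset.card_pair huv]
      exact Finset.card_sdiff_add_card_eq_card (by
        intro m hm
        simp only [Finset.mem_insert, Finset.mem_singleton] at hm
        rcases hm with rfl | rfl
        exacts [hu, hv])
    omega
  · have hv : v ∉ J := fun hv => hu (hiff.2 hv)
    rw [Finset.sdiff_eq_self_of_disjoint (by simp [hu, hv])] at h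
    omega

/-- the centraliser of a pure element, given two suitable axial elements commuting with it -/
theorem zj_aux (hk : Odd k) (h3 : k = 3) (hM : Good M) (IH : IHyp S F) (h2f : TwoFree S)
    {z : GL (Fin t → Fin k) F} {c : Fin t → Matrix (Fin k) (Fin k) F} (hz : Shape z 1 1 c) (hz2 : z * z = 1)
    {J : Finset (Fin t)} (hJ : ∀ m, c m ≠ 1 ↔ m ∈ J) {l : Fin t} (hl : l ∈ J) (hSl : S l = ∅) {i : Fin t}
    (hSi : S i = ∅) {a : Fin k → F} (ha : a ⬝ᵥ a = 1) (hac : ax a * c i = c i * ax a) {Jx : Finset (Fin t)}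
    (hJx : ∀ m, (if m = i then ax a * c m else c m) ≠ 1 ↔ m ∈ Jx) (hcard : Jx.card ≠ J.card) :
    CL M S z ≤ Cfsg.Geo.tensorWreathStandard k t F := by
  have hh : (2 : F) ≠ 0 := h2.out
  have hk2 : 2 ≤ k := by omega
  have hk3 : 3 ≤ k := by omega
  have hinv := (hz.invol_iff hk hk2).1 hz2
  obtain ⟨h, hh0, hch⟩ := axial_three hh h3 (hz.2.1 l) (hinv l) ((hJ l).2 hl)
  obtain ⟨g, hg, hhg, -⟩ := exists_unit_perp hh hh0 (S := ∅) (by simp) (by simp; omega)
  have hgU : IsU S l g := ⟨hg, fun s hs => by rw [hSl] at hs; simp at hs⟩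
  have haU : IsU S i a := ⟨ha, fun s hs => by rw [hSi] at hs; simp at hs⟩
  have hgh : g ⬝ᵥ h = 0 := by rw [dotProduct_comm]; exact hhg
  have hcx : Commute (A i a) z := comm_A_shape hk hz i haU.ne hac
  have hcy : Commute (A l g) z := comm_A_shape hk hz l hgU.ne (by rw [hch]; exact ax_comm_orth hgh)
  have hxG : A i a ∈ CL M S z := mem_CL.2 ⟨A_mem_L hk hM haU, hcx⟩
  have hyG : A l g ∈ CL M S z := mem_CL.2 ⟨A_mem_L hk hM hgU, hcy⟩
  have hGz : ∀ g ∈ CL M S z, Commute g z := fun g hg => (mem_CL.1 hg).2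
  have wy := wt_pure hk h3 (shape_mul_one hk hz l hgU.ne)
    (by rw [hcy.symm.mul_mul_mul_comm, A_mul_self, hz2, one_mul]) (J := J) (fun m => by
      split
      · next hm => simp [hm, hl, hch, orth_mul_ne_one hgU.ne hh0 hgh]
      · exact hJ m)
  have wx := wt_pure hk h3 (shape_mul_one hk hz i haU.ne)
    (by rw [hcx.symm.mul_mul_mul_comm, A_mul_self, hz2, one_mul]) hJx
  refine core hk hk3 hM IH h2f CL_le (show (S i).card + 3 ≤ k by rw [hSi, Finset.card_empty]; omega)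
    (show Free S l by unfold Free; rw [hSl, Finset.card_empty]; omega) haU hgU hxG hyG (fun hc => ?_) ?_
  · rw [hc.dval_eq hGz] at wy
    exact hcard (wt_unique hk2 wx wy)
  · intro _ n b u v hc huv hn hfix
    rw [← hc.dval_eq hGz] at wy
    exact negP_weight hk h3 huv hn hfix hz (hc.sq (A_mul_self l g)) hz2 (hGz n (hc.mem hyG)) hJ wy

/-- pure elements with a unit axis, or missing a slot -/
theorem zj (hk : Odd k) (h3 : k = 3) (hM : Good M) (IH : IHyp S F) (h2f : TwoFree S)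
    {z : GL (Fin t → Fin k) F} {c : Fin t → Matrix (Fin k) (Fin k) F} (hz : Shape z 1 1 c) (hz2 : z * z = 1)
    {J : Finset (Fin t)} (hJ : ∀ m, c m ≠ 1 ↔ m ∈ J) (hne : J.Nonempty) (hwh : ∀ m ∈ J, S m = ∅)
    (hcase : (∃ l ∈ J, ∃ h : Fin k → F, h ⬝ᵥ h = 1 ∧ c l = ax h) ∨ ∃ i, i ∉ J ∧ S i = ∅) :
    CL M S z ≤ Cfsg.Geo.tensorWreathStandard k t F := by
  classical
  rcases hcase with ⟨l, hl, h, hh1, hch⟩ | ⟨i, hi, hSi⟩
  · refine zj_aux hk h3 hM IH h2f hz hz2 hJ hl (hwh l hl) (hwh l hl) hh1 (by rw [hch]) (Jx := J.erase l)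
      (fun m => ?_) ?_
    · split
      · next hm => simp [hm, hch, ax_mul_self (show h ⬝ᵥ h ≠ 0 by rw [hh1]; exact one_ne_zero)]
      · next hm => rw [hJ m, Finset.mem_erase]; simp [hm]
    · rw [Finset.card_erase_of_mem hl]
      have := Finset.card_pos.2 hne
      omega
  · obtain ⟨l, hl⟩ := hne
    have hci : c i = 1 := not_not.1 fun h => hi ((hJ i).1 h)
    set x0 : Fin k := ⟨0, by omega⟩
    refine zj_aux hk h3 hM IH h2f hz hz2 hJ hl (hwh l hl) hSi (a := eC x0) (eC_self x0)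
      (by rw [hci, Matrix.mul_one, Matrix.one_mul]) (Jx := insert i J) (fun m => ?_) ?_
    · split
      · next hm =>
        simp [hm, hci, ax_ne_one h2.out (show 2 ≤ Fintype.card (Fin k) by rw [Fintype.card_fin]; omega)]
      · next hm => rw [hJ m, Finset.mem_insert]; simp [hm]
    · rw [Finset.card_insert_of_notMem hi]
      omega

/-- from a conjugate pure element back to an axial element -/
theorem find_three (hk : Odd k) (h3 : k = 3) (hM : Good M) (IH : IHyp S F) (h2f : TwoFree S)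
    {y : GL (Fin t → Fin k) F} {c : Fin t → Matrix (Fin k) (Fin k) F} (hy : Shape y 1 1 c) (hy2 : y * y = 1)
    {J : Finset (Fin t)} (hJ : ∀ m, c m ≠ 1 ↔ m ∈ J) (hCL : CL M S y ≤ Cfsg.Geo.tensorWreathStandard k t F)
    {g : GL (Fin t → Fin k) F} (hg : g ∈ L M S) {c' : Fin t → Matrix (Fin k) (Fin k) F}
    (hy' : Shape (g * y * g⁻¹) 1 1 c') {J' : Finset (Fin t)} (hJ' : ∀ m, c' m ≠ 1 ↔ m ∈ J') {j : Fin t}
    (hj : j ∈ J') (hSj : S j = ∅) : g ∈ Cfsg.Geo.tensorWreathStandard k t F := by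
  have hh : (2 : F) ≠ 0 := h2.out
  have hk2 : 2 ≤ k := by omega
  have hk3 : 3 ≤ k := by omega
  have hy'2 : g * y * g⁻¹ * (g * y * g⁻¹) = 1 := by
    calc g * y * g⁻¹ * (g * y * g⁻¹) = g * (y * y) * g⁻¹ := by group
      _ = 1 := by rw [hy2]; group
  obtain ⟨v, hv, hcv⟩ := axial_three hh h3 (hy'.2.1 j) ((hy'.invol_iff hk hk2).1 hy'2 j) ((hJ' j).2 hj)
  obtain ⟨r, hr, hvr, -⟩ := exists_unit_perp hh hv (S := ∅) (by simp) (by simp; omega)
  have hrv : r ⬝ᵥ v = 0 := by rw [dotProduct_comm]; exact hvr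
  have hrU : IsU S j r := ⟨hr, fun s hs => by rw [hSj] at hs; simp at hs⟩
  have hcr : Commute (A j r) (g * y * g⁻¹) :=
    comm_A_shape hk hy' j hrU.ne (by rw [hcv]; exact ax_comm_orth hrv)
  have wr := wt_pure hk h3 (shape_mul_one hk hy' j hrU.ne)
    (by rw [hcr.symm.mul_mul_mul_comm, A_mul_self, hy'2, one_mul]) (J := J') (fun m => by
      split
      · next hm => simp [hm, hj, hcv, orth_mul_ne_one hrU.ne hv hrv]
      · exact hJ' m)
  have w1 := wt_pure hk h3 hy hy2 hJ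
  have w2 := wt_pure hk h3 hy' hy'2 hJ'
  rw [show dval ((g * y * g⁻¹ : GL (Fin t → Fin k) F) : Matrix (Fin t → Fin k) (Fin t → Fin k) F) =
    dval (y : Matrix (Fin t → Fin k) (Fin t → Fin k) F) by rw [Units.val_mul, Units.val_mul, dval_conj]] at w2
  have hcc := wt_unique hk2 w2 w1
  set r'' : GL (Fin t → Fin k) F := g⁻¹ * A j r * g with hr''
  have hr''L : r'' ∈ L M S := mul_mem (mul_mem (inv_mem hg) (A_mem_L hk hM hrU)) hg
  have hr''c : Commute r'' y := by
    show g⁻¹ * A j r * g * y = y * (g⁻¹ * A j r * g)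
    calc g⁻¹ * A j r * g * y = g⁻¹ * (A j r * (g * y * g⁻¹)) * g := by group
      _ = g⁻¹ * (g * y * g⁻¹ * A j r) * g := by rw [hcr.eq]
      _ = _ := by group
  have hconj : ConjIn (L M S) (A j r) r'' := ⟨g⁻¹, inv_mem hg, by rw [hr'']; group⟩
  rcases conj_single hk hk3 hM hrU hconj (hCL (mem_CL.2 ⟨hr''L, hr''c⟩)) with ⟨m, w, hw, e⟩ | ⟨-, b, u, v', huv, hn, hfix⟩
  · have := conc hk hk3 hM IH h2f (show Free S j by unfold Free; rw [hSj, Finset.card_empty]; omega) hrU
      (inv_mem hg) hw (show g⁻¹ * A j r * g⁻¹⁻¹ = A m w by rw [inv_inv]; exact e)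
    simpa using inv_mem this
  · refine (negP_weight hk h3 huv hn hfix hy (hconj.sq (A_mul_self j r)) hy2 hr''c hJ ?_).elim
    rw [← hcc, show r'' * y = g⁻¹ * (A j r * (g * y * g⁻¹)) * g⁻¹⁻¹ by rw [hr'']; group, Units.val_mul,
      Units.val_mul, dval_conj]
    exact wr

end CfsgLib.MaxSub.TPow
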