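import Cfsg.Agent.Lib.MaxSub.TPow.Pair

/-!
Values in three-dimensional factors: products of an involution permuting two factors with a pure one.
-/

set_option autoImplicit false
set_option linter.unusedSectionVars false
set_option linter.style.haveILetI false

namespace CfsgLib.MaxSub.TPow

open Matrix CfsgLib.Aschbacher
open scoped MatrixGroups

variable {t k : ℕ} {F : Type*} [Field F] [Fintype F] [h2 : Fact ((2 : F) ≠ 0)]

theorem natAbs_so_three (h3 : k = 3) {b : Matrix (Fin k) (Fin k) F} (hb : IsSO b) (hbb : b * b = 1)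
    (hne : b ≠ 1) : (dval b).natAbs = 1 := by
  have := dval_so_lt h2.out (by rw [h3]; decide) hb hbb hne
  omega

/-- the value of a pure involution in three-dimensional factors -/
theorem wt_pure (hk : Odd k) (h3 : k = 3) {z : GL (Fin t → Fin k) F} {ε : F}
    {c : Fin t → Matrix (Fin k) (Fin k) F} (hz : Shape z ε 1 c) (hz2 : z * z = 1) {J : Finset (Fin t)}
    (hJ : ∀ i, c i ≠ 1 ↔ i ∈ J) :
    (dval (z : Matrix (Fin t → Fin k) (Fin t → Fin k) F)).natAbs * k ^ J.card = k ^ t := by
  classical
  have h := congrArg Int.natAbs (dval_shape_nt hk (by omega) hz hz2)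
  have hJ' : nt 1 c = J := Finset.ext fun i => by simp [mem_nt, hJ]
  rw [hJ', show cyc (1 : Equiv.Perm (Fin t)) = 0 by simp [cyc], Nat.zero_add, Int.natAbs_mul, Int.natAbs_mul,
    Int.natAbs_mul, Int.natAbs_pow, Int.natAbs_pow, Int.natAbs_natCast,
    show (∏ i ∈ J, dval (c i)).natAbs = ∏ i ∈ J, (dval (c i)).natAbs from map_prod Int.natAbsHom _ _,
    Finset.prod_eq_one fun i hi => natAbs_so_three h3 (hz.2.1 i) ((hz.invol hk (by omega) hz2).2 i)
      ((hJ i).2 hi)] at h
  rw [h]
  split <;> simp

/-- multiplying an exchange of two factors by a pure involution commuting with it -/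
theorem wt_negP_mul (hk : Odd k) (h3 : k = 3) {n z : GL (Fin t → Fin k) F} {u v : Fin t} (huv : u ≠ v) {ε : F}
    {b c : Fin t → Matrix (Fin k) (Fin k) F} (hn : Shape n (-1) (Equiv.swap u v) b)
    (hfix : ∀ l, l ≠ u → l ≠ v → b l = 1) (hz : Shape z ε 1 c) (hn2 : n * n = 1) (hz2 : z * z = 1)
    (hc : Commute n z) {J : Finset (Fin t)} (hJ : ∀ i, c i ≠ 1 ↔ i ∈ J) :
    (u ∈ J ↔ v ∈ J) ∧
      (dval ((n * z : GL (Fin t → Fin k) F) : Matrix (Fin t → Fin k) (Fin t → Fin k) F)).natAbs *
        k ^ (1 + (J \ {u, v}).card) = k ^ t := by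
  classical
  have hk2 : 2 ≤ k := by omega
  have hs := hn.mul hz
  have hnz2 : n * z * (n * z) = 1 := by rw [hc.symm.mul_mul_mul_comm, hn2, hz2, one_mul]
  have hinv := (hs.invol hk hk2 hnz2).2
  have hbb := (hn.invol hk hk2 hn2).2
  simp only [mul_one, Equiv.Perm.coe_one, id_eq] at hinv
  have hiff : u ∈ J ↔ v ∈ J := by
    rw [← hJ, ← hJ]
    have h1 := hinv u
    have h2' := hinv v
    rw [Equiv.swap_apply_left] at h1
    rw [Equiv.swap_apply_right] at h2'
    have b1 : b v * b u = 1 := by simpa using hbb u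
    have b2 : b u * b v = 1 := by simpa using hbb v
    constructor
    · intro hu hv
      rw [hv, Matrix.mul_one, ← Matrix.mul_assoc, b1, Matrix.one_mul] at h1
      exact hu h1
    · intro hv hu
      rw [hu, Matrix.mul_one, ← Matrix.mul_assoc, b2, Matrix.one_mul] at h2'
      exact hv h2'
  refine ⟨hiff, ?_⟩
  have h := congrArg Int.natAbs (dval_shape_nt hk hk2 hs hnz2)
  simp only [mul_one, Equiv.Perm.coe_one, id_eq] at h
  have hJ' : nt (Equiv.swap u v) (fun i => b i * c i) = J \ {u, v} := Finset.ext fun i => by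
    rw [mem_nt]
    simp only [Finset.mem_sdiff, Finset.mem_insert, Finset.mem_singleton, not_or]
    by_cases hiu : i = u
    · subst hiu
      simp [huv.symm]
    by_cases hiv : i = v
    · subst hiv
      simp [huv]
    simp [Equiv.swap_apply_of_ne_of_ne hiu hiv, hiu, hiv, hfix i hiu hiv, hJ]
  have hcyc : cyc (Equiv.swap u v) = 1 := by
    have := two_cyc (σ := Equiv.swap u v) (fun i => Equiv.swap_apply_self u v i)
    have hf : (Finset.univ.filter fun i => Equiv.swap u v i = i) = Finset.univ \ {u, v} := Finset.ext fun i => by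
      by_cases hiu : i = u
      · subst hiu; simp [huv.symm]
      by_cases hiv : i = v
      · subst hiv; simp [huv]
      simp [Equiv.swap_apply_of_ne_of_ne hiu hiv, hiu, hiv]
    rw [hf, Finset.card_sdiff, Finset.inter_univ, Finset.card_univ, Fintype.card_fin, Finset.card_pair huv] at this
    have h2t : 2 ≤ t := by simpa [Finset.card_pair huv] using Finset.card_le_univ ({u, v} : Finset (Fin t))
    omega
  rw [hJ', hcyc, Int.natAbs_mul, Int.natAbs_mul, Int.natAbs_mul, Int.natAbs_pow, Int.natAbs_pow,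
    Int.natAbs_natCast, show (∏ i ∈ J \ {u, v}, dval (b i * c i)).natAbs =
      ∏ i ∈ J \ {u, v}, (dval (b i * c i)).natAbs from map_prod Int.natAbsHom _ _,
    Finset.prod_eq_one fun i hi => by
      rw [← hJ'] at hi
      obtain ⟨hfx, hne⟩ := mem_nt.1 hi
      refine natAbs_so_three h3 ((hn.2.1 i).mul (hz.2.1 i)) ?_ hne
      have := hinv i
      rwa [hfx] at this] at h
  rw [h]
  split <;> simp

/-- weights are determined by the value -/
theorem wt_unique (hk2 : 2 ≤ k) {d a b : ℕ} (ha : d * k ^ a = k ^ t) (hb : d * k ^ b = k ^ t) : a = b := by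
  refine Nat.pow_right_injective hk2 (Nat.eq_of_mul_eq_mul_left (n := d) ?_ (ha.trans hb.symm))
  rcases Nat.eq_zero_or_pos d with rfl | h
  · rw [zero_mul] at ha
    exact absurd ha.symm (pow_ne_zero t (by omega))
  · exact h

end CfsgLib.MaxSub.TPow
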